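import Cfsg.Agent.Lib.MinIndexSU.Sphere

/-!
Arithmetic of the point numbers and stabiliser orders of Hermitian spaces.
-/

set_option autoImplicit false
set_option linter.unusedSectionVars false

namespace CfsgLib.MinIndexSU

open CfsgLib.Classical.Herm
open CfsgLib.ClassicalAut (Unitary.Conj)
open CfsgLib.SUParabolic (guOrder guOrder_add_two)

/-- The number of non-zero isotropic vectors. -/
def nIso (q j : ℕ) : ℕ :=
  if Even j then (q ^ j - 1) * (q ^ (j - 1) + 1) else (q ^ j + 1) * (q ^ (j - 1) - 1)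

theorem nIso_eq {F : Type*} [Field F] [Finite F] {q : ℕ} (K : Unitary.Conj F q) (j : ℕ) :
    count K j 0 - 1 = nIso q j := by
  rw [count_zero_nat, Nat.add_sub_cancel, nIso]

variable {q : ℕ}

theorem nIso_le (hq : 2 ≤ q) {j : ℕ} (hj : 2 ≤ j) : nIso q j ≤ q ^ (2 * j - 1) + q ^ j := by
  obtain ⟨i, rfl⟩ : ∃ i, j = i + 1 := ⟨j - 1, by omega⟩
  rw [nIso, Nat.add_sub_cancel, show 2 * (i + 1) - 1 = i + 1 + i by omega, pow_add q (i + 1) i]
  have hi : q ^ i ≤ q ^ (i + 1) := Nat.pow_le_pow_right (by omega) (by omega)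
  split_ifs
  · calc (q ^ (i + 1) - 1) * (q ^ i + 1) ≤ q ^ (i + 1) * (q ^ i + 1) := Nat.mul_le_mul_right _ (Nat.sub_le _ _)
      _ = _ := by ring
  · obtain ⟨a, ha⟩ : ∃ a, q ^ i = a + 1 := ⟨q ^ i - 1, by have := Nat.one_le_pow i q (by omega); omega⟩
    rw [ha, Nat.add_sub_cancel]
    rw [ha] at hi
    have : (q ^ (i + 1) + 1) * a = q ^ (i + 1) * a + a := by ring
    rw [this, mul_add, mul_one]
    omega

theorem nIso_mono_step (hq : 2 ≤ q) (j : ℕ) : nIso q j ≤ nIso q (j + 1) := by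
  rcases Nat.eq_zero_or_pos j with rfl | hj
  · simp [nIso]
  obtain ⟨i, rfl⟩ : ∃ i, j = i + 1 := ⟨j - 1, by omega⟩
  have h1 : 1 ≤ q ^ i := Nat.one_le_pow _ _ (by omega)
  have h2 : 2 * q ^ i ≤ q ^ (i + 1) := by rw [pow_succ, mul_comm]; exact Nat.mul_le_mul_left _ hq
  have h3 : 2 * q ^ (i + 1) ≤ q ^ (i + 1 + 1) := by
    rw [pow_succ (n := i + 1), mul_comm]; exact Nat.mul_le_mul_left _ hq
  simp only [nIso, Nat.add_sub_cancel]
  by_cases he : Even (i + 1)
  · rw [if_pos he, if_neg (fun h => Nat.even_add_one.1 h he), mul_comm]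
    exact Nat.mul_le_mul_right _ (by omega)
  · rw [if_neg he, if_pos (Nat.even_add_one.2 he), mul_comm (q ^ (i + 1 + 1) - 1)]
    exact Nat.mul_le_mul_left _ (by omega)

theorem nIso_mono (hq : 2 ≤ q) {i j : ℕ} (h : i ≤ j) : nIso q i ≤ nIso q j :=
  Nat.le_induction le_rfl (fun k _ ih => ih.trans (nIso_mono_step hq k)) j h

theorem iso_target (hq : 2 ≤ q) {k : ℕ} (hk : 4 ≤ k) :
    3 * nIso q (k + 2) ≤ 5 * (q ^ (2 * k + 1) * (q ^ 2 - 1)) := by
  have h := nIso_le hq (show 2 ≤ k + 2 by omega)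
  have h1 : q ^ (k + 2) ≤ q ^ (2 * k + 1) := Nat.pow_le_pow_right (by omega) (by omega)
  rw [show 2 * (k + 2) - 1 = 2 * k + 1 + 2 by omega, pow_add] at h
  obtain ⟨a, ha⟩ : ∃ a, q ^ 2 = a + 4 := ⟨q ^ 2 - 4, by
    have : 2 ^ 2 ≤ q ^ 2 := Nat.pow_le_pow_left hq 2
    omega⟩
  rw [ha] at h
  rw [ha, show a + 4 - 1 = a + 3 by omega]
  nlinarith

theorem low_pair_arith (hq : 2 ≤ q) {k : ℕ} (hk : 4 ≤ k) :
    5 * (q ^ (2 * k) * (q ^ k - 1)) ≤ 6 * (low q k * low q (k - 1)) := by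
  obtain ⟨i, rfl⟩ : ∃ i, k = i + 1 := ⟨k - 1, by omega⟩
  obtain ⟨j, rfl⟩ : ∃ j, i = j + 1 := ⟨i - 1, by omega⟩
  simp only [low, Nat.add_sub_cancel]
  set b := q ^ j with hb
  have hb4 : q * q ≤ b := by rw [← pow_two, hb]; exact Nat.pow_le_pow_right (by omega) (by omega)
  have e1 : q ^ (j + 1) = q * b := by rw [hb, pow_succ, mul_comm]
  have e2 : q ^ (j + 1 + 1) = q * q * b := by rw [hb, pow_succ, pow_succ]; ring
  have e3 : q ^ (2 * (j + 1 + 1)) = q * q * b * (q * q * b) := by rw [two_mul, pow_add, e2]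
  rw [e1, e2, e3]
  have h4b : 4 ≤ b := le_trans (Nat.mul_le_mul hq hq) hb4
  have hqb : 0 < q * b := Nat.mul_pos (by omega) (by omega)
  have hqqb : 0 < q * q * b := Nat.mul_pos (Nat.mul_pos (by omega) (by omega)) (by omega)
  obtain ⟨c, hc⟩ : ∃ c, b = c + 1 := ⟨b - 1, by omega⟩
  obtain ⟨x, hx⟩ : ∃ x, q * b = x + 1 := ⟨q * b - 1, by omega⟩
  obtain ⟨y, hy⟩ : ∃ y, q * q * b = y + 1 := ⟨q * q * b - 1, by omega⟩
  by_cases he : Even (j + 1 + 1)
  · rw [if_pos he, if_neg (Nat.even_add_one.1 he), hy, Nat.add_sub_cancel, ← hy, hc, Nat.add_sub_cancel, ← hc]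
    have key : 5 * (q * q * b * (q * q * b)) ≤ 6 * (q * b * ((q * b + 1) * c)) := by
      have h1 : 5 * (q * q * q * b) ≤ 6 * ((q * b + 1) * c) := by
        have : (q * b + 1) * c + (q * b + 1) = (q * b + 1) * b := by rw [hc]; ring
        have h2 : 6 * (q * b + 1) + 5 * (q * q * q * b) ≤ 6 * ((q * b + 1) * b) := by
          have h3 := Nat.mul_le_mul_left (q * b) hb4
          nlinarith [Nat.mul_le_mul_left b (Nat.mul_le_mul hq hq)]
        omega
      calc 5 * (q * q * b * (q * q * b)) = q * b * (5 * (q * q * q * b)) := by ring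
        _ ≤ q * b * (6 * ((q * b + 1) * c)) := Nat.mul_le_mul_left _ h1
        _ = _ := by ring
    calc 5 * (q * q * b * (q * q * b) * y) = 5 * (q * q * b * (q * q * b)) * y := by ring
      _ ≤ 6 * (q * b * ((q * b + 1) * c)) * y := Nat.mul_le_mul_right _ key
      _ = _ := by ring
  · have ho : Even (j + 1) := by
      by_contra h
      exact he (Nat.even_add_one.2 h)
    have hb8 : q * q * q ≤ b := by
      have hj : 3 ≤ j := by
        by_contra h
        obtain rfl : j = 2 := by omega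
        exact he (by decide)
      calc q * q * q = q ^ 3 := by ring
        _ ≤ _ := Nat.pow_le_pow_right (by omega) hj
    rw [if_neg he, if_pos ho, hy, Nat.add_sub_cancel, ← hy, hx, Nat.add_sub_cancel]
    have h1 : 5 * (q * q * q * q * b) ≤ 6 * (x * x) := by
      have h2 : x * x + 2 * (q * b) = q * b * (q * b) + 1 := by rw [hx]; ring
      have h3 : 12 * (q * b) + 5 * (q * q * q * q * b) ≤ 6 * (q * b * (q * b)) := by
        have h4 := Nat.mul_le_mul_left (q * q * b) hb8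
        nlinarith [Nat.mul_le_mul_left (q * b) (Nat.mul_le_mul hq (Nat.mul_le_mul hq (Nat.mul_le_mul hq hq)))]
      omega
    calc 5 * (q * q * b * (q * q * b) * y) ≤ 5 * (q * q * b * (q * q * b) * (q * q * b + 1)) :=
          Nat.mul_le_mul_left _ (Nat.mul_le_mul_left _ (by omega))
      _ = b * (5 * (q * q * q * q * b) * (q * q * b + 1)) := by ring
      _ ≤ b * (6 * (x * x) * (q * q * b + 1)) := Nat.mul_le_mul_left _ (Nat.mul_le_mul_right _ h1)
      _ = _ := by ring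

theorem low_line_arith (hq : 2 ≤ q) {k : ℕ} (hk : 4 ≤ k) : 5 * (q ^ 2 * (q ^ 2 - 1)) ≤ 3 * low q k := by
  obtain ⟨a, ha⟩ : ∃ a, q ^ (k - 1) = a + 1 := ⟨q ^ (k - 1) - 1, by
    have := Nat.one_le_pow (k - 1) q (by omega); omega⟩
  have h3 : q ^ 3 ≤ q ^ (k - 1) := Nat.pow_le_pow_right (by omega) (by omega)
  have h4 : q ^ 4 ≤ q ^ k := Nat.pow_le_pow_right (by omega) hk
  have h4' : q ^ 2 * (q ^ 2 - 1) ≤ q ^ 4 := by
    rw [show q ^ 4 = q ^ 2 * q ^ 2 by ring]
    exact Nat.mul_le_mul_left _ (Nat.sub_le _ _)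
  have h8 : 8 ≤ q ^ 3 := Nat.pow_le_pow_left hq 3
  obtain ⟨b, hb⟩ : ∃ b, q ^ k = b + 1 := ⟨q ^ k - 1, by
    have := Nat.one_le_pow k q (by omega); omega⟩
  rw [low]
  split_ifs
  · rw [hb, Nat.add_sub_cancel, ha]
    rw [ha] at h3
    rw [hb] at h4
    nlinarith
  · rw [ha, Nat.add_sub_cancel]
    rw [ha] at h3
    nlinarith

/-- The order of a stabiliser of a totally isotropic subspace in the general unitary group. -/
def stabOrd (q r j : ℕ) : ℕ :=
  q ^ (r * (2 * (2 * r + j) - 3 * r)) * (∏ i : Fin r, ((q ^ 2) ^ r - (q ^ 2) ^ (i : ℕ))) * guOrder q j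

variable {F : Type*} [Field F] [Finite F] (K : Unitary.Conj F q)

include K

theorem gl_succ (r : ℕ) : ∏ i : Fin (r + 1), ((q ^ 2) ^ (r + 1) - (q ^ 2) ^ (i : ℕ)) =
    ((q ^ 2) ^ (r + 1) - 1) * (q ^ 2) ^ r * ∏ i : Fin r, ((q ^ 2) ^ r - (q ^ 2) ^ (i : ℕ)) := by
  rw [Fin.prod_univ_succ]
  simp only [Fin.val_zero, pow_zero, Fin.val_succ, pow_succ, ← Nat.sub_mul]
  rw [Finset.prod_mul_distrib, Finset.prod_const, Finset.card_univ, Fintype.card_fin]
  ring

theorem stabOrd_le {r : ℕ} (hr : 2 ≤ r) : ∀ j, (q + 1) * (q ^ 3 + 1) * q ^ (2 * r) * stabOrd q r j ≤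
    q ^ 4 * guOrder q (2 * r + j) := by
  have hq := K.two_le
  induction r, hr using Nat.le_induction with
  | base =>
    intro j
    rw [show 2 * 2 + j = j + 2 + 2 by omega, guOrder_add_two K, guOrder_add_two K, nIso_eq, nIso_eq, stabOrd,
      gl_succ K 1, gl_succ K 0]
    simp only [Finset.univ_eq_empty, Finset.prod_empty, zero_add, pow_zero, pow_one, mul_one]
    have hE4 : nIso q 4 ≤ nIso q (j + 2 + 2) := nIso_mono hq (by omega)
    have hE2 : nIso q 2 ≤ nIso q (j + 2) := nIso_mono hq (by omega)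
    rw [nIso, if_pos (by decide)] at hE4 hE2
    simp only [show 4 - 1 = 3 from rfl, show 2 - 1 = 1 from rfl, pow_one] at hE4 hE2
    calc _ = q ^ 4 * (q ^ (2 * (2 * (2 * 2 + j) - 3 * 2)) * q ^ 2 * guOrder q j) *
          (((q ^ 4 - 1) * (q ^ 3 + 1)) * ((q ^ 2 - 1) * (q + 1))) := by
          rw [show (q ^ 2) ^ 2 = q ^ 4 by ring]
          ring
      _ ≤ q ^ 4 * (q ^ (2 * (2 * (2 * 2 + j) - 3 * 2)) * q ^ 2 * guOrder q j) *
          (nIso q (j + 2 + 2) * nIso q (j + 2)) := Nat.mul_le_mul_left _ (Nat.mul_le_mul hE4 hE2)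
      _ = _ := by
          rw [show 2 * (2 * (2 * 2 + j) - 3 * 2) = 4 * j + 4 by omega]
          ring
  | succ r hr ih =>
    intro j
    rw [show 2 * (r + 1) + j = 2 * r + j + 2 by omega, guOrder_add_two K, nIso_eq, stabOrd, gl_succ K]
    have hE : ((q ^ 2) ^ (r + 1) - 1) * q ^ 2 ≤ nIso q (2 * r + j + 2) := by
      refine le_trans ?_ (nIso_mono hq (show 2 * r + 2 ≤ 2 * r + j + 2 by omega))
      rw [nIso, if_pos ⟨r + 1, by omega⟩, ← pow_mul, show 2 * (r + 1) = 2 * r + 2 by omega]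
      exact Nat.mul_le_mul_left _ ((Nat.pow_le_pow_right (by omega) (by omega)).trans (Nat.le_succ _))
    calc _ = q ^ (2 * (2 * r + j) + 1) * (((q ^ 2) ^ (r + 1) - 1) * q ^ 2) *
          ((q + 1) * (q ^ 3 + 1) * q ^ (2 * r) * stabOrd q r j) := by
          rw [stabOrd, show (r + 1) * (2 * (2 * (r + 1) + j) - 3 * (r + 1)) =
            r * (2 * (2 * r + j) - 3 * r) + (2 * r + 2 * j + 1) by
              rw [show 2 * (2 * (r + 1) + j) - 3 * (r + 1) = (r + 1) + 2 * j by omega,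
                show 2 * (2 * r + j) - 3 * r = r + 2 * j by omega]
              ring]
          ring
      _ ≤ q ^ (2 * (2 * r + j) + 1) * nIso q (2 * r + j + 2) * (q ^ 4 * guOrder q (2 * r + j)) :=
          Nat.mul_le_mul (Nat.mul_le_mul_left _ hE) (ih j)
      _ = _ := by ring

end CfsgLib.MinIndexSU
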