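import Cfsg.Agent.Lib.MinIndexSU.Orbit

/-!
Over four elements, a function on isotropic vectors that is homogeneous and additive where defined is
given by the form.
-/

set_option autoImplicit false
set_option linter.unusedSectionVars false

namespace CfsgLib.MinIndexSU

open Matrix Cfsg CfsgLib.Classical.Herm
open CfsgLib.ClassicalAut (Unitary.Conj)

variable {F : Type*} [Field F] [Finite F] {q : ℕ} (K : Unitary.Conj F q) {k : ℕ}

local notation "H" => hermForm k F q

include K

theorem norm_eq_one_two (hq : q = 2) {a : F} (ha : a ≠ 0) : a * K.bar a = 1 := by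
  cases nonempty_fintype F
  have h := FiniteField.pow_card_sub_one_eq_one a ha
  rw [← Nat.card_eq_fintype_card, K.card, hq] at h
  rw [K.bar_apply, hq]
  linear_combination h

theorem exists_repr_cone (hq : q = 2) (hk : 3 ≤ k) (α : (Fin k → F) → F)
    (hs : ∀ (μ : F) w, H w w = 0 → α (μ • w) = μ * α w)
    (hadd : ∀ w w', H w w = 0 → H w' w' = 0 → H (w + w') (w + w') = 0 → α (w + w') = α w + α w') :
    ∃ x₀ : Fin k → F, ∀ w, H w w = 0 → α w = H w x₀ := by
  classical
  cases nonempty_fintype F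
  have h2 : (2 : F) = 0 := two_eq_zero K hq
  obtain ⟨ω, hω, hω3⟩ := exists_omega K hq
  have hω0 : ω ≠ 0 := fun h => by rw [h] at hω3; simp at hω3
  have hω1 : 1 + ω ≠ 0 := fun h => one_ne_zero (α := F) (by linear_combination hω - ω * h)
  set i₀ : Fin k := ⟨0, by omega⟩
  set i₁ : Fin k := ⟨1, by omega⟩
  have h01 : i₀ ≠ i₁ := by simp [i₀, i₁, Fin.ext_iff]
  let δ : Fin k → (Fin k → F) := fun i => Pi.single i 1
  have hδ : ∀ i j, H (δ i) (δ j) = if i = j then 1 else 0 := fun i j => h_single_single K i j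
  have hpair : ∀ i j : Fin k, i ≠ j → ∀ a : F, a ≠ 0 → H (δ i + a • δ j) (δ i + a • δ j) = 0 := by
    intro i j hij a ha
    simp only [h_add_left K, h_add_right K, h_smul_left K, h_smul_right K, hδ, if_neg hij, if_neg hij.symm, if_true,
      mul_zero, add_zero, zero_add, mul_one]
    rw [norm_eq_one_two K hq ha]
    linear_combination h2
  let l₁ := (α (δ i₀ + δ i₁) + α (δ i₀ + ω • δ i₁)) / (1 + ω)
  let l₀ := α (δ i₀ + δ i₁) + l₁
  let l : Fin k → F := fun j => if j = i₀ then l₀ else α (δ i₀ + δ j) + l₀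
  let x₀ : Fin k → F := fun j => K.bar (l j)
  have hx : ∀ i, H (δ i) x₀ = l i := fun i => (h_single_left K x₀ i).trans (K.bar_bar _)
  let β : (Fin k → F) → F := fun w => α w + H w x₀
  have βs : ∀ (μ : F) w, H w w = 0 → β (μ • w) = μ * β w := fun μ w hw => by
    show α (μ • w) + H (μ • w) x₀ = μ * (α w + H w x₀)
    rw [hs μ w hw, h_smul_left K, mul_add]
  have βa : ∀ w w', H w w = 0 → H w' w' = 0 → H (w + w') (w + w') = 0 → β w = 0 → β w' = 0 → β (w + w') = 0 := by
    intro w w' h h' hh e e'
    have e : α w + H w x₀ = 0 := e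
    have e' : α w' + H w' x₀ = 0 := e'
    show α (w + w') + H (w + w') x₀ = 0
    rw [hadd w w' h h' hh, h_add_left K]
    linear_combination e + e'
  have dbl : ∀ y : Fin k → F, y + y = 0 := fun y => funext fun i => by
    show y i + y i = 0
    linear_combination (y i) * h2
  have one' : ∀ i j : Fin k, δ i + δ j = δ i + (1 : F) • δ j := fun i j => by rw [one_smul]
  have p0 : ∀ j, j ≠ i₀ → β (δ i₀ + δ j) = 0 := fun j hj => by
    show α (δ i₀ + δ j) + H (δ i₀ + δ j) x₀ = 0
    rw [h_add_left K, hx, hx]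
    simp only [l, if_pos, if_neg hj]
    linear_combination (α (δ i₀ + δ j) + l₀) * h2
  have pω1 : β (δ i₀ + ω • δ i₁) = 0 := by
    show α (δ i₀ + ω • δ i₁) + H (δ i₀ + ω • δ i₁) x₀ = 0
    rw [h_add_left K, h_smul_left K, hx, hx]
    simp only [l, if_pos, if_neg h01.symm]
    have e : l₁ * (1 + ω) = α (δ i₀ + δ i₁) + α (δ i₀ + ω • δ i₁) := div_mul_cancel₀ _ hω1
    show _ + (α (δ i₀ + δ i₁) + l₁ + ω * (α (δ i₀ + δ i₁) + (α (δ i₀ + δ i₁) + l₁))) = 0
    linear_combination e + (α (δ i₀ + δ i₁) + α (δ i₀ + ω • δ i₁) + ω * α (δ i₀ + δ i₁)) * h2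
  have step : ∀ (i j m : Fin k) (a b : F), i ≠ j → i ≠ m → m ≠ j → a ≠ 0 → b ≠ 0 →
      β (δ i + b • δ m) = 0 → β (δ m + (a / b) • δ j) = 0 → β (δ i + a • δ j) = 0 := by
    intro i j m a b hij him hmj ha hb e e'
    have eq : δ i + a • δ j = δ i + b • δ m + b • (δ m + (a / b) • δ j) := by
      rw [smul_add, smul_smul, mul_div_cancel₀ _ hb,
        show δ i + b • δ m + (b • δ m + a • δ j) = δ i + (b • δ m + b • δ m) + a • δ j by abel, dbl, add_zero]
    have hy := hpair m j hmj (a / b) (div_ne_zero ha hb)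
    rw [eq]
    refine βa _ _ (hpair i m him b hb) ?_ (eq ▸ hpair i j hij a ha) e (by rw [βs b _ hy, e', mul_zero])
    rw [h_smul_left K, h_smul_right K, hy, mul_zero, mul_zero]
  have swap : ∀ (i j : Fin k) (a : F), i ≠ j → a ≠ 0 → β (δ j + a⁻¹ • δ i) = 0 → β (δ i + a • δ j) = 0 := by
    intro i j a hij ha e
    rw [show δ i + a • δ j = a • (δ j + a⁻¹ • δ i) by rw [smul_add, smul_smul, mul_inv_cancel₀ ha, one_smul, add_comm],
      βs a _ (hpair j i hij.symm _ (inv_ne_zero ha)), e, mul_zero]
  have p0' : ∀ j, j ≠ i₀ → β (δ j + (1 : F) • δ i₀) = 0 := fun j hj => by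
    rw [one_smul, add_comm]; exact p0 j hj
  have pω : ∀ j, j ≠ i₀ → β (δ i₀ + ω • δ j) = 0 := fun j hj => by
    by_cases h : j = i₁
    · rw [h]; exact pω1
    refine step i₀ j i₁ ω ω (Ne.symm hj) h01 (Ne.symm h) hω0 hω0 pω1 ?_
    rw [div_self hω0]
    refine step i₁ j i₀ 1 1 (Ne.symm h) h01.symm (Ne.symm hj) one_ne_zero one_ne_zero (p0' i₁ h01.symm) ?_
    rw [div_one, one_smul]
    exact p0 j hj
  have cases3 : ∀ a : F, a ≠ 0 → a = 1 ∨ a = ω ∨ a = ω⁻¹ := by
    intro a ha
    have hinv : ω⁻¹ = ω * ω := inv_eq_of_mul_eq_one_right (by linear_combination hω3)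
    have h1 := norm_eq_one_two K hq ha
    rw [K.bar_apply, hq] at h1
    have h : (a - 1) * ((a - ω) * (a - ω * ω)) = 0 := by
      linear_combination h1 + (a - a * a) * hω + (a - 1) * hω3
    rw [hinv]
    rcases mul_eq_zero.1 h with h | h
    · exact Or.inl (sub_eq_zero.1 h)
    · rcases mul_eq_zero.1 h with h | h
      · exact Or.inr (Or.inl (sub_eq_zero.1 h))
      · exact Or.inr (Or.inr (sub_eq_zero.1 h))
  have pn : ∀ i j, i ≠ j → i ≠ i₀ → j ≠ i₀ → ∀ a : F, a ≠ 0 → β (δ i + a • δ j) = 0 := by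
    intro i j hij hi hj a ha
    have h1 : ∀ i j, i ≠ j → i ≠ i₀ → j ≠ i₀ → β (δ i + ω • δ j) = 0 := fun i j hij hi hj => by
      refine step i j i₀ ω 1 hij hi (Ne.symm hj) hω0 one_ne_zero (p0' i hi) ?_
      rw [div_one]; exact pω j hj
    rcases cases3 a ha with rfl | rfl | rfl
    · refine step i j i₀ 1 1 hij hi (Ne.symm hj) one_ne_zero one_ne_zero (p0' i hi) ?_
      rw [div_one, one_smul]; exact p0 j hj
    · exact h1 i j hij hi hj
    · refine swap i j _ hij ha ?_
      rw [inv_inv]
      exact h1 j i hij.symm hj hi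
  have pz : ∀ j, j ≠ i₀ → ∀ a : F, a ≠ 0 → β (δ i₀ + a • δ j) = 0 := fun j hj a ha => by
    obtain ⟨m, hm0, hmj⟩ : ∃ m : Fin k, m ≠ i₀ ∧ m ≠ j := by
      obtain ⟨m, hm⟩ : ∃ m : Fin k, m ∉ ({i₀, j} : Finset (Fin k)) := by
        by_contra hc
        push Not at hc
        have h3 : (Finset.univ : Finset (Fin k)) ⊆ {i₀, j} := fun m _ => hc m
        have := (Finset.card_le_card h3).trans (Finset.card_insert_le _ _)
        simp at this
        omega
      simp only [Finset.mem_insert, Finset.mem_singleton, not_or] at hm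
      exact ⟨m, hm⟩
    refine step i₀ j m a 1 (Ne.symm hj) (Ne.symm hm0) hmj ha one_ne_zero (by rw [one_smul]; exact p0 m hm0) ?_
    rw [div_one]
    exact pn m j hmj hm0 hj a ha
  have all2 : ∀ i j, i ≠ j → ∀ a : F, a ≠ 0 → β (δ i + a • δ j) = 0 := fun i j hij a ha => by
    by_cases hi : i = i₀
    · subst hi; exact pz j hij.symm a ha
    by_cases hj : j = i₀
    · subst hj; exact swap i i₀ a hij ha (pz i hi _ (inv_ne_zero ha))
    exact pn i j hij hi hj a ha
  have main : ∀ c, ∀ w : Fin k → F, H w w = 0 → (Finset.univ.filter fun i => w i ≠ 0).card = c → β w = 0 := by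
    intro c
    induction c using Nat.strong_induction_on with
    | _ c ih =>
      intro w hw hc
      by_cases h0 : w = 0
      · subst h0
        rw [show (0 : Fin k → F) = (0 : F) • (0 : Fin k → F) by rw [zero_smul], βs _ _ hw, zero_mul]
      obtain ⟨i, hi⟩ : ∃ i, w i ≠ 0 := Function.ne_iff.1 h0
      obtain ⟨j, hj, hij⟩ : ∃ j, w j ≠ 0 ∧ i ≠ j := by
        by_contra hcon
        push Not at hcon
        have e : w = w i • δ i := funext fun j => by
          by_cases h : i = j
          · subst h; simp [δ]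
          · have : w j = 0 := by_contra fun h' => h (hcon j h')
            simp [δ, this, Pi.single_apply, Ne.symm h]
        rw [e, h_smul_left K, h_smul_right K, hδ, if_pos rfl, mul_one, norm_eq_one_two K hq hi] at hw
        exact one_ne_zero hw
      set y := w i • (δ i + (w j / w i) • δ j) with hy
      have hyy : H y y = 0 := by rw [hy, h_smul_left K, h_smul_right K, hpair i j hij _ (div_ne_zero hj hi), mul_zero, mul_zero]
      set z := w + y with hz
      have hzc : ∀ m, z m = if m = i ∨ m = j then 0 else w m := fun m => by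
        simp only [hz, hy, δ, Pi.add_apply, Pi.smul_apply, Pi.single_apply, smul_eq_mul]
        by_cases hmi : m = i
        · subst hmi
          rw [if_pos rfl, if_neg hij, if_pos (Or.inl rfl)]
          linear_combination (w m) * h2
        by_cases hmj : m = j
        · subst hmj
          rw [if_neg hmi, if_pos rfl, if_pos (Or.inr rfl), zero_add, mul_one, mul_div_cancel₀ _ hi]
          linear_combination (w m) * h2
        · rw [if_neg hmi, if_neg hmj, if_neg (by simp [hmi, hmj])]; ring
      have hzy : H z y = 0 := by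
        rw [hy, h_smul_right K, h_add_right K, h_smul_right K, h_single K, h_single K, hzc, hzc,
          if_pos (Or.inl rfl), if_pos (Or.inr rfl)]
        ring
      have hwz : w = z + y := by rw [hz, add_assoc, dbl, add_zero]
      have hzz : H z z = 0 := by
        clear_value z y
        have e : H w w = H (z + y) (z + y) := by rw [← hwz]
        rw [h_add_left K, h_add_right K, h_add_right K, hyy, hzy, h_eq_zero_symm K hzy, add_zero, zero_add,
          add_zero, hw] at e
        exact e.symm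
      rw [hwz]
      refine βa z y hzz hyy (by rw [← hwz]; exact hw) (ih _ ?_ z hzz rfl) ?_
      · rw [← hc]
        refine Finset.card_lt_card ((Finset.ssubset_iff_of_subset fun m hm => ?_).2 ⟨i, by simp [hi], by simp [hzc]⟩)
        simp only [Finset.mem_filter, Finset.mem_univ, true_and, hzc] at hm ⊢
        split_ifs at hm with h
        · exact absurd rfl hm
        · exact hm
      · rw [hy, βs _ _ (hpair i j hij _ (div_ne_zero hj hi)), all2 i j hij _ (div_ne_zero hj hi), mul_zero]
  refine ⟨x₀, fun w hw => ?_⟩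
  have h : α w + H w x₀ = 0 := main _ w hw rfl
  linear_combination h - (H w x₀) * h2

end CfsgLib.MinIndexSU
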