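import Cfsg.Agent.Lib.MinIndexSU.Dich

/-!
Orbit bounds for the index: lines with a given norm, and complements of the unipotent radical.
-/

set_option autoImplicit false
set_option linter.unusedSectionVars false

namespace CfsgLib.MinIndexSU

open Matrix Cfsg CfsgLib.Classical.Herm CfsgLib.Classical.Elation
open CfsgLib.ClassicalAut (Unitary.Conj)

variable {F : Type*} [Field F] [Finite F] {q : ℕ} (K : Unitary.Conj F q)

theorem app_zero {n : ℕ} (g : SU n F q) : app g (0 : Fin n → F) = 0 := mulVec_zero _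

theorem app_ne_zero {n : ℕ} (g : SU n F q) {x : Fin n → F} (h : x ≠ 0) : app g x ≠ 0 := fun e =>
  h (app_injective g (e.trans (app_zero g).symm))

/-- The stabiliser of a line. -/
def lineStab {n : ℕ} (z : Fin n → F) (hz : z ≠ 0) : Subgroup (SU n F q) where
  carrier := {g | ∃ c : F, app g z = c • z}
  one_mem' := ⟨1, by rw [app_one, one_smul]⟩
  mul_mem' := fun {a b} ⟨c, h⟩ ⟨c', h'⟩ => ⟨c' * c, by rw [app_mul, h', app_smul, h, smul_smul]⟩
  inv_mem' := fun {a} ⟨c, h⟩ => ⟨c⁻¹, by
    rcases eq_or_ne c 0 with rfl | hc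
    · exact absurd (h.trans (zero_smul F z)) (app_ne_zero a hz)
    · conv_rhs => rw [← app_inv a z, h, app_smul, smul_smul, inv_mul_cancel₀ hc, one_smul]⟩

include K

open _root_.Classical in
/-- The number of non-zero vectors of a given norm. -/
theorem card_norm_set {n : ℕ} (γ : F) (hγ : K.bar γ = γ) :
    Nat.card {y : Fin n → F // y ≠ 0 ∧ hermForm n F q y y = γ} =
      if γ = 0 then nIso q n else count K n 1 := by
  classical
  split_ifs with h
  · subst h
    rw [← nIso_eq K n, ← card_norm_vec K]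
    let e : {v : Fin n → F // hermForm n F q v v = 0} ≃
        Option {y : Fin n → F // y ≠ 0 ∧ hermForm n F q y y = 0} :=
      { toFun := fun v => if h : v.1 = 0 then none else some ⟨v.1, h, v.2⟩
        invFun := fun o => o.elim ⟨0, h_zero_left K _⟩ fun v => ⟨v.1, v.2.2⟩
        left_inv := fun v => by
          by_cases h : v.1 = 0
          · simp only [dif_pos h, Option.elim_none]; exact Subtype.ext h.symm
          · simp only [dif_neg h, Option.elim_some]
        right_inv := fun o => by rcases o with _ | ⟨c, hc, hc0⟩ <;> simp_all }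
    rw [Nat.card_congr e, Finite.card_option, Nat.add_sub_cancel]
  · rw [← count_smul K n hγ h, ← card_norm_vec K]
    exact Nat.card_congr (Equiv.subtypeEquivRight fun v =>
      ⟨fun hv => hv.2, fun hv => ⟨fun e => h (by rw [← hv, e, h_zero_left K]), hv⟩⟩)

/-- A subgroup fixing a line: the index is at least the number of lines with its norm. -/
theorem line_bound {n : ℕ} (hn : 3 ≤ n) {z : Fin n → F} (hz : z ≠ 0) {M : Subgroup (SU n F q)}
    (hM : M ≤ lineStab z hz) :
    Nat.card {y : Fin n → F // y ≠ 0 ∧ hermForm n F q y y = hermForm n F q z z} ≤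
      M.index * Nat.card {c : F // c ≠ 0 ∧ c * K.bar c * hermForm n F q z z = hermForm n F q z z} := by
  classical
  refine le_trans ?_ (Nat.mul_le_mul_right _ (Nat.le_of_dvd (Nat.pos_of_ne_zero Subgroup.index_ne_zero_of_finite)
    (Subgroup.index_dvd_of_le hM)))
  rw [Subgroup.index_eq_card, ← Nat.card_prod]
  set S : Subgroup (SU n F q) := lineStab z hz with hS
  have hex : ∀ y : {y : Fin n → F // y ≠ 0 ∧ hermForm n F q y y = hermForm n F q z z},
      ∃ g : SU n F q, app g z = y.1 := fun y => exists_move_one K hn hz y.2.1 y.2.2.symm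
  choose g hg using hex
  have hc : ∀ y, ∃ c : F, app ((Quotient.out (QuotientGroup.mk (g y) : SU n F q ⧸ S))⁻¹ * g y) z = c • z := fun y => by
    have h : (Quotient.out (QuotientGroup.mk (g y) : SU n F q ⧸ S))⁻¹ * g y ∈ S :=
      QuotientGroup.eq.1 (Quotient.out_eq _)
    exact h
  choose c hc using hc
  have hy : ∀ y, y.1 = c y • app (Quotient.out (QuotientGroup.mk (g y) : SU n F q ⧸ S)) z := fun y => by
    have := congrArg (app (Quotient.out (QuotientGroup.mk (g y) : SU n F q ⧸ S))) (hc y)
    rwa [← app_mul, mul_inv_cancel_left, hg, app_smul] at this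
  refine Nat.card_le_card_of_injective (fun y => ((QuotientGroup.mk (g y) : SU n F q ⧸ S),
    (⟨c y, fun h => y.2.1 (by rw [hy y, h, zero_smul]), by
      have h := y.2.2
      rw [hy y, h_smul_left K, h_smul_right K, h_app] at h
      linear_combination h⟩ : {c : F // c ≠ 0 ∧ c * K.bar c * hermForm n F q z z = hermForm n F q z z})))
    fun a b e => ?_
  simp only [Prod.mk.injEq, Subtype.mk.injEq] at e
  exact Subtype.ext (by rw [hy a, hy b, e.1, e.2])

theorem card_scalar_iso : Nat.card {c : F // c ≠ 0 ∧ c * K.bar c * (0 : F) = 0} = q ^ 2 - 1 := by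
  rw [← K.card, ← Nat.card_units]
  exact Nat.card_congr
    { toFun := fun c => Units.mk0 c.1 c.2.1
      invFun := fun u => ⟨u, u.ne_zero, mul_zero _⟩
      left_inv := fun c => rfl
      right_inv := fun u => Units.ext rfl }

theorem card_scalar_aniso {γ : F} (hγ : γ ≠ 0) : Nat.card {c : F // c ≠ 0 ∧ c * K.bar c * γ = γ} = q + 1 := by
  rw [← card_norm_one K]
  exact Nat.card_congr (Equiv.subtypeEquivRight fun c =>
    ⟨fun h => mul_right_cancel₀ hγ (h.2.trans (one_mul γ).symm),
      fun h => ⟨fun e => by rw [e, zero_mul] at h; exact zero_ne_one h, by rw [h, one_mul]⟩⟩)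

variable {k : ℕ} (P : HPair (F := F) (q := q) (k := k)) (M : Subgroup (SU (2 + k) F q))

/-- A set containing all multiples of the images of the point. -/
theorem compl_orbit_bound (hk : 1 ≤ k) (hb : M ⊓ rad K P = ⊥) (O : Set (Fin (2 + k) → F))
    (hO : ∀ m ∈ M, ∀ c : F, c ≠ 0 → c • app m P.v ∈ O) :
    nIso q (2 + k) * q ^ (2 * k + 1) ≤ M.index * Nat.card O := by
  classical
  set S := pointStab P with hS
  have hv := v_ne P
  have hlift : Nat.card (lift K P M) ≤ Nat.card (levi P) := Subgroup.card_le_of_le fun m hm => hm.1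
  have h1 : Nat.card ↥(M ⊓ S) ≤ Nat.card (levi P) := by
    refine (card_inter_stab K P M hk).trans ?_
    rw [hb, Subgroup.card_bot, one_mul]
    exact hlift
  have h2 : q ^ (2 * k + 1) * Nat.card (levi P) ≤ Nat.card S := by
    refine le_trans (Nat.mul_le_mul_right _ ?_) (card_stab_ge K P)
    have := card_rad K P hk
    rwa [card_skew K, ← pow_succ] at this
  have h3 : nIso q (2 + k) ≤ S.index * (q ^ 2 - 1) := by
    have h := line_bound K (show 3 ≤ 2 + k by omega) hv (M := S) le_rfl
    rw [P.hv, card_scalar_iso K, card_norm_set K 0 (map_zero _), if_pos rfl] at h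
    exact h
  have h4 : M.relIndex S * Nat.card ↥(M ⊓ S) = Nat.card S := relIndex_mul_card M S
  have h5 : S.relIndex M * (q ^ 2 - 1) ≤ Nat.card O := by
    rw [← K.card, ← Nat.card_units, Subgroup.relIndex, Subgroup.index_eq_card, ← Nat.card_prod]
    refine Nat.card_le_card_of_injective
      (fun p => (⟨(p.2 : F) • app (p.1.out : SU (2 + k) F q) P.v, hO _ p.1.out.2 _ p.2.ne_zero⟩ : O)) fun a b e => ?_
    have e1 : (a.2 : F) • app (a.1.out : SU (2 + k) F q) P.v = (b.2 : F) • app (b.1.out : SU (2 + k) F q) P.v :=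
      congrArg Subtype.val e
    have e2 : app ((a.1.out : SU (2 + k) F q)⁻¹ * (b.1.out : SU (2 + k) F q)) P.v = ((a.2 : F) / b.2) • P.v := by
      rw [app_mul, show app (b.1.out : SU (2 + k) F q) P.v = ((a.2 : F) / b.2) • app (a.1.out : SU (2 + k) F q) P.v by
        rw [div_eq_inv_mul, ← smul_smul, e1, smul_smul, inv_mul_cancel₀ b.2.ne_zero, one_smul], app_smul, app_inv]
    have e3 : a.1 = b.1 := by
      rw [← Quotient.out_eq a.1, ← Quotient.out_eq b.1]
      exact QuotientGroup.eq.2 (show ((a.1.out : M)⁻¹ * b.1.out : M) ∈ S.subgroupOf M from ⟨_, e2⟩)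
    rw [e3] at e1
    refine Prod.ext e3 (Units.ext (smul_left_injective F (app_ne_zero _ hv) e1))
  have hG1 := (M : Subgroup (SU (2 + k) F q)).card_mul_index
  have hG2 := S.card_mul_index
  have h6 : S.relIndex M * Nat.card ↥(M ⊓ S) = Nat.card M := by
    rw [inf_comm]
    exact relIndex_mul_card S M
  refine Nat.le_of_mul_le_mul_right ?_ (show 0 < Nat.card (levi P) from Nat.card_pos)
  calc nIso q (2 + k) * q ^ (2 * k + 1) * Nat.card (levi P)
      = nIso q (2 + k) * (q ^ (2 * k + 1) * Nat.card (levi P)) := by ring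
    _ ≤ S.index * (q ^ 2 - 1) * Nat.card S := Nat.mul_le_mul h3 h2
    _ = (Nat.card S * S.index) * (q ^ 2 - 1) := by ring
    _ = (Nat.card M * M.index) * (q ^ 2 - 1) := by rw [hG1, hG2]
    _ = M.index * (S.relIndex M * (q ^ 2 - 1) * Nat.card ↥(M ⊓ S)) := by rw [← h6]; ring
    _ ≤ M.index * (Nat.card O * Nat.card (levi P)) := Nat.mul_le_mul_left _ (Nat.mul_le_mul h5 h1)
    _ = _ := by ring

end CfsgLib.MinIndexSU
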