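import Cfsg.Agent.Lib.MinIndexSU.Key

/-!
The key bound in dimension three.
-/

set_option autoImplicit false
set_option linter.unusedSectionVars false

namespace CfsgLib.MinIndexSU

open Matrix Cfsg CfsgLib.Classical.Herm
open CfsgLib.ClassicalAut (Unitary.Conj)

variable {F : Type*} [Field F] [Finite F] {q : ℕ} (K : Unitary.Conj F q)

local notation "H" => hermForm 3 F q
local notation "V" => (Fin 3 → F)

/-- A function of degree two with two values takes each non-zero value on at most three quarters. -/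
theorem card_level_le {Γ R : Type*} [AddCommGroup Γ] [Finite Γ] [Field R] (N : Γ → R) (B : Γ → Γ →+ R)
    (hB : ∀ x y, N (x + y) = N x + N y + B x y) (hBB : ∀ x, B x x = 2 * N x) {γ : R} (hγ : γ ≠ 0)
    (hval : ∀ x, N x = 0 ∨ N x = γ) :
    4 * Nat.card {x // N x = γ} ≤ 3 * Nat.card Γ ∧
      ((∀ x y, B x y = 0) → 2 * Nat.card {x // N x = γ} ≤ Nat.card Γ) := by
  classical
  cases nonempty_fintype Γ
  rcases isEmpty_or_nonempty {x // N x = γ} with he | ⟨⟨x, hx⟩⟩
  · rw [Nat.card_of_isEmpty, mul_zero]; exact ⟨Nat.zero_le _, fun _ => Nat.zero_le _⟩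
  set S : Finset Γ := Finset.univ.filter fun y => N y = γ with hS
  rw [show Nat.card {x // N x = γ} = S.card by
    rw [Nat.card_eq_fintype_card, Fintype.card_subtype], Nat.card_eq_fintype_card]
  refine ⟨?_, fun hB0 => ?_⟩
  swap
  · have hdis : Disjoint S (S.image (x + ·)) := by
      rw [Finset.disjoint_left]
      intro y hy hy'
      obtain ⟨z, hz, rfl⟩ := Finset.mem_image.1 hy'
      simp only [hS, Finset.mem_filter, Finset.mem_univ, true_and] at hy hz
      rw [hB, hB0, hx, hz, add_zero] at hy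
      exact hγ (by linear_combination hy)
    have h := Finset.card_le_univ (S ∪ S.image (x + ·))
    rw [Finset.card_union_of_disjoint hdis, Finset.card_image_of_injective _ (add_right_injective x)] at h
    omega
  have hx0 : N x = γ := hx
  rcases hval (x + x) with h4 | h4
  · -- two is zero
    have h2 : (2 : R) = 0 := by
      rw [hB, hBB, hx0] at h4
      have : (2 : R) * 2 * γ = 0 := by linear_combination h4
      exact mul_self_eq_zero.1 ((mul_eq_zero.1 this).resolve_right hγ)
    set Y : Finset Γ := Finset.univ.filter fun y => B x y = 0 with hY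
    have hYx : ∀ y, B x (x + y) = B x y := fun y => by rw [map_add, hBB, h2, zero_mul, zero_add]
    have hone : ∀ y, y ∈ Y → y ∈ S → x + y ∉ S := fun y hy hys h => by
      simp only [hY, hS, Finset.mem_filter, Finset.mem_univ, true_and] at hy hys h
      rw [hB, hy, hx0, hys, add_zero] at h
      exact hγ (by linear_combination h)
    have h1 : 2 * (Y ∩ S).card ≤ Y.card := by
      have hdis : Disjoint (Y ∩ S) ((Y ∩ S).image (x + ·)) := by
        rw [Finset.disjoint_left]
        intro y hy hy'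
        obtain ⟨z, hz, rfl⟩ := Finset.mem_image.1 hy'
        exact hone z (Finset.mem_inter.1 hz).1 (Finset.mem_inter.1 hz).2 (Finset.mem_inter.1 hy).2
      have hsub : (Y ∩ S) ∪ (Y ∩ S).image (x + ·) ⊆ Y := by
        intro y hy
        rcases Finset.mem_union.1 hy with h | h
        · exact (Finset.mem_inter.1 h).1
        · obtain ⟨z, hz, rfl⟩ := Finset.mem_image.1 h
          have := (Finset.mem_inter.1 hz).1
          simp only [hY, Finset.mem_filter, Finset.mem_univ, true_and] at this ⊢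
          rwa [hYx]
      have h := Finset.card_le_card hsub
      rw [Finset.card_union_of_disjoint hdis, Finset.card_image_of_injective _ (add_right_injective x)] at h
      omega
    have hval2 : ∀ y, B x y = 0 ∨ B x y = γ := fun y => by
      have e := hB x y
      rw [hx0] at e
      rcases hval (x + y) with h | h <;> rcases hval y with h' | h' <;> rw [h, h'] at e
      · right; linear_combination (-1 : R) * e - γ * h2
      · left; linear_combination (-1 : R) * e - γ * h2
      · left; linear_combination (-1 : R) * e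
      · right; linear_combination (-1 : R) * e - γ * h2
    have h2Y : Fintype.card Γ ≤ 2 * Y.card := by
      by_cases hall : ∀ y, B x y = 0
      · rw [hY, Finset.filter_true_of_mem (fun y _ => hall y), Finset.card_univ]; omega
      push Not at hall
      obtain ⟨y₀, hy₀⟩ := hall
      have hcov : (Finset.univ : Finset Γ) ⊆ Y ∪ Y.image (y₀ + ·) := fun y _ => by
        by_cases h : B x y = 0
        · exact Finset.mem_union_left _ (by simp [hY, h])
        · refine Finset.mem_union_right _ (Finset.mem_image.2 ⟨y - y₀, ?_, add_sub_cancel y₀ y⟩)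
          simp [hY, map_sub, (hval2 y).resolve_left h, (hval2 y₀).resolve_left hy₀]
      have h := (Finset.card_le_card hcov).trans (Finset.card_union_le _ _)
      have := Finset.card_image_le (s := Y) (f := (y₀ + ·))
      rw [Finset.card_univ] at h
      omega
    have h3 : S.card ≤ (Y ∩ S).card + (Fintype.card Γ - Y.card) := by
      rw [← Finset.card_compl, ← Finset.card_union_of_disjoint]
      · refine Finset.card_le_card fun y hy => ?_
        by_cases h : y ∈ Y
        · exact Finset.mem_union_left _ (Finset.mem_inter.2 ⟨h, hy⟩)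
        · exact Finset.mem_union_right _ (Finset.mem_compl.2 h)
      · exact Finset.disjoint_left.2 fun y hy h => (Finset.mem_compl.1 h) (Finset.mem_inter.1 hy).1
    have := Finset.card_le_univ Y
    omega
  · -- three is zero
    have h3 : (3 : R) = 0 := by
      rw [hB, hBB, hx0] at h4
      exact (mul_eq_zero.1 (show (3 : R) * γ = 0 by linear_combination h4)).resolve_right hγ
    have hone : ∀ y, y ∈ S → x + y ∉ S ∨ x - y ∉ S := fun y hys => by
      by_contra hc
      push Not at hc
      simp only [hS, Finset.mem_filter, Finset.mem_univ, true_and] at hys hc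
      have e1 := hB x y
      have e2 := hB x (-y)
      have e3 := hB y (-y)
      have e0 := hB 0 0
      rw [show x + -y = x - y from (sub_eq_add_neg x y).symm, map_neg] at e2
      rw [add_neg_cancel, map_neg, hBB] at e3
      rw [add_zero, map_zero, add_zero, left_eq_add] at e0
      rw [e0, hys] at e3
      rw [hc.1, hx0, hys] at e1
      rw [hc.2, hx0] at e2
      refine hγ ?_
      linear_combination e1 + e2 - e3 + γ * h3
    have hsub : S ⊆ (Sᶜ).image (· - x) ∪ (Sᶜ).image (x - ·) := fun y hy => by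
      rcases hone y hy with h | h
      · exact Finset.mem_union_left _ (Finset.mem_image.2 ⟨x + y, Finset.mem_compl.2 h, add_sub_cancel_left x y⟩)
      · exact Finset.mem_union_right _ (Finset.mem_image.2 ⟨x - y, Finset.mem_compl.2 h, sub_sub_cancel x y⟩)
    have h := (Finset.card_le_card hsub).trans (Finset.card_union_le _ _)
    have h1 := Finset.card_image_le (s := Sᶜ) (f := (· - x))
    have h2 := Finset.card_image_le (s := Sᶜ) (f := (x - ·))
    have h5 := Finset.card_compl_add_card S
    omega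

include K

/-- Vectors perpendicular to a non-singular one, with given norm. -/
theorem low_le_perp {j : ℕ} (hj : 2 ≤ j) {x : Fin (j + 1) → F} (hx : hermForm (j + 1) F q x x ≠ 0) {δ : F}
    (hδ : K.bar δ = δ) :
    low q j ≤ Nat.card {z : Fin (j + 1) → F //
      z ≠ 0 ∧ hermForm (j + 1) F q x z = 0 ∧ hermForm (j + 1) F q z z = δ} := by
  classical
  obtain ⟨l, hl⟩ := K.exists_norm _ (bar_self K x)
  have hs : ∀ a b : Fin j → F, hermForm (j + 1) F q (Fin.cons (0 : F) a) (Fin.cons (0 : F) b) = hermForm j F q a b :=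
    fun a b => by
      rw [ClassicalAut.Unitary.herm_apply K, ClassicalAut.Unitary.herm_apply K, Fin.sum_univ_succ]
      simp
  have h0 : ∀ a : Fin j → F, hermForm (j + 1) F q (Fin.cons l (0 : Fin j → F)) (Fin.cons (0 : F) a) = 0 := fun a => by
    rw [ClassicalAut.Unitary.herm_apply K, Fin.sum_univ_succ]
    simp
  have hll : hermForm (j + 1) F q (Fin.cons l (0 : Fin j → F)) (Fin.cons l (0 : Fin j → F)) =
      hermForm (j + 1) F q x x := by
    rw [ClassicalAut.Unitary.herm_apply K, Fin.sum_univ_succ]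
    simpa using hl
  obtain ⟨g, hg⟩ := exists_move_one K (show 3 ≤ j + 1 by omega)
    (ne_zero_of_h K (y := Fin.cons l (0 : Fin j → F)) (by rw [hll]; exact hx)) (ne_zero_of_h K hx) hll
  refine (low_le K j hj hδ).trans (Nat.card_le_card_of_injective
    (fun a => ⟨app g (Fin.cons (0 : F) a.1), fun e => a.2.1 ?_, by rw [← hg, h_app, h0], by rw [h_app, hs, a.2.2]⟩)
    fun a b e => Subtype.ext ?_)
  · have h : (Fin.cons (0 : F) a.1 : Fin (j + 1) → F) = 0 := app_injective g (e.trans (mulVec_zero _).symm)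
    funext i
    exact congrFun h i.succ
  · have h : (Fin.cons (0 : F) a.1 : Fin (j + 1) → F) = Fin.cons (0 : F) b.1 := app_injective g (congrArg Subtype.val e)
    exact (Fin.cons_inj.1 h).2

theorem card_skew' : Nat.card (skew K) = q := by
  obtain ⟨θ, hθ0, hθ⟩ := exists_skew K
  conv_rhs => rw [← card_fixed_eq K]
  have hb : K.bar θ = -θ := eq_neg_of_add_eq_zero_right hθ
  exact Nat.card_congr
    { toFun := fun t => ⟨(t : F) / θ, by
        rw [map_div₀, hb, eq_neg_of_add_eq_zero_right t.2, neg_div_neg_eq]⟩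
      invFun := fun c => ⟨θ * c.1, by
        show θ * c.1 + K.bar (θ * c.1) = 0
        rw [map_mul, hb, c.2]; ring⟩
      left_inv := fun t => Subtype.ext (mul_div_cancel₀ _ hθ0)
      right_inv := fun c => Subtype.ext (mul_div_cancel_left₀ _ hθ0) }

/-- Transitivity on pairs spanning a non-singular plane. -/
theorem exists_pair_move {a b u w : V} (hi : LinearIndependent F ![a, b]) (hi' : LinearIndependent F ![u, w])
    (haa : H a a = H u u) (hbb : H b b = H w w) (hab : H a b = H u w) (ha : H a a ≠ 0)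
    (hne : H a a * H b b ≠ H a b * K.bar (H a b)) : ∃ g : SU 3 F q, (app g a, app g b) = (u, w) := by
  set P := orth K (Submodule.span F (Set.range ![u, w])) with hP
  have hPd : 3 ≤ Module.finrank F P + 2 := by
    have h : Module.finrank F (⊤ : Submodule F V) ≤
        Module.finrank F ((⊤ : Submodule F V) ⊓ P : Submodule F V) + 2 := finrank_inf_orth_le K ⊤ 2 ![u, w]
    rwa [finrank_top, Module.finrank_fin_fun, top_inf_eq] at h
  obtain ⟨z, hzP, hz0⟩ := Submodule.exists_mem_ne_zero_of_ne_bot (p := P) fun e => by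
    rw [e, finrank_bot] at hPd; omega
  have hz : ∀ i, H z (![u, w] i) = 0 := fun i => h_eq_zero_symm K (hzP _ (Submodule.subset_span ⟨i, rfl⟩))
  have hzu : H z u = 0 := hz 0
  have hzw : H z w = 0 := hz 1
  have hzz : H z z ≠ 0 := by
    intro h0
    by_cases hzS : z ∈ Submodule.span F (Set.range ![u, w])
    · obtain ⟨c, hc⟩ := (Submodule.mem_span_range_iff_exists_fun F).1 hzS
      simp only [Fin.sum_univ_two, Matrix.cons_val_zero, Matrix.cons_val_one] at hc
      have e1 := hzu
      have e2 := hzw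
      rw [← hc, h_add_left K, h_smul_left K, h_smul_left K, h_swap K u w, ← haa, ← hab] at e1
      rw [← hc, h_add_left K, h_smul_left K, h_smul_left K, ← hab, ← hbb] at e2
      have hc1 : c 1 = 0 := (mul_eq_zero.1 (show c 1 * (H a a * H b b - H a b * K.bar (H a b)) = 0 by
        linear_combination H a a * e2 - H a b * e1)).resolve_right (sub_ne_zero.2 hne)
      rw [hc1, zero_mul, add_zero] at e1
      rw [hc1, (mul_eq_zero.1 e1).resolve_right ha, zero_smul, zero_smul, add_zero] at hc
      exact hz0 hc.symm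
    · have hspan : Submodule.span F (Set.range (Fin.cons z ![u, w] : Fin 3 → V)) = ⊤ := by
        refine Submodule.eq_top_of_finrank_eq ?_
        rw [finrank_span_eq_card (linearIndependent_finCons.2 ⟨hi', hzS⟩), Module.finrank_fin_fun, Fintype.card_fin]
      refine hz0 (h_nondeg K fun y => ?_)
      have hy : y ∈ Submodule.span F (Set.range (Fin.cons z ![u, w] : Fin 3 → V)) := hspan ▸ Submodule.mem_top
      induction hy using Submodule.span_induction with
      | mem y hy =>
        obtain ⟨i, rfl⟩ := hy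
        refine Fin.cases ?_ (fun j => ?_) i
        · exact h0
        · exact hz j
      | zero => exact h_zero_right K z
      | add y y' _ _ h h' => rw [h_add_right K, h, h', add_zero]
      | smul c y _ h => rw [h_smul_right K, h, mul_zero]
  obtain ⟨g, hg⟩ := exists_SU_move K ![a, b] ![u, w] hi hi' (fun i j => by
    fin_cases i <;> fin_cases j <;> first | exact haa | exact hbb | exact hab |
      (show H b a = H w u; rw [h_swap K a b, hab, ← h_swap K u w])) hzz hz
  exact ⟨g, Prod.ext (hg 0) (hg 1)⟩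

/-- All pairs from a norm class are degenerate. -/
theorem key_three_degenerate (A : AddSubgroup V) (J : Subgroup (SU 3 F q))
    (hJ : ∀ g : SU 3 F q, g ∈ J → ∀ a ∈ A, app g a ∈ A) (hAle : Nat.card A ≤ q ^ 3) (hbig : q ^ 2 < Nat.card A)
    {Z₀ : AddSubgroup F} (hA : ∀ x ∈ A, ∀ y ∈ A, H x y - H y x ∈ Z₀)
    {a : A} (haa : H (a : V) a ≠ 0)
    (hS : 4 * Nat.card {b : A // H (b : V) b = H (a : V) a} ≤ 3 * Nat.card A)
    (hII : ∀ u : A, H (u : V) u = H (a : V) a → ∀ b ∈ A, H (u : V) u * H b b = H (u : V) b * K.bar (H (u : V) b)) :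
    Nat.card A * nIso q 5 ≤ q ^ 7 * (q ^ 2 - 1) * J.index := by
  classical
  cases nonempty_fintype F
  have hq := K.two_le
  have hne5 : nIso q 5 = (q ^ 5 + 1) * (q ^ 4 - 1) := by rw [nIso, if_neg (by decide)]
  have hq4 : q ^ 4 - 1 = (q ^ 2 - 1) * (q ^ 2 + 1) := by
    rw [mul_comm, ← Nat.sq_sub_sq]; ring_nf
  set u := (a : V) with hu
  set γ := H u u with hγ
  set S : Set V := {x | x ∈ A ∧ H x x = γ} with hSdef
  have hSeq : Nat.card S = Nat.card {b : A // H (b : V) b = γ} := Nat.card_congr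
    { toFun := fun x => ⟨⟨x.1, x.2.1⟩, x.2.2⟩
      invFun := fun x => ⟨x.1.1, x.1.2, x.2⟩
      left_inv := fun x => rfl
      right_inv := fun x => rfl }
  have huS : u ∈ S := ⟨a.2, rfl⟩
  have hu0 : u ≠ 0 := ne_zero_of_h K haa
  have hSJ : ∀ g ∈ J, ∀ x ∈ S, app g x ∈ S := fun g hg x hx => ⟨hJ g hg x hx.1, by rw [h_app]; exact hx.2⟩
  have hcount : Nat.card {x : V // H x x = γ} = q ^ 2 * (q ^ 3 + 1) := by
    rw [card_norm_vec K, count_smul K 3 (bar_self K _) haa, count_one_nat, if_neg (by decide)]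
  by_cases hline : ∀ x ∈ S, x ∈ Submodule.span F {u}
  · -- few elements of that norm
    have h := card_orbit_le (Γ := SU 3 F q) (fun g (v : V) => app g v) app_mul app_one J S hSJ (x₀ := u) huS
      {x : V | H x x = γ} (fun x hx => exists_move_one K le_rfl hu0
        (ne_zero_of_h K (show H x x ≠ 0 by rw [show H x x = γ from hx]; exact haa)) (Eq.symm hx))
    have hle : Nat.card S ≤ q + 1 := by
      rw [← card_norm_one K]
      have : ∀ x : S, ∃ c : F, c * K.bar c = 1 ∧ (x : V) = c • u := fun x => by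
        obtain ⟨c, hc⟩ := Submodule.mem_span_singleton.1 (hline _ x.2)
        refine ⟨c, mul_right_cancel₀ haa ?_, hc.symm⟩
        have e := x.2.2
        rw [← hc, h_smul_left K, h_smul_right K] at e
        linear_combination e
      choose c hc hc' using this
      exact Nat.card_le_card_of_injective (fun x => ⟨c x, hc x⟩) fun x y e => Subtype.ext (by
        rw [hc' x, hc' y, show c x = c y from congrArg Subtype.val e])
    have h1 : q ^ 2 * (q ^ 3 + 1) ≤ J.index * (q + 1) := by
      rw [← hcount]; exact h.trans (Nat.mul_le_mul_left _ hle)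
    refine Nat.le_of_mul_le_mul_right ?_ (show 0 < q + 1 by omega)
    rw [hne5, hq4]
    calc Nat.card A * ((q ^ 5 + 1) * ((q ^ 2 - 1) * (q ^ 2 + 1))) * (q + 1)
        ≤ q ^ 3 * ((q ^ 5 + 1) * ((q ^ 2 - 1) * (q ^ 2 + 1))) * (q + 1) :=
          Nat.mul_le_mul_right _ (Nat.mul_le_mul_right _ hAle)
      _ = q ^ 3 * (q ^ 2 - 1) * ((q ^ 5 + 1) * (q ^ 2 + 1) * (q + 1)) := by ring
      _ ≤ q ^ 3 * (q ^ 2 - 1) * (q ^ 4 * (q ^ 2 * (q ^ 3 + 1))) := by
          refine Nat.mul_le_mul_left _ ?_
          obtain ⟨t, rfl⟩ : ∃ t, q = t + 2 := ⟨q - 2, by omega⟩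
          ring_nf
          nlinarith [Nat.zero_le (t ^ 2), Nat.zero_le (t ^ 3), Nat.zero_le (t ^ 4), Nat.zero_le (t ^ 5),
            Nat.zero_le (t ^ 6), Nat.zero_le (t ^ 7), Nat.zero_le (t ^ 8), Nat.zero_le (t ^ 9)]
      _ = q ^ 7 * (q ^ 2 - 1) * (q ^ 2 * (q ^ 3 + 1)) := by ring
      _ ≤ q ^ 7 * (q ^ 2 - 1) * (J.index * (q + 1)) := Nat.mul_le_mul_left _ h1
      _ = _ := by ring
  push Not at hline
  obtain ⟨x, hxS, hxu⟩ := hline
  -- the coordinate along `u` and the isotropic remainder
  have hγb : K.bar γ = γ := bar_self K u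
  let lam : V → F := fun y => H y u / γ
  let r : V → V := fun y => y - lam y • u
  have hru : ∀ y, H (r y) u = 0 := fun y => by
    show H (y - (H y u / γ) • u) u = 0
    rw [h_sub_left K, h_smul_left K, div_mul_cancel₀ _ haa, sub_self]
  have hadd : ∀ y z, lam (y + z) = lam y + lam z ∧ r (y + z) = r y + r z := fun y z => by
    have e : lam (y + z) = lam y + lam z := by
      show H (y + z) u / γ = _
      rw [h_add_left K, add_div]
    refine ⟨e, ?_⟩
    show y + z - lam (y + z) • u = (y - lam y • u) + (z - lam z • u)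
    rw [e]; module
  have hlu : lam u = 1 ∧ r u = 0 := by
    have e : lam u = 1 := div_self haa
    exact ⟨e, by show u - lam u • u = 0; rw [e, one_smul, sub_self]⟩
  have hexp : ∀ y z : V, H y z = γ * (lam y * K.bar (lam z)) + H (r y) (r z) := fun y z => by
    have hy' : y = lam y • u + r y := (add_sub_cancel _ _).symm
    have hz' : z = lam z • u + r z := (add_sub_cancel _ _).symm
    conv_lhs => rw [hy', hz']
    simp only [h_add_left K, h_add_right K, h_smul_left K, h_smul_right K, hru, h_eq_zero_symm K (hru _),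
      mul_zero, add_zero, zero_add, ← hγ]
    ring
  have hrr : ∀ y ∈ A, H (r y) (r y) = 0 := fun y hy => by
    have e := hII a rfl y hy
    rw [← hu, ← hγ, h_swap K y u, K.bar_bar] at e
    have hl : H y u = γ * lam y := (mul_div_cancel₀ _ haa).symm
    rw [hl, map_mul, hγb, hexp y y] at e
    refine mul_left_cancel₀ haa ?_
    rw [mul_zero]
    linear_combination e
  have hskew : ∀ y ∈ A, ∀ z ∈ A, K.bar (H (r y) (r z)) = -H (r y) (r z) := fun y hy z hz => by
    refine eq_neg_of_add_eq_zero_right ?_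
    have h := hrr (y + z) (A.add_mem hy hz)
    rw [(hadd y z).2, h_add_left K, h_add_right K, h_add_right K, hrr y hy, hrr z hz] at h
    rw [← h_swap K (r y) (r z)]
    linear_combination h
  -- degeneracy of a pair
  have heqn : ∀ y ∈ S, ∀ z ∈ A, γ * H (r y) (r z) * (K.bar (lam y) * lam z - lam y * K.bar (lam z)) -
      H (r y) (r z) * H (r y) (r z) = 0 := fun y hy z hz => by
    have e : γ * H z z = H y z * K.bar (H y z) := by
      have e0 : H y y * H z z = H y z * K.bar (H y z) := hII ⟨y, hy.1⟩ hy.2 z hz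
      rwa [hy.2] at e0
    have hN : lam y * K.bar (lam y) = 1 := mul_left_cancel₀ haa (by
      have h := hexp y y
      rw [hy.2, hrr y hy.1, add_zero] at h
      rw [mul_one]; exact h.symm)
    rw [hexp z z, hrr z hz, add_zero, hexp y z, map_add, map_mul, map_mul, hγb, K.bar_bar,
      hskew y hy.1 z hz] at e
    linear_combination -e - γ * γ * (lam z * K.bar (lam z)) * hN
  have key : ∀ y ∈ S, ∀ z ∈ S, H (r y) (r z) = 0 := by
    intro y hy z hz
    by_contra hne
    have real : ∀ y ∈ S, ∀ z ∈ S, H (r y) (r z) ≠ 0 → K.bar (lam y) = lam y := by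
      intro y hy z hz hne
      have e1 := heqn y hy z hz.1
      have e2 := heqn y hy (z + u) (A.add_mem hz.1 a.2)
      rw [(hadd z u).1, (hadd z u).2, hlu.1, hlu.2, add_zero, map_add, map_one] at e2
      have h0 : γ * H (r y) (r z) * (K.bar (lam y) - lam y) = 0 := by linear_combination e2 - e1
      exact sub_eq_zero.1 ((mul_eq_zero.1 h0).resolve_left (mul_ne_zero haa hne))
    have hy1 := real y hy z hz hne
    have hz1 := real z hz y hy (h_ne_zero_symm K hne)
    have e1 := heqn y hy z hz.1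
    rw [hy1, hz1] at e1
    exact hne (mul_self_eq_zero.1 (by linear_combination -e1))
  set p := r x with hp
  have hp0 : p ≠ 0 := fun e => hxu (Submodule.mem_span_singleton.2 ⟨lam x, (sub_eq_zero.1 e).symm⟩)
  have hpp : H p p = 0 := hrr x hxS.1
  have hperp : ∀ y, H y u = 0 → H y p = 0 → y ∈ Submodule.span F {p} := fun y hyu hyp => by
    by_contra hm
    obtain ⟨c, hc, hcu, hcne⟩ : ∃ c, H c u = 0 ∧ c ∉ Submodule.span F {p} ∧ H c p = 0 :=
      ⟨y, hyu, hm, hyp⟩
    have hind : LinearIndependent F ![p, c] := by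
      rw [LinearIndependent.pair_iff' hp0]
      exact fun e he => hcu (Submodule.mem_span_singleton.2 ⟨e, he⟩)
    have hPd : Module.finrank F (orth K (Submodule.span F (Set.range ![u]))) ≤ 2 := by
      have hlt : orth K (Submodule.span F (Set.range ![u])) ≠ ⊤ := fun e => haa
        ((e ▸ Submodule.mem_top : u ∈ orth K (Submodule.span F (Set.range ![u]))) u (Submodule.subset_span ⟨0, rfl⟩))
      have := Submodule.finrank_lt hlt
      rw [Module.finrank_fin_fun] at this
      omega
    have hsub : Submodule.span F (Set.range ![p, c]) ≤ orth K (Submodule.span F (Set.range ![u])) := by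
      refine Submodule.span_le.2 ?_
      rintro _ ⟨i, rfl⟩ w hw
      obtain ⟨e, rfl⟩ := (Submodule.mem_span_range_iff_exists_fun F).1 hw
      fin_cases i <;> simp [h_smul_left K, h_eq_zero_symm K hc, h_eq_zero_symm K (hru x), hp]
    have hle := Submodule.eq_of_le_of_finrank_le hsub (by rw [finrank_span_eq_card hind, Fintype.card_fin]; exact hPd)
    refine hp0 (h_nondeg K fun v => ?_)
    have hv : v - (H v u / γ) • u ∈ orth K (Submodule.span F (Set.range ![u])) := fun w hw => by
      obtain ⟨e, rfl⟩ := (Submodule.mem_span_range_iff_exists_fun F).1 hw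
      simp [h_smul_left K, h_eq_zero_symm K (hru v), r, lam] at *
    rw [← hle] at hv
    obtain ⟨e, he⟩ := (Submodule.mem_span_range_iff_exists_fun F).1 hv
    simp only [Fin.sum_univ_two, Matrix.cons_val_zero, Matrix.cons_val_one] at he
    rw [show v = (H v u / γ) • u + (e 0 • p + e 1 • c) by rw [he]; abel, h_add_right K, h_add_right K,
      h_smul_right K, h_smul_right K, h_smul_right K, hru x, hpp, h_eq_zero_symm K hcne, mul_zero, mul_zero,
      mul_zero, add_zero, add_zero]
  have hLJ : ∀ g ∈ J, app g p ∈ Submodule.span F {p} := fun g hg => by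
    have hpy : ∀ y ∈ S, H p y = 0 := fun y hy => by
      have hy' : y = lam y • u + r y := (add_sub_cancel _ _).symm
      rw [hy', h_add_right K, h_smul_right K, hru x, key x hxS y hy, mul_zero, add_zero]
    have h1 : ∀ y ∈ S, H (app g p) y = 0 := fun y hy => by
      rw [← app_inv' g y, h_app]
      exact hpy _ (hSJ _ (J.inv_mem hg) _ hy)
    refine hperp _ (h1 u huS) ?_
    rw [show p = x - lam x • u from rfl, h_sub_right K, h_smul_right K, h1 x hxS, h1 u huS, mul_zero, sub_zero]
  -- pairs of a vector of that norm and a perpendicular isotropic line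
  set L₀ := Submodule.span F {p} with hL₀
  set O : Set (V × Submodule F V) := {z | H z.1 z.1 = γ ∧
    ∃ w : V, w ≠ 0 ∧ H w w = 0 ∧ H z.1 w = 0 ∧ z.2 = Submodule.span F {w}}
  have hmap : ∀ (g : SU 3 F q) (w : V), (Submodule.span F {w}).map (lin g) = Submodule.span F {app g w} :=
    fun g w => by rw [Submodule.map_span, Set.image_singleton]; rfl
  have h := card_orbit_le (Γ := SU 3 F q) (fun g (z : V × Submodule F V) => (app g z.1, z.2.map (lin g)))
    (fun g h z => Prod.ext (app_mul g h z.1) (by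
      show z.2.map (lin (g * h)) = (z.2.map (lin h)).map (lin g)
      rw [← Submodule.map_comp]; congr 1; exact LinearMap.ext fun y => app_mul g h y))
    (fun z => Prod.ext (app_one z.1) (by
      show z.2.map (lin 1) = z.2
      rw [show (lin (1 : SU 3 F q) : V →ₗ[F] V) = LinearMap.id from LinearMap.ext app_one, Submodule.map_id]))
    J {z : V × Submodule F V | z.1 ∈ S ∧ z.2 = L₀}
    (fun g hg z hz => ⟨hSJ g hg _ hz.1, by
      show z.2.map (lin g) = L₀
      rw [hz.2, hL₀, hmap]
      obtain ⟨c, hc⟩ := Submodule.mem_span_singleton.1 (hLJ g hg)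
      have hc0 : c ≠ 0 := fun e => hp0 (app_injective g (by
        rw [← hc, e, zero_smul]; exact (mulVec_zero _).symm))
      rw [← hc, Submodule.span_singleton_smul_eq hc0.isUnit]⟩)
    (x₀ := (u, L₀)) ⟨huS, rfl⟩ O (by
      rintro ⟨y, L⟩ ⟨hy, w, hw0, hww, hyw, rfl⟩
      have hyy : H y y ≠ 0 := by rw [show H y y = γ from hy]; exact haa
      obtain ⟨g, hg⟩ := exists_move_one K le_rfl hu0 (ne_zero_of_h K hyy) (Eq.symm hy)
      have hw' : H (app g p) y = 0 := by rw [← hg, h_app]; exact hru x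
      have hpp' : H (app g p) (app g p) = 0 := by rw [h_app]; exact hpp
      by_cases hd : w ∈ Submodule.span F {app g p}
      · obtain ⟨c, rfl⟩ := Submodule.mem_span_singleton.1 hd
        refine ⟨g, Prod.ext hg ?_⟩
        show L₀.map (lin g) = _
        rw [hL₀, hmap, Submodule.span_singleton_smul_eq
          (Ne.isUnit fun e => hw0 (by rw [e, zero_smul]))]
      set p' := app g p
      have hne : H p' w ≠ 0 := fun h0 => by
        have hind : LinearIndependent F ![p', w] := by
          rw [LinearIndependent.pair_iff' fun e => hp0 (app_injective g (e.trans (mulVec_zero _).symm))]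
          exact fun e he => hd (Submodule.mem_span_singleton.2 ⟨e, he⟩)
        have h := finrank_le_of_isotropic K (Submodule.span F (Set.range ![p', w])) ⊥ (fun z hz => by
          obtain ⟨c, rfl⟩ := (Submodule.mem_span_range_iff_exists_fun F).1 hz
          simp [Fin.sum_univ_two, h_add_left K, h_add_right K, h_smul_left K, h_smul_right K, hpp', hww, h0,
            h_eq_zero_symm K h0]) fun z _ v hv => by rw [(Submodule.mem_bot F).1 hv, h_zero_right K]
        rw [sup_bot_eq, finrank_span_eq_card hind, Fintype.card_fin] at h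
        omega
      obtain ⟨θ, hθ0, hθ⟩ := exists_skew K
      set h1 := H p' w
      set c := p' + (θ / K.bar h1) • w
      have hb1 : K.bar h1 ≠ 0 := (map_ne_zero K.bar).2 hne
      have hc : H c c = 0 := by
        simp only [c, h_add_left K, h_add_right K, h_smul_left K, h_smul_right K, hpp', hww, mul_zero, add_zero,
          zero_add, map_div₀, K.bar_bar, h_swap K p' w]
        field_simp
        linear_combination (H p' w * K.bar (H p' w)) * hθ
      have hpc : H p' c = K.bar θ := by
        simp only [c, h_add_right K, h_smul_right K, hpp', zero_add, map_div₀, K.bar_bar]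
        exact div_mul_cancel₀ _ hne
      obtain ⟨T, hT⟩ := exists_T K hc (c := θ⁻¹) (by
        rw [map_inv₀, eq_neg_of_add_eq_zero_right hθ, inv_neg, add_neg_cancel])
      refine ⟨T * g, Prod.ext ?_ ?_⟩
      · show app (T * g) u = y
        have hyc : H y c = 0 := by
          simp only [c, h_add_right K, h_smul_right K, h_eq_zero_symm K hw', show H y w = 0 from hyw,
            mul_zero, add_zero]
        rw [app_mul, hg, hT.2.2, hyc, mul_zero, zero_smul, add_zero]
      · show L₀.map (lin (T * g)) = _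
        rw [hL₀, hmap, app_mul, hT.2.2, hpc, eq_neg_of_add_eq_zero_right hθ, mul_neg, inv_mul_cancel₀ hθ0,
          neg_one_smul, show p' + -c = (-(θ / K.bar h1)) • w by simp only [c, neg_smul]; abel,
          Submodule.span_singleton_smul_eq (Ne.isUnit (neg_ne_zero.2 (div_ne_zero hθ0 hb1)))])
  have hT : Nat.card {z : V × Submodule F V | z.1 ∈ S ∧ z.2 = L₀} ≤ Nat.card S :=
    Nat.card_le_card_of_injective (fun z => (⟨z.1.1, z.2.1⟩ : S)) fun z z' e =>
      Subtype.ext (Prod.ext (congrArg Subtype.val e) (z.2.2.trans z'.2.2.symm))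
  have hO : q ^ 2 * (q ^ 3 + 1) * (q * (q ^ 2 - 1)) ≤ Nat.card O * (q ^ 2 - 1) := by
    let P2 := Σ y : {y : V // H y y = γ}, {w : V // w ≠ 0 ∧ H y.1 w = 0 ∧ H w w = 0}
    have h1 : q ^ 2 * (q ^ 3 + 1) * (q * (q ^ 2 - 1)) ≤ Nat.card P2 := by
      rw [Nat.card_sigma]
      calc q ^ 2 * (q ^ 3 + 1) * (q * (q ^ 2 - 1)) = ∑ _y : {y : V // H y y = γ}, q * (q ^ 2 - 1) := by
            rw [Finset.sum_const, smul_eq_mul, Finset.card_univ, ← Nat.card_eq_fintype_card, hcount]
        _ ≤ _ := Finset.sum_le_sum fun y _ => by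
            have h := low_le_perp K (j := 2) le_rfl (x := y.1) (by rw [y.2]; exact haa) (δ := 0) (map_zero _)
            rwa [low, if_pos even_two, show 2 - 1 = 1 from rfl, pow_one] at h
    refine h1.trans ?_
    have hex : ∀ z : O, ∃ w : V, w ≠ 0 ∧ H w w = 0 ∧ H z.1.1 w = 0 ∧ z.1.2 = Submodule.span F {w} := fun z => z.2.2
    choose rep hr0 hrw hry hrs using hex
    rw [← K.card, ← Nat.card_units, ← Nat.card_prod]
    refine Nat.card_le_card_of_surjective
      (fun zc : O × Fˣ => (⟨⟨zc.1.1.1, zc.1.2.1⟩, ⟨(zc.2 : F) • rep zc.1, smul_ne_zero zc.2.ne_zero (hr0 _), by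
          rw [h_smul_right K, hry, mul_zero], by rw [h_smul_left K, h_smul_right K, hrw, mul_zero, mul_zero]⟩⟩ : P2))
      fun yw => ?_
    obtain ⟨⟨y, hy⟩, w, hw0, hyw, hww⟩ := yw
    let z : O := ⟨(y, Submodule.span F {w}), hy, w, hw0, hww, hyw, rfl⟩
    have hm : w ∈ Submodule.span F {rep z} := hrs z ▸ Submodule.mem_span_singleton_self w
    obtain ⟨c, hc⟩ := Submodule.mem_span_singleton.1 hm
    refine ⟨(z, Units.mk0 c fun e => hw0 (by rw [← hc, e, zero_smul])), ?_⟩
    simp only [z, Units.val_mk0, hc]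
  have hmain : q ^ 2 * (q ^ 3 + 1) * q ≤ J.index * Nat.card S := by
    refine Nat.le_of_mul_le_mul_right (c := q ^ 2 - 1) ?_ (Nat.sub_pos_of_lt (Nat.one_lt_pow two_ne_zero hq))
    rw [mul_assoc _ q]
    exact hO.trans (Nat.mul_le_mul_right _ (h.trans (Nat.mul_le_mul_left _ hT)))
  rw [← hSeq] at hS
  refine Nat.le_of_mul_le_mul_right ?_ (show 0 < 3 * Nat.card A by omega)
  rw [hne5, hq4]
  calc Nat.card A * ((q ^ 5 + 1) * ((q ^ 2 - 1) * (q ^ 2 + 1))) * (3 * Nat.card A)
      = (q ^ 2 - 1) * (3 * ((q ^ 5 + 1) * (q ^ 2 + 1))) * (Nat.card A * Nat.card A) := by ring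
    _ ≤ (q ^ 2 - 1) * (4 * (q ^ 4 * (q ^ 3 + 1))) * (q ^ 3 * q ^ 3) := by
        refine Nat.mul_le_mul (Nat.mul_le_mul_left _ ?_) (Nat.mul_le_mul hAle hAle)
        obtain ⟨t, rfl⟩ : ∃ t, q = t + 2 := ⟨q - 2, by omega⟩
        ring_nf
        nlinarith [Nat.zero_le t, Nat.zero_le (t ^ 2), Nat.zero_le (t ^ 3), Nat.zero_le (t ^ 4), Nat.zero_le (t ^ 5),
          Nat.zero_le (t ^ 6), Nat.zero_le (t ^ 7)]
    _ = q ^ 7 * (q ^ 2 - 1) * (4 * (q ^ 2 * (q ^ 3 + 1) * q)) := by ring
    _ ≤ q ^ 7 * (q ^ 2 - 1) * (4 * (J.index * Nat.card S)) :=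
        Nat.mul_le_mul_left _ (Nat.mul_le_mul_left _ hmain)
    _ = q ^ 7 * (q ^ 2 - 1) * (J.index * (4 * Nat.card S)) := by ring
    _ ≤ q ^ 7 * (q ^ 2 - 1) * (J.index * (3 * Nat.card A)) :=
        Nat.mul_le_mul_left _ (Nat.mul_le_mul_left _ hS)
    _ = _ := by ring

/-- The key bound in dimension three. -/
theorem key_three (A : AddSubgroup V) (J : Subgroup (SU 3 F q)) (hJ : ∀ g : SU 3 F q, g ∈ J → ∀ a ∈ A, app g a ∈ A)
    (hA0 : A ≠ ⊥) {Z₀ : AddSubgroup F} (hZ : ∃ t ∈ skew K, t ∉ Z₀) (hA : ∀ x ∈ A, ∀ y ∈ A, H x y - H y x ∈ Z₀) :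
    Nat.card A * nIso q 5 ≤ q ^ 7 * (q ^ 2 - 1) * J.index := by
  classical
  cases nonempty_fintype F
  have hq := K.two_le
  have hAle := card_isotropic K A hZ hA
  have hne5 : nIso q 5 = (q ^ 5 + 1) * (q ^ 4 - 1) := by rw [nIso, if_neg (by decide)]
  have hq4 : q ^ 4 - 1 = (q ^ 2 - 1) * (q ^ 2 + 1) := by
    rw [mul_comm, ← Nat.sq_sub_sq]; ring_nf
  obtain ⟨x₀, hx₀, hx₀0⟩ : ∃ x ∈ A, x ≠ 0 := by
    by_contra hc
    push Not at hc
    exact hA0 ((AddSubgroup.eq_bot_iff_forall _).2 hc)
  by_cases hsmall : Nat.card A ≤ q ^ 2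
  · have h := card_orbit_le (Γ := SU 3 F q) (fun g (v : V) => app g v) app_mul app_one J {a : V | a ∈ A ∧ a ≠ 0}
      (fun g hg a ha => ⟨hJ g hg a ha.1, fun e => ha.2 (app_injective g (e.trans (mulVec_zero _).symm))⟩)
      (x₀ := x₀) ⟨hx₀, hx₀0⟩ {a : V | a ≠ 0 ∧ H a a = H x₀ x₀}
      (fun a ha => exists_move_one K le_rfl hx₀0 ha.1 ha.2.symm)
    have h1 := (low_le K 3 (by omega) (bar_self K x₀)).trans h
    rw [low, if_neg (by decide), show 3 - 1 = 2 from rfl] at h1
    have hT : Nat.card {a : V | a ∈ A ∧ a ≠ 0} + 1 ≤ Nat.card A := by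
      rw [← Finite.card_option]
      refine Nat.card_le_card_of_injective (fun o => o.elim 0 fun a => ⟨a.1, a.2.1⟩) ?_
      rintro (_ | a) (_ | b) h
      · rfl
      · exact absurd (congrArg Subtype.val h).symm b.2.2
      · exact absurd (congrArg Subtype.val h) a.2.2
      · exact congrArg _ (Subtype.ext (congrArg (fun z : A => (z : V)) h))
    have hpos : 0 < q ^ 2 - 1 := Nat.sub_pos_of_lt (Nat.one_lt_pow two_ne_zero hq)
    have hJ' : q ^ 3 + 1 ≤ J.index := by
      refine Nat.le_of_mul_le_mul_right (c := q ^ 2 - 1) (h1.trans (Nat.mul_le_mul_left _ ?_)) hpos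
      omega
    rw [hne5, hq4]
    calc Nat.card A * ((q ^ 5 + 1) * ((q ^ 2 - 1) * (q ^ 2 + 1)))
        ≤ q ^ 2 * ((q ^ 5 + 1) * ((q ^ 2 - 1) * (q ^ 2 + 1))) := Nat.mul_le_mul_right _ hsmall
      _ = q ^ 2 * (q ^ 2 - 1) * ((q ^ 5 + 1) * (q ^ 2 + 1)) := by ring
      _ ≤ q ^ 2 * (q ^ 2 - 1) * (q ^ 5 * (q ^ 3 + 1)) := by
          refine Nat.mul_le_mul_left _ ?_
          have h32 : 32 ≤ q ^ 5 := Nat.pow_le_pow_left hq 5
          have h8 : q ^ 2 * 2 ≤ q ^ 3 := by rw [pow_succ q 2]; exact Nat.mul_le_mul_left _ hq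
          have h4 : 4 ≤ q ^ 2 := Nat.pow_le_pow_left hq 2
          have h9 := Nat.mul_le_mul_left (q ^ 5) h8
          have h10 := Nat.mul_le_mul_right (q ^ 2) h32
          have h11 := Nat.mul_le_mul h32 h4
          nlinarith
      _ = q ^ 7 * (q ^ 2 - 1) * (q ^ 3 + 1) := by ring
      _ ≤ _ := Nat.mul_le_mul_left _ hJ'
  -- a non-singular element of the subgroup
  have hbig : q ^ 2 < Nat.card A := not_le.1 hsmall
  have hline : ∀ a : V, ∃ y ∈ A, y ∉ Submodule.span F {a} := fun a => by
    by_contra hc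
    push Not at hc
    refine hsmall ?_
    have : ∀ y : A, ∃ c : F, (y : V) = c • a := fun y => by
      obtain ⟨c, hc'⟩ := Submodule.mem_span_singleton.1 (hc _ y.2)
      exact ⟨c, hc'.symm⟩
    choose c hc' using this
    rw [← K.card]
    exact Nat.card_le_card_of_injective c fun u v e => Subtype.ext (by rw [hc' u, hc' v, e])
  obtain ⟨a₀, ha₀, haa₀⟩ : ∃ a ∈ A, H a a ≠ 0 := by
    by_contra hc
    push Not at hc
    have hskew : ∀ a ∈ A, ∀ b ∈ A, H a b + K.bar (H a b) = 0 := fun a ha b hb => by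
      have h := hc _ (A.add_mem ha hb)
      rw [h_add_left K, h_add_right K, h_add_right K, hc a ha, hc b hb, h_swap K a b] at h
      linear_combination h
    by_cases h0 : ∀ a ∈ A, ∀ b ∈ A, H a b = 0
    · -- totally isotropic, hence a line
      obtain ⟨y, hy, hyx⟩ := hline x₀
      have hind : LinearIndependent F ![x₀, y] := by
        rw [LinearIndependent.pair_iff' hx₀0]
        exact fun c hc => hyx (Submodule.mem_span_singleton.2 ⟨c, hc⟩)
      have h := finrank_le_of_isotropic K (Submodule.span F (Set.range ![x₀, y])) ⊥ (fun z hz => by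
        obtain ⟨c, rfl⟩ := (Submodule.mem_span_range_iff_exists_fun F).1 hz
        simp [Fin.sum_univ_two, h_add_left K, h_add_right K, h_smul_left K, h_smul_right K, h0 _ hx₀ _ hx₀,
          h0 _ hy _ hy, h0 _ hx₀ _ hy, h0 _ hy _ hx₀]) fun u _ v hv => by
        rw [(Submodule.mem_bot F).1 hv, h_zero_right K]
      rw [sup_bot_eq, finrank_span_eq_card hind, Fintype.card_fin] at h
      omega
    push Not at h0
    obtain ⟨a, ha, b, hb, hab⟩ := h0
    -- the kernel of the product with `a` consists of at most `q` multiples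
    let φ : A →+ F := AddMonoidHom.mk' (fun y => H a (y : V)) fun u v => h_add_right K a _ _
    have hker : Nat.card φ.ker ≤ q := by
      have hsp : ∀ y : φ.ker, ∃ c : F, ((y : A) : V) = c • a := fun y => by
        by_contra hcon
        push Not at hcon
        have hya : H a ((y : A) : V) = 0 := y.2
        have hind : LinearIndependent F ![a, ((y : A) : V)] := by
          rw [LinearIndependent.pair_iff' (ne_zero_of_h K hab)]
          exact fun c hc => hcon c hc.symm
        have h := finrank_le_of_isotropic K (Submodule.span F (Set.range ![a, ((y : A) : V)])) ⊥ (fun z hz => by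
          obtain ⟨c, rfl⟩ := (Submodule.mem_span_range_iff_exists_fun F).1 hz
          simp [Fin.sum_univ_two, h_add_left K, h_add_right K, h_smul_left K, h_smul_right K, hc a ha,
            hc _ (y : A).2, hya, h_eq_zero_symm K hya]) fun u _ v hv => by
          rw [(Submodule.mem_bot F).1 hv, h_zero_right K]
        rw [sup_bot_eq, finrank_span_eq_card hind, Fintype.card_fin] at h
        omega
      choose c hc' using hsp
      rw [← card_skew' K]
      refine Nat.card_le_card_of_injective (fun y => (⟨c y * H a b, ?_⟩ : skew K)) fun u v e => ?_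
      · have h := hskew _ (y : A).2 b hb
        rw [hc' y, h_smul_left K] at h
        exact h
      · have h := mul_right_cancel₀ hab (congrArg Subtype.val e)
        exact Subtype.ext (Subtype.ext (by rw [hc' u, hc' v, h]))
    have himg : Nat.card φ.range ≤ q := by
      rw [← card_skew' K]
      refine Nat.card_le_card_of_injective (fun y => (⟨y.1, ?_⟩ : skew K)) fun u v e =>
        Subtype.ext (congrArg (fun z : skew K => (z : F)) e)
      obtain ⟨z, hz⟩ := y.2
      rw [← hz]
      exact hskew a ha _ z.2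
    have h := φ.ker.card_mul_index
    rw [AddSubgroup.index_ker] at h
    have := Nat.mul_le_mul hker himg
    rw [h, ← sq] at this
    exact hsmall this
  -- a small norm class
  let N : A → F := fun a => H (a : V) a
  let B : A → A →+ F := fun a => AddMonoidHom.mk' (fun b => H (a : V) b + H (b : V) a) fun u v => by
    rw [AddSubgroup.coe_add, h_add_left K, h_add_right K]; ring
  have hB : ∀ a b, N (a + b) = N a + N b + B a b := fun a b => by
    show H ((a + b : A) : V) ((a + b : A) : V) = H (a : V) a + H (b : V) b + (H (a : V) b + H (b : V) a)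
    rw [AddSubgroup.coe_add, h_add_left K, h_add_right K, h_add_right K]; ring
  obtain ⟨a, haa, hS, hS2⟩ : ∃ a : A, N a ≠ 0 ∧ 4 * Nat.card {b // N b = N a} ≤ 3 * Nat.card A ∧
      ((∀ x y, B x y = 0) → (∀ x, N x = 0 ∨ N x = N a) → 2 * Nat.card {b // N b = N a} ≤ Nat.card A) := by
    by_cases htwo : ∀ x, N x = 0 ∨ N x = N ⟨a₀, ha₀⟩
    · obtain ⟨h1, h2⟩ := card_level_le N B hB (fun a => (two_mul (H (a : V) a)).symm) haa₀ htwo
      exact ⟨⟨a₀, ha₀⟩, haa₀, h1, fun h _ => h2 h⟩
    push Not at htwo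
    obtain ⟨a₁, h10, h1⟩ := htwo
    have hsum : Nat.card {b // N b = N ⟨a₀, ha₀⟩} + Nat.card {b // N b = N a₁} ≤ Nat.card A := by
      rw [← Nat.card_sum]
      refine Nat.card_le_card_of_injective (Sum.elim Subtype.val Subtype.val)
        (Sum.elim_injective.2 ⟨Subtype.val_injective, Subtype.val_injective, fun u v e => ?_⟩)
      exact h1 (by rw [← v.2, ← u.2, e])
    rcases Nat.le_total (Nat.card {b // N b = N ⟨a₀, ha₀⟩}) (Nat.card {b // N b = N a₁}) with h | h
    · exact ⟨⟨a₀, ha₀⟩, haa₀, by omega, fun _ _ => by omega⟩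
    · exact ⟨a₁, h10, by omega, fun _ _ => by omega⟩
  by_cases hI : ∃ u : A, N u = N a ∧ ∃ b ∈ A, H (u : V) u * H b b ≠ H (u : V) b * K.bar (H (u : V) b)
  swap
  · push Not at hI
    refine key_three_degenerate K A J hJ hAle hbig (hA := hA) haa hS fun u hu b hb => hI u hu b hb
  obtain ⟨u₁, hu₁, b, hb, hgram⟩ := hI
  have hcl : {x // N x = N a} = {x // N x = N u₁} := by rw [hu₁]
  rw [hcl] at hS
  have hS2' := fun h1 h2 => hcl ▸ hS2 h1 (hu₁ ▸ h2)
  clear hS2 hcl
  replace haa : N u₁ ≠ 0 := hu₁ ▸ haa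
  clear hu₁ a
  obtain ⟨a, rfl⟩ : ∃ a, a = u₁ := ⟨_, rfl⟩
  have hS2 := hS2'
  have haV : H (a : V) a ≠ 0 := haa
  have hba : b ∉ Submodule.span F {(a : V)} := fun hm => by
    obtain ⟨c, rfl⟩ := Submodule.mem_span_singleton.1 hm
    refine hgram ?_
    rw [h_smul_left K, h_smul_right K, map_mul, K.bar_bar, bar_self K]
    ring
  set O : Set (V × V) := {p | p.1 ≠ 0 ∧ H p.1 p.1 = H (a : V) a ∧ p.2 ∉ Submodule.span F {p.1} ∧
    H p.1 p.2 = H (a : V) b ∧ H p.2 p.2 = H b b}
  set T : Set (V × V) := {p | p.1 ∈ A ∧ p.2 ∈ A ∧ H p.1 p.1 = H (a : V) a ∧ H p.1 p.2 = H (a : V) b}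
  have hind : ∀ u w : V, u ≠ 0 → w ∉ Submodule.span F {u} → LinearIndependent F ![u, w] := fun u w hu hw => by
    rw [LinearIndependent.pair_iff' hu]
    exact fun c hc => hw (Submodule.mem_span_singleton.2 ⟨c, hc⟩)
  have h := card_orbit_le (Γ := SU 3 F q) (fun g (p : V × V) => (app g p.1, app g p.2))
    (fun g h p => Prod.ext (app_mul g h p.1) (app_mul g h p.2)) (fun p => Prod.ext (app_one p.1) (app_one p.2))
    J T (fun g hg p hp => ⟨hJ g hg _ hp.1, hJ g hg _ hp.2.1, by rw [h_app]; exact hp.2.2.1,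
      by rw [h_app]; exact hp.2.2.2⟩)
    (x₀ := ((a : V), b)) ⟨a.2, hb, rfl, rfl⟩ O (by
      rintro ⟨u, w⟩ ⟨hu0, huu, hw, huw, hww⟩
      exact exists_pair_move K (hind _ _ (ne_zero_of_h K haV) hba) (hind u w hu0 hw) huu.symm hww.symm huw.symm
        haV hgram)
  have hO : q ^ 2 * (q ^ 3 + 1) * (q * (q ^ 2 - 1)) ≤ Nat.card O := by
    let e : (Σ u : {u : V // H u u = H (a : V) a},
        {z : V // z ≠ 0 ∧ H u.1 z = 0 ∧ H z z = H b b - H (a : V) b * K.bar (H (a : V) b) / H (a : V) a}) → O :=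
      fun p => ⟨(p.1.1, K.bar (H (a : V) b / H (a : V) a) • p.1.1 + p.2.1), fun e => haa (by
          show H (a : V) a = 0
          rw [← p.1.2, show p.1.1 = 0 from e, h_zero_left K]), p.1.2, fun hm => p.2.2.1 (by
          obtain ⟨c, hc⟩ := Submodule.mem_span_singleton.1 hm
          have hz : p.2.1 = (c - K.bar (H (a : V) b / H (a : V) a)) • p.1.1 := by rw [sub_smul, hc, add_sub_cancel_left]
          have h := p.2.2.2.1
          rw [hz, h_smul_right K, p.1.2] at h
          rw [hz, (map_eq_zero K.bar).1 ((mul_eq_zero.1 h).resolve_right haa), zero_smul]), by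
          rw [h_add_right K, h_smul_right K, K.bar_bar, p.1.2, p.2.2.2.1, div_mul_cancel₀ _ haa, add_zero], by
          simp only [h_add_left K, h_add_right K, h_smul_left K, h_smul_right K, K.bar_bar, p.1.2, p.2.2.2.1,
            h_eq_zero_symm K p.2.2.2.1, p.2.2.2.2, map_div₀, bar_self K, mul_zero, add_zero]
          have haa' : H (a : V) a ≠ 0 := haa
          field_simp
          ring⟩
    refine le_trans ?_ (Nat.card_le_card_of_injective e fun p r h => ?_)
    · rw [Nat.card_sigma]
      have hcnt : Nat.card {u : V // H u u = H (a : V) a} = q ^ 2 * (q ^ 3 + 1) := by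
        rw [card_norm_vec K, count_smul K 3 (bar_self K _) haa, count_one_nat, if_neg (by decide)]
      calc q ^ 2 * (q ^ 3 + 1) * (q * (q ^ 2 - 1))
          = ∑ _u : {u : V // H u u = H (a : V) a}, q * (q ^ 2 - 1) := by
            rw [Finset.sum_const, smul_eq_mul, Finset.card_univ, ← Nat.card_eq_fintype_card, hcnt]
        _ ≤ _ := Finset.sum_le_sum fun u _ => by
            have h := low_le_perp K (j := 2) le_rfl (x := u.1) (by rw [u.2]; exact haa)
              (δ := H b b - H (a : V) b * K.bar (H (a : V) b) / H (a : V) a)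
              (by rw [map_sub, map_div₀, map_mul, K.bar_bar, bar_self K, bar_self K, mul_comm (K.bar _)])
            rwa [low, if_pos even_two, show 2 - 1 = 1 from rfl, pow_one] at h
    · obtain ⟨⟨u, hu⟩, z, hz⟩ := p
      obtain ⟨⟨u', hu'⟩, z', hz'⟩ := r
      simp only [e, Subtype.mk.injEq, Prod.mk.injEq] at h
      obtain ⟨rfl, h2⟩ := h
      obtain rfl := add_left_cancel h2
      rfl
  -- the fibres are small
  have hfib : ∀ u : A, N u ≠ 0 → ∀ β : F, Nat.card {w : A // H (u : V) w = β} ≤ q ^ 2 := fun u hu β => by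
    rcases isEmpty_or_nonempty {w : A // H (u : V) w = β} with he | ⟨⟨w₀, hw₀⟩⟩
    · rw [Nat.card_of_isEmpty]; exact Nat.zero_le _
    let Kp : AddSubgroup V :=
      { carrier := {y | ∃ r : F, K.bar r = r ∧ ∃ w ∈ A, H (u : V) w = 0 ∧ y = r • (u : V) + w}
        zero_mem' := ⟨0, map_zero _, 0, A.zero_mem, h_zero_right K _, by rw [zero_smul, add_zero]⟩
        add_mem' := fun {y y'} ⟨r, hr, w, hw, h0, e⟩ ⟨r', hr', w', hw', h0', e'⟩ => ⟨r + r', by rw [map_add, hr, hr'],
          w + w', A.add_mem hw hw', by rw [h_add_right K, h0, h0', add_zero], by rw [e, e', add_smul]; abel⟩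
        neg_mem' := fun {y} ⟨r, hr, w, hw, h0, e⟩ => ⟨-r, by rw [map_neg, hr], -w, A.neg_mem hw, by
          rw [← neg_one_smul F w, h_smul_right K, h0, mul_zero], by rw [e, neg_add, neg_smul]⟩ }
    have hK := card_isotropic K Kp hZ (by
      rintro _ ⟨r, hr, w, hw, h0, rfl⟩ _ ⟨r', hr', w', hw', h0', rfl⟩
      simp only [h_add_left K, h_add_right K, h_smul_left K, h_smul_right K, hr, hr', h0, h0', h_eq_zero_symm K h0,
        h_eq_zero_symm K h0', mul_zero, add_zero, zero_add]
      rw [show r * (r' * H (u : V) u) + H w w' - (r' * (r * H (u : V) u) + H w' w) = H w w' - H w' w by ring]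
      exact hA w hw w' hw')
    have h2 : q * Nat.card {w : A // H (u : V) w = β} ≤ Nat.card Kp := by
      refine le_trans (le_of_eq (congrArg (fun m => m * _) (card_fixed_eq K).symm)) ?_
      rw [← Nat.card_prod]
      refine Nat.card_le_card_of_injective (fun p => (⟨p.1.1 • (u : V) + ((p.2.1 : V) - (w₀ : V)), p.1.1, p.1.2,
        _, A.sub_mem p.2.1.2 w₀.2, by rw [h_sub_right K, p.2.2, hw₀, sub_self], rfl⟩ : Kp)) fun p r e => ?_
      have e1 : p.1.1 • (u : V) + ((p.2.1 : V) - (w₀ : V)) = r.1.1 • (u : V) + ((r.2.1 : V) - (w₀ : V)) :=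
        congrArg Subtype.val e
      have e2 := congrArg (fun y => H (u : V) y) e1
      simp only [h_add_right K, h_sub_right K, h_smul_right K, p.1.2, r.1.2, p.2.2, r.2.2, add_left_inj] at e2
      have e3 : p.1 = r.1 := Subtype.ext (mul_right_cancel₀ hu e2)
      rw [e3] at e1
      exact Prod.ext e3 (Subtype.ext (Subtype.ext (sub_left_injective (add_left_cancel e1))))
    rw [show q ^ 3 = q * q ^ 2 by ring] at hK
    exact Nat.le_of_mul_le_mul_left (h2.trans hK) (by omega)
  have hTle : Nat.card T ≤ Nat.card {u : A // N u = N a} * q ^ 2 := by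
    let e : T → Σ u : {u : A // N u = N a}, {w : A // H (u.1 : V) w = H (a : V) b} := fun p =>
      ⟨⟨⟨p.1.1, p.2.1⟩, p.2.2.2.1⟩, ⟨⟨p.1.2, p.2.2.1⟩, p.2.2.2.2⟩⟩
    have he : Function.Injective e := fun p r h => by
      refine Subtype.ext (Prod.ext ?_ ?_)
      · exact congrArg (fun s => ((s.1.1 : A) : V)) h
      · exact congrArg (fun s => ((s.2.1 : A) : V)) h
    refine (Nat.card_le_card_of_injective e he).trans ?_
    rw [Nat.card_sigma]
    refine (Finset.sum_le_sum fun u _ => hfib u.1 (by rw [u.2]; exact haa) _).trans (le_of_eq ?_)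
    rw [Finset.sum_const, smul_eq_mul, Finset.card_univ, ← Nat.card_eq_fintype_card]
  have hmain : q ^ 2 * (q ^ 3 + 1) * (q * (q ^ 2 - 1)) ≤ J.index * (Nat.card {u : A // N u = N a} * q ^ 2) :=
    (hO.trans h).trans (Nat.mul_le_mul_left _ hTle)
  refine Nat.le_of_mul_le_mul_right ?_ (show 0 < 4 * Nat.card A * q ^ 2 by
    have : 0 < Nat.card A := Nat.card_pos
    positivity)
  rw [hne5, hq4]
  rcases eq_or_lt_of_le hq with hq2 | hq3
  · have h2 := two_eq_zero K hq2.symm
    have hB0 : ∀ x y, B x y = 0 := fun x y => by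
      show H (x : V) y + H (y : V) x = 0
      have hd := hA x x.2 y y.2
      by_contra hne
      obtain ⟨t, ht, htZ⟩ := hZ
      have ht1 : ∀ s : F, s + K.bar s = 0 → s ≠ 0 → s = 1 := fun s hs hs0 => by
        have e : K.bar s = s := by linear_combination hs - s * h2
        rw [K.bar_apply, ← hq2, sq] at e
        exact (mul_left_eq_self₀.1 e).resolve_right hs0
      have e1 : H (x : V) y - H (y : V) x = 1 := ht1 _
        (by rw [map_sub, ← h_swap K (x : V) y, ← h_swap K (y : V) x]; ring)
        (fun e => hne (by linear_combination e + H (y : V) x * h2))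
      rw [e1, ← ht1 t ht (fun e => htZ (e ▸ Z₀.zero_mem))] at hd
      exact htZ hd
    have hval : ∀ x, N x = 0 ∨ N x = N a := fun x => by
      have h0 : ∀ c : F, K.bar c = c → c = 0 ∨ c = 1 := fun c e => by
        rw [K.bar_apply, ← hq2, sq] at e
        exact (mul_left_eq_self₀.1 e).symm
      have h1 : ∀ z : A, N z = 0 ∨ N z = 1 := fun z => h0 _ (bar_self K (z : V))
      rcases h1 x with h | h
      · exact Or.inl h
      · exact Or.inr (h.trans ((h1 a).resolve_left haa).symm)
    have hS' := hS2 hB0 hval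
    set α := Nat.card A
    set s := Nat.card {u : A // N u = N a}
    set I := J.index
    clear_value α s I
    have e : q = 2 := hq2.symm
    simp only [e] at hmain hAle ⊢
    norm_num at hmain hAle ⊢
    nlinarith [Nat.mul_le_mul hAle hAle, Nat.mul_le_mul_left I hS']
  · calc Nat.card A * ((q ^ 5 + 1) * ((q ^ 2 - 1) * (q ^ 2 + 1))) * (4 * Nat.card A * q ^ 2)
        = 4 * ((q ^ 5 + 1) * (q ^ 2 + 1)) * (q ^ 2 - 1) * q ^ 2 * (Nat.card A * Nat.card A) := by ring
      _ ≤ 4 * ((q ^ 5 + 1) * (q ^ 2 + 1)) * (q ^ 2 - 1) * q ^ 2 * (q ^ 3 * q ^ 3) :=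
          Nat.mul_le_mul_left _ (Nat.mul_le_mul hAle hAle)
      _ = q ^ 2 * (q ^ 2 - 1) * q ^ 6 * (4 * ((q ^ 5 + 1) * (q ^ 2 + 1))) := by ring
      _ ≤ q ^ 2 * (q ^ 2 - 1) * q ^ 6 * (q ^ 2 * (q ^ 2 - 1) * (q ^ 3 + 1) * 4 * 4 / 3) := by
          refine Nat.mul_le_mul_left _ ((Nat.le_div_iff_mul_le (by omega)).2 ?_)
          obtain ⟨w, rfl⟩ : ∃ w, q = w + 3 := ⟨q - 3, by omega⟩
          rw [show (w + 3) ^ 2 - 1 = w ^ 2 + 6 * w + 8 by
            rw [show (w + 3) ^ 2 = w ^ 2 + 6 * w + 8 + 1 by ring, Nat.add_sub_cancel]]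
          ring_nf
          nlinarith [Nat.zero_le (w ^ 7), Nat.zero_le (w ^ 6), Nat.zero_le (w ^ 5), Nat.zero_le (w ^ 4),
            Nat.zero_le (w ^ 3), Nat.zero_le (w ^ 2), Nat.zero_le w]
      _ ≤ q ^ 7 * (q ^ 2 - 1) * J.index * (4 * Nat.card A * q ^ 2) := by
          refine Nat.le_of_mul_le_mul_left ?_ (show 0 < 3 by omega)
          calc 3 * (q ^ 2 * (q ^ 2 - 1) * q ^ 6 * (q ^ 2 * (q ^ 2 - 1) * (q ^ 3 + 1) * 4 * 4 / 3))
              = q ^ 2 * (q ^ 2 - 1) * q ^ 6 * (3 * (q ^ 2 * (q ^ 2 - 1) * (q ^ 3 + 1) * 4 * 4 / 3)) := by ring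
            _ ≤ q ^ 2 * (q ^ 2 - 1) * q ^ 6 * (q ^ 2 * (q ^ 2 - 1) * (q ^ 3 + 1) * 4 * 4) :=
                Nat.mul_le_mul_left _ (Nat.mul_div_le _ _)
            _ = 4 * (q ^ 7 * (q ^ 2 - 1)) * (4 * (q ^ 2 * (q ^ 3 + 1) * (q * (q ^ 2 - 1)))) := by ring
            _ ≤ 4 * (q ^ 7 * (q ^ 2 - 1)) * (J.index * (4 * Nat.card {u : A // N u = N a}) * q ^ 2) := by
                refine Nat.mul_le_mul_left _ ?_
                rw [show J.index * (4 * Nat.card {u : A // N u = N a}) * q ^ 2 =
                  4 * (J.index * (Nat.card {u : A // N u = N a} * q ^ 2)) by ring]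
                exact Nat.mul_le_mul_left _ hmain
            _ ≤ 4 * (q ^ 7 * (q ^ 2 - 1)) * (J.index * (3 * Nat.card A) * q ^ 2) :=
                Nat.mul_le_mul_left _ (Nat.mul_le_mul_right _ (Nat.mul_le_mul_left _ hS))
            _ = _ := by ring

/-- The key bound in all dimensions from three. -/
theorem key_ge_three {k : ℕ} (hk : 3 ≤ k) (A : AddSubgroup (Fin k → F)) (J : Subgroup (SU k F q))
    (hJ : ∀ g : SU k F q, g ∈ J → ∀ a ∈ A, app g a ∈ A) (hA0 : A ≠ ⊥) {Z₀ : AddSubgroup F} (hZ : ∃ t ∈ skew K, t ∉ Z₀)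
    (hA : ∀ x ∈ A, ∀ y ∈ A, hermForm k F q x y - hermForm k F q y x ∈ Z₀) :
    Nat.card A * nIso q (k + 2) ≤ q ^ (2 * k + 1) * (q ^ 2 - 1) * J.index := by
  rcases Nat.lt_or_ge k 4 with h | h
  · obtain rfl : k = 3 := by omega
    exact key_three K A J hJ hA0 hZ hA
  · exact key K h A J hJ hA0 hZ hA

end CfsgLib.MinIndexSU
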