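import Cfsg.Agent.Lib.MinIndexSU.Point
import Cfsg.Agent.Lib.MinIndexSU.KeyThree

/-!
The dichotomy at a point: index at least the number of points, or a complement.
-/

set_option autoImplicit false
set_option linter.unusedSectionVars false

namespace CfsgLib.MinIndexSU

open Matrix Cfsg CfsgLib.Classical.Herm CfsgLib.Classical.Elation
open CfsgLib.ClassicalAut (Unitary.Conj)

variable {F : Type*} [Field F] [Finite F] {q : ℕ} (K : Unitary.Conj F q) {k : ℕ}

local notation "V" => (Fin (2 + k) → F)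
local notation "H" => hermForm (2 + k) F q
local notation "G" => SU (2 + k) F q

include K

theorem card_skew : Nat.card (skew K) = q := by
  obtain ⟨θ, hθ0, hθ⟩ := exists_skew K
  conv_rhs => rw [← card_fixed_eq K]
  have hb : K.bar θ = -θ := eq_neg_of_add_eq_zero_right hθ
  exact Nat.card_congr
    { toFun := fun t => ⟨(t : F) / θ, by
        rw [map_div₀, hb, eq_neg_of_add_eq_zero_right t.2, neg_div_neg_eq]⟩
      invFun := fun c => ⟨θ * c.1, by
        show θ * c.1 + K.bar (θ * c.1) = 0
        rw [map_mul, hb, c.2]; ring⟩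
      left_inv := fun t => Subtype.ext (mul_div_cancel₀ _ hθ0)
      right_inv := fun c => Subtype.ext (mul_div_cancel_left₀ _ hθ0) }

variable (P : HPair (F := F) (q := q) (k := k)) (M : Subgroup (SU (2 + k) F q))

theorem levi_eig_ne {m : G} (hm : m ∈ levi P) {c : F} (hc : app m P.v = c • P.v) : c ≠ 0 := fun h => by
  refine v_ne P (app_injective m ?_)
  rw [hc, h, zero_smul]
  exact (mulVec_zero _).symm

/-- The norm of the scalar at the point. -/
noncomputable def nu : levi P →* Fˣ where
  toFun m := Units.mk0 ((m.2.1).choose * K.bar (m.2.1).choose)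
    (mul_ne_zero (levi_eig_ne K P m.2 (m.2.1).choose_spec) ((map_ne_zero K.bar).2 (levi_eig_ne K P m.2 (m.2.1).choose_spec)))
  map_one' := Units.ext (by
    have h := ((1 : levi P).2.1).choose_spec
    show ((1 : levi P).2.1).choose * K.bar ((1 : levi P).2.1).choose = 1
    rw [← smul_left_injective F (v_ne P) ((one_smul F P.v).trans ((app_one P.v).symm.trans h)), map_one, one_mul])
  map_mul' a b := Units.ext (by
    have h := ((a * b).2.1).choose_spec
    have h' : app ((a : G) * (b : G)) P.v = ((b.2.1).choose * (a.2.1).choose) • P.v := by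
      exact (app_mul _ _ _).trans ((congrArg (app (a : G)) (b.2.1).choose_spec).trans ((app_smul _ _ _).trans
        ((congrArg ((b.2.1).choose • ·) (a.2.1).choose_spec).trans (smul_smul _ _ _))))
    show ((a * b).2.1).choose * K.bar ((a * b).2.1).choose =
      (a.2.1).choose * K.bar (a.2.1).choose * ((b.2.1).choose * K.bar (b.2.1).choose)
    rw [← smul_left_injective F (v_ne P) (h'.symm.trans h), map_mul]
    ring)

theorem nu_val (m : levi P) {c : F} (hc : app (m : G) P.v = c • P.v) : (nu K P m : F) = c * K.bar c := by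
  show (m.2.1).choose * K.bar (m.2.1).choose = _
  rw [← smul_left_injective F (v_ne P) (hc.symm.trans (m.2.1).choose_spec)]

theorem card_range (hk : 1 ≤ k) : Nat.card (nu K P).range = q - 1 := by
  refine le_antisymm ?_ ?_
  · rw [← card_fixed K]
    refine Nat.card_le_card_of_injective (fun u => ⟨((u : Fˣ) : F), ?_, Units.ne_zero _⟩) fun a b h =>
      Subtype.ext (Units.ext (congrArg (fun z => z.1) h))
    obtain ⟨m, hm⟩ := u.2
    rw [← hm, nu_val K P m (m.2.1).choose_spec, map_mul, K.bar_bar, mul_comm]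
  · rw [← card_fixed K]
    have hex : ∀ c : {c : F // K.bar c = c ∧ c ≠ 0}, ∃ m : levi P, (nu K P m : F) = c.1 := fun c => by
      obtain ⟨a, ha⟩ := K.exists_norm c.1 c.2.1
      have ha0 : a ≠ 0 := fun h => c.2.2 (by rw [← ha, h, zero_mul])
      obtain ⟨g, hg⟩ := exists_move_one K (show 3 ≤ 2 + k by omega) (v_ne P) (smul_ne_zero ha0 (v_ne P))
        (by rw [h_smul_left K, h_smul_right K, P.hv, mul_zero, mul_zero])
      obtain ⟨s, hs, m, hm, e⟩ := exists_decomp K P hk ⟨a, hg⟩
      refine ⟨⟨m, hm⟩, ?_⟩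
      rw [nu_val K P ⟨m, hm⟩ (c := a), ha]
      show app m P.v = a • P.v
      obtain ⟨x, t, hsg⟩ := hs
      refine app_injective s ?_
      rw [← app_mul, ← e, hg, app_smul, app_self K hsg]
    choose m hm using hex
    exact Nat.card_le_card_of_injective (fun c => (⟨nu K P (m c), m c, rfl⟩ : (nu K P).range)) fun a b h =>
      Subtype.ext (by rw [← hm a, ← hm b]; exact congrArg (fun z : (nu K P).range => ((z : Fˣ) : F)) h)

/-- The scalings present in the subgroup. -/
noncomputable def scal : Subgroup Fˣ := ((lift K P M).subgroupOf (levi P)).map (nu K P)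

theorem scal_le : scal K P M ≤ (nu K P).range := by
  rintro _ ⟨m, -, rfl⟩
  exact ⟨m, rfl⟩

theorem scal_parZ {γ : Fˣ} (hγ : γ ∈ scal K P M) {t : F} (ht : t ∈ parZ K P M) : (γ : F) * t ∈ parZ K P M := by
  obtain ⟨m, ⟨-, s, ⟨x, τ, hs⟩, hsm⟩, rfl⟩ := hγ
  obtain ⟨g, hg, h⟩ := ht
  obtain ⟨c, hc⟩ := m.2.1
  have h1 := sg_conj K ((isT_iff K).1 h) (s * m)
  have e1 : app (s * (m : G)) P.v = c • P.v := by rw [app_mul, hc, app_smul, app_self K hs]
  have e2 : app (s * (m : G)) (0 : V) = 0 := mulVec_zero _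
  rw [e1, e2] at h1
  have h2 := sg_smul K c h1 P.hv (h_zero_left K _)
  rw [smul_zero, ← isT_iff] at h2
  exact ⟨_, M.mul_mem (M.mul_mem hsm hg) (M.inv_mem hsm), by rw [nu_val K P m hc]; exact h2⟩

theorem parZ_le : parZ K P M ≤ skew K := fun _ ⟨_, _, h⟩ => h.2.1

theorem card_scal_lt (hP : ∃ g c, IsT K g P.v c ∧ g ∉ M) (hz : 2 ≤ Nat.card (parZ K P M)) :
    Nat.card (scal K P M) + 1 ≤ Nat.card (parZ K P M) ∧ 2 * Nat.card (parZ K P M) ≤ q := by
  classical
  obtain ⟨g, c, hT, hgM⟩ := hP
  have hc : c ∉ parZ K P M := by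
    rintro ⟨g', hg', h'⟩
    exact hgM (by rwa [sg_unique K ((isT_iff K).1 hT) ((isT_iff K).1 h')])
  have : Nontrivial (parZ K P M) := Finite.one_lt_card_iff_nontrivial.1 (by omega)
  obtain ⟨⟨t, ht⟩, ht0⟩ := exists_ne (0 : parZ K P M)
  have ht0' : t ≠ 0 := fun h => ht0 (Subtype.ext h)
  constructor
  · rw [← Finite.card_option]
    refine Nat.card_le_card_of_injective
      (fun o : Option (scal K P M) => o.elim (0 : parZ K P M) fun γ => ⟨((γ : Fˣ) : F) * t, scal_parZ K P M γ.2 ht⟩) ?_
    rintro (_ | a) (_ | b) h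
    · rfl
    · exact absurd (congrArg Subtype.val h).symm (mul_ne_zero (Units.ne_zero _) ht0')
    · exact absurd (congrArg Subtype.val h) (mul_ne_zero (Units.ne_zero _) ht0')
    · exact congrArg _ (Subtype.ext (Units.ext (mul_right_cancel₀ ht0' (congrArg Subtype.val h))))
  · rw [two_mul]
    conv_rhs => rw [← card_skew K]
    rw [← Nat.card_sum]
    refine Nat.card_le_card_of_injective
      (Sum.elim (fun z => (⟨z.1, parZ_le K P M z.2⟩ : skew K))
        fun z => ⟨(z : F) + c, (skew K).add_mem (parZ_le K P M z.2) hT.2.1⟩) ?_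
    refine Sum.elim_injective.2 ⟨fun a b h => Subtype.ext (congrArg (fun z : skew K => (z : F)) h),
      fun a b h => Subtype.ext (add_right_cancel (congrArg (fun z : skew K => (z : F)) h)), fun a b h => hc ?_⟩
    have h1 : (a : F) = (b : F) + c := congrArg (fun z : skew K => (z : F)) h
    rw [show c = (a : F) - b by rw [h1]; ring]
    exact (parZ K P M).sub_mem a.2 b.2

theorem card_lift_eq : ∃ ι e : ℕ, 0 < e ∧ ((lift K P M).comap (emb K)).index ≤ ι ∧
    Nat.card (levi P) = Nat.card (nu K P).range * (ι * e) ∧ Nat.card (lift K P M) ≤ Nat.card (scal K P M) * e ∧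
    (ι = 1 → Nat.card (nu K P).range ≤ Nat.card (scal K P M) → lift K P M = levi P) := by
  classical
  set N := (nu K P).ker with hN
  set L := (lift K P M).subgroupOf (levi P) with hL
  have h1 : Nat.card (levi P) = Nat.card (nu K P).range * Nat.card N := by
    rw [← Subgroup.index_ker (nu K P), mul_comm, Subgroup.card_mul_index]
  let e0 : SU k F q →* levi P := (emb K).codRestrict (levi P) (emb_mem_levi K P)
  have hN' : ∀ g, e0 g ∈ N := fun g => MonoidHom.mem_ker.2 (Units.ext (by
    rw [nu_val K P (e0 g) (c := 1) (by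
      show app (emb K g) P.v = _
      rw [app_emb_of_prj K g P.v0, one_smul]), map_one, one_mul, Units.val_one]))
  have hle : L.relIndex e0.range ≤ L.relIndex N :=
    Subgroup.relIndex_le_of_le_right (by rintro _ ⟨g, rfl⟩; exact hN' g)
      (Subgroup.index_ne_zero_of_finite)
  have hJ : L.relIndex e0.range = ((lift K P M).comap (emb K)).index := by
    rw [← Subgroup.index_comap]
    exact congrArg Subgroup.index (Subgroup.ext fun g => Iff.rfl)
  rw [hJ] at hle
  have h2 := relIndex_mul_card L N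
  have hL' : Nat.card L = Nat.card (lift K P M) := by
    refine Nat.card_congr (Subgroup.subgroupOfEquivOfLe (show lift K P M ≤ levi P from fun m hm => hm.1)).toEquiv
  have h3 : Nat.card (lift K P M) ≤ Nat.card (scal K P M) * Nat.card ↥(L ⊓ N) := by
    rw [← hL']
    have hker := ((nu K P).comp L.subtype).ker.card_mul_index
    rw [Subgroup.index_ker] at hker
    rw [← hker, mul_comm]
    refine Nat.mul_le_mul (le_of_eq ?_) (Nat.card_le_card_of_injective
      (fun x => (⟨(x.1 : levi P), x.1.2, x.2⟩ : ↥(L ⊓ N))) fun a b h =>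
        Subtype.ext (Subtype.ext (congrArg (fun z : ↥(L ⊓ N) => (z : levi P)) h)))
    rw [MonoidHom.range_comp, Subgroup.range_subtype, scal]
  refine ⟨L.relIndex N, Nat.card ↥(L ⊓ N), Nat.card_pos, hle, by rw [h2, h1], h3, fun hι hγ => ?_⟩
  have hNL : N ≤ L := Subgroup.relIndex_eq_one.1 hι
  refine le_antisymm (fun m hm => hm.1) fun m hm => ?_
  have heq : scal K P M = (nu K P).range := Subgroup.eq_of_le_of_card_ge (scal_le K P M) hγ
  obtain ⟨l, hl, e⟩ : nu K P ⟨m, hm⟩ ∈ scal K P M := heq ▸ ⟨⟨m, hm⟩, rfl⟩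
  have h5 : l⁻¹ * ⟨m, hm⟩ ∈ N := MonoidHom.mem_ker.2 (by rw [map_mul, map_inv, e, inv_mul_cancel])
  have h6 : (⟨m, hm⟩ : levi P) ∈ L := by
    have := L.mul_mem hl (hNL h5)
    rwa [mul_inv_cancel_left] at this
  exact h6

/-- The dichotomy. -/
theorem dichotomy (hk : 3 ≤ k) (hP : ∃ g c, IsT K g P.v c ∧ g ∉ M) :
    nIso q (2 + k) ≤ (q ^ 2 - 1) * M.index ∨
      (lift K P M = levi P ∧ M ⊓ rad K P = ⊥) := by
  classical
  have hq := K.two_le
  obtain ⟨ι, e, he, hι, hlevi, hlift, hfull⟩ := card_lift_eq K P M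
  have hm := master K P M (by omega)
  rw [card_skew K, hlevi, card_range K P (by omega)] at hm
  set α := Nat.card (parA K P M) with hα
  set z := Nat.card (parZ K P M) with hz
  set γ := Nat.card (scal K P M) with hγdef
  have hmain : q ^ (2 * k + 1) * (q - 1) * ι ≤ M.index * (α * (z * γ)) := by
    refine Nat.le_of_mul_le_mul_right ?_ he
    calc q ^ (2 * k + 1) * (q - 1) * ι * e = q ^ (2 * k) * q * ((q - 1) * (ι * e)) := by ring
      _ ≤ M.index * (α * z * Nat.card (lift K P M)) := hm
      _ ≤ M.index * (α * z * (γ * e)) := Nat.mul_le_mul_left _ (Nat.mul_le_mul_left _ hlift)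
      _ = _ := by ring
  have hγ : γ ≤ q - 1 := by
    rw [← card_range K P (show 1 ≤ k by omega)]
    exact Subgroup.card_le_of_le (scal_le K P M)
  have hz0 : 1 ≤ z := Nat.one_le_iff_ne_zero.2 Nat.card_pos.ne'
  have hzγ2 : 2 ≤ z → z * γ + 2 ≤ q := by
    intro h
    obtain ⟨h1, h2⟩ := card_scal_lt K P M hP h
    have hdiv : γ ∣ q - 1 := by
      rw [← card_range K P (show 1 ≤ k by omega)]
      exact Subgroup.card_dvd_of_le (scal_le K P M)
    have hzq : z ∣ q := by
      rw [← card_skew K]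
      exact AddSubgroup.card_dvd_of_le (parZ_le K P M)
    obtain ⟨r, hr⟩ := hzq
    -- nonzero classes modulo the parameters are moved freely
    have hγr : γ + 1 ≤ r := by
      obtain ⟨g, c, hT, hgM⟩ := hP
      have hc : c ∉ parZ K P M := by
        rintro ⟨g', hg', h'⟩
        exact hgM (by rwa [sg_unique K ((isT_iff K).1 hT) ((isT_iff K).1 h')])
      have hmem : ∀ u : scal K P M, ∀ t ∈ skew K, ((u : Fˣ) : F) * t ∈ skew K := fun u t ht => by
        obtain ⟨m, hm⟩ := scal_le K P M u.2
        show _ + K.bar _ = 0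
        rw [← hm, nu_val K P m (m.2.1).choose_spec, map_mul, map_mul, K.bar_bar, eq_neg_of_add_eq_zero_right ht]
        ring
      let f : Option (scal K P M) × parZ K P M → skew K := fun p =>
        ⟨p.1.elim 0 (fun u => ((u : Fˣ) : F) * c) + p.2.1, (skew K).add_mem
          (by rcases p.1 with _ | u
              · exact (skew K).zero_mem
              · exact hmem u c hT.2.1) (parZ_le K P M p.2.2)⟩
      have hf : Function.Injective f := by
        rintro ⟨o, a⟩ ⟨o', b⟩ h
        have h' : o.elim 0 (fun u => ((u : Fˣ) : F) * c) + (a : F) = o'.elim 0 (fun u => ((u : Fˣ) : F) * c) + b :=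
          congrArg (fun w : skew K => (w : F)) h
        suffices ho : o = o' by
          subst ho
          exact Prod.ext rfl (Subtype.ext (add_left_cancel h'))
        rcases o with _ | u <;> rcases o' with _ | u'
        · rfl
        · simp only [Option.elim_none, Option.elim_some, zero_add] at h'
          refine absurd ?_ hc
          have := scal_parZ K P M ((scal K P M).inv_mem u'.2) ((parZ K P M).sub_mem a.2 b.2)
          rwa [show (a : F) - b = ((u' : Fˣ) : F) * c by rw [h']; ring, Units.inv_mul_cancel_left] at this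
        · simp only [Option.elim_none, Option.elim_some, zero_add] at h'
          refine absurd ?_ hc
          have := scal_parZ K P M ((scal K P M).inv_mem u.2) ((parZ K P M).sub_mem b.2 a.2)
          rwa [show (b : F) - a = ((u : Fˣ) : F) * c by rw [← h']; ring, Units.inv_mul_cancel_left] at this
        · simp only [Option.elim_some] at h'
          by_contra hne
          have hd : ((u : Fˣ) : F) - ((u' : Fˣ) : F) ≠ 0 := fun h0 =>
            hne (congrArg _ (Subtype.ext (Units.ext (sub_eq_zero.1 h0))))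
          have hmul : (((u : Fˣ) : F) - ((u' : Fˣ) : F)) * c ∈ parZ K P M := by
            rw [show (((u : Fˣ) : F) - ((u' : Fˣ) : F)) * c = (b : F) - a by linear_combination h']
            exact (parZ K P M).sub_mem b.2 a.2
          -- multiplication by the difference is onto the parameters
          let φ : parZ K P M → parZ K P M := fun t =>
            ⟨(((u : Fˣ) : F) - ((u' : Fˣ) : F)) * t, by
              rw [sub_mul]
              exact (parZ K P M).sub_mem (scal_parZ K P M u.2 t.2) (scal_parZ K P M u'.2 t.2)⟩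
          obtain ⟨t, ht⟩ := (Finite.injective_iff_surjective (f := φ)).1 (fun x y hxy =>
            Subtype.ext (mul_left_cancel₀ hd (congrArg Subtype.val hxy))) ⟨_, hmul⟩
          exact hc (mul_left_cancel₀ hd (congrArg Subtype.val ht) ▸ t.2)
      have hcard := Nat.card_le_card_of_injective f hf
      rw [Nat.card_prod, Finite.card_option, card_skew K, ← hz, ← hγdef] at hcard
      rw [hr, mul_comm z r] at hcard
      exact Nat.le_of_mul_le_mul_right hcard (by omega)
    have h3 : z * (γ + 1) ≤ q := hr ▸ Nat.mul_le_mul_left z hγr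
    rw [mul_add, mul_one] at h3
    omega
  have hzγ : z * γ ≤ q - 1 := by
    rcases Nat.lt_or_ge z 2 with h | h
    · rw [show z = 1 by omega, one_mul]; exact hγ
    · have := hzγ2 h; omega
  by_cases hA : parA K P M = ⊥
  swap
  · refine Or.inl ?_
    obtain ⟨g, c, hT, hgM⟩ := hP
    have hkey := key_ge_three K hk (parA K P M) ((lift K P M).comap (emb K)) (parA_stable K P M) hA
      ⟨c, hT.2.1, by
        rintro ⟨g', hg', h'⟩
        exact hgM (by rwa [sg_unique K ((isT_iff K).1 hT) ((isT_iff K).1 h')])⟩ (parA_iso K P M)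
    rw [add_comm k 2] at hkey
    refine Nat.le_of_mul_le_mul_left ?_ (Nat.mul_pos (show 0 < α from Nat.card_pos) (show 0 < q - 1 by omega))
    calc α * (q - 1) * nIso q (2 + k) = (q - 1) * (α * nIso q (2 + k)) := by ring
      _ ≤ (q - 1) * (q ^ (2 * k + 1) * (q ^ 2 - 1) * ι) :=
          Nat.mul_le_mul_left _ (hkey.trans (Nat.mul_le_mul_left _ hι))
      _ = (q ^ 2 - 1) * (q ^ (2 * k + 1) * (q - 1) * ι) := by ring
      _ ≤ (q ^ 2 - 1) * (M.index * (α * (z * γ))) := Nat.mul_le_mul_left _ hmain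
      _ ≤ (q ^ 2 - 1) * (M.index * (α * (q - 1))) :=
          Nat.mul_le_mul_left _ (Nat.mul_le_mul_left _ (Nat.mul_le_mul_left _ hzγ))
      _ = _ := by ring
  have hα1 : α = 1 := by rw [hα, hA]; exact AddSubgroup.card_bot
  rw [hα1, one_mul] at hmain
  have hE := nIso_le hq (show 2 ≤ 2 + k by omega)
  rw [show 2 * (2 + k) - 1 = 2 * k + 1 + 2 by omega, pow_add] at hE
  have hpk : q ^ (2 + k) ≤ q ^ (2 * k) := Nat.pow_le_pow_right (by omega) (by omega)
  obtain ⟨w, hw⟩ : ∃ w, q = w + 2 := ⟨q - 2, by omega⟩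
  have hsq : q ^ 2 - 1 = (w + 1) * (w + 3) := by
    rw [hw, show (w + 2) ^ 2 = (w + 1) * (w + 3) + 1 by ring, Nat.add_sub_cancel]
  have hposγ : 0 < z * γ := Nat.mul_pos hz0 Nat.card_pos
  have fin : nIso q (2 + k) * (z * γ) ≤ (q ^ 2 - 1) * (q ^ (2 * k + 1) * (q - 1) * ι) →
      nIso q (2 + k) ≤ (q ^ 2 - 1) * M.index := fun h => by
    refine Nat.le_of_mul_le_mul_right ?_ hposγ
    rw [mul_assoc (q ^ 2 - 1)]
    exact h.trans (Nat.mul_le_mul_left _ hmain)
  by_cases hbig : 2 ≤ ι ∨ (z = 1 ∧ 2 * γ ≤ q - 1)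
  · refine Or.inl (fin ?_)
    have h2 : 2 * (z * γ) ≤ (q - 1) * ι ∨ ι = 0 := by
      rcases Nat.eq_zero_or_pos ι with h0 | h0
      · exact Or.inr h0
      rcases hbig with h | ⟨h, h'⟩
      · left; rw [mul_comm (q - 1)]; exact Nat.mul_le_mul h hzγ
      · left; rw [h, one_mul]; exact h'.trans (Nat.le_mul_of_pos_right _ h0)
    rcases h2 with h2 | h0
    swap
    · rw [h0] at hι; exact absurd (Nat.le_zero.1 hι) Subgroup.index_ne_zero_of_finite
    have hEb : nIso q (2 + k) ≤ (q ^ 2 - 1) * q ^ (2 * k + 1) * 2 := by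
      refine hE.trans ?_
      rw [pow_succ q (2 * k), hsq, hw]
      rw [hw] at hpk
      have h9 : (w + 2) ^ 2 * (w + 2) + 1 ≤ (w + 1) * (w + 3) * (w + 2) * 2 := by nlinarith
      calc _ ≤ (w + 2) ^ (2 * k) * (w + 2) * (w + 2) ^ 2 + (w + 2) ^ (2 * k) := Nat.add_le_add_left hpk _
        _ = (w + 2) ^ (2 * k) * ((w + 2) ^ 2 * (w + 2) + 1) := by ring
        _ ≤ (w + 2) ^ (2 * k) * ((w + 1) * (w + 3) * (w + 2) * 2) := Nat.mul_le_mul_left _ h9
        _ = _ := by ring
    calc nIso q (2 + k) * (z * γ) ≤ (q ^ 2 - 1) * q ^ (2 * k + 1) * 2 * (z * γ) := Nat.mul_le_mul_right _ hEb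
      _ = (q ^ 2 - 1) * q ^ (2 * k + 1) * (2 * (z * γ)) := by ring
      _ ≤ (q ^ 2 - 1) * q ^ (2 * k + 1) * ((q - 1) * ι) := Nat.mul_le_mul_left _ h2
      _ = _ := by ring
  push Not at hbig
  have hι1 : 1 ≤ ι := le_trans (Nat.one_le_iff_ne_zero.2 Subgroup.index_ne_zero_of_finite) hι
  by_cases hz1 : z = 1
  · refine Or.inr ⟨hfull (by omega) ?_, ?_⟩
    · rw [card_range K P (show 1 ≤ k by omega)]
      have hdiv : γ ∣ q - 1 := by
        rw [← card_range K P (show 1 ≤ k by omega)]
        exact Subgroup.card_dvd_of_le (scal_le K P M)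
      obtain ⟨t, ht⟩ := hdiv
      have h2γ := hbig.2 hz1
      rcases t with _ | _ | t
      · omega
      · omega
      · rw [ht] at h2γ; nlinarith
    · have h := card_inter_rad K P M
      rw [← hα, ← hz, hα1, hz1, one_mul] at h
      exact Subgroup.card_eq_one.1 (le_antisymm h (Nat.one_le_iff_ne_zero.2 Nat.card_pos.ne'))
  · refine Or.inl (fin ?_)
    have h1 := hzγ2 (by omega)
    rw [show ι = 1 by omega, mul_one]
    have hA' : nIso q (2 + k) ≤ q ^ (2 * k) * (q ^ 3 + 1) := by
      refine hE.trans ?_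
      rw [show q ^ (2 * k + 1) * q ^ 2 = q ^ (2 * k) * q ^ 3 by ring, mul_add, mul_one]
      exact Nat.add_le_add_left hpk _
    have hzγ' : (q ^ 3 + 1) * (z * γ) ≤ q * ((q - 1) * (q ^ 2 - 1)) := by
      calc (q ^ 3 + 1) * (z * γ) ≤ (q ^ 3 + 1) * w := Nat.mul_le_mul_left _ (by omega)
        _ ≤ _ := by
          rw [hsq, hw, show w + 2 - 1 = w + 1 by omega]
          nlinarith
    calc nIso q (2 + k) * (z * γ) ≤ q ^ (2 * k) * (q ^ 3 + 1) * (z * γ) := Nat.mul_le_mul_right _ hA'
      _ = q ^ (2 * k) * ((q ^ 3 + 1) * (z * γ)) := by ring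
      _ ≤ q ^ (2 * k) * (q * ((q - 1) * (q ^ 2 - 1))) := Nat.mul_le_mul_left _ hzγ'
      _ = _ := by ring

end CfsgLib.MinIndexSU
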