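import Cfsg.Agent.Lib.MinIndexSU.Count

/-!
A subgroup meeting the point stabiliser in a complement containing the embedded `SU_k(q)`: it fixes
a line, or maps the point into the secant of the hyperbolic pair.
-/

set_option autoImplicit false
set_option linter.unusedSectionVars false

namespace CfsgLib.MinIndexSU

open Matrix Cfsg CfsgLib.Classical.Herm CfsgLib.Classical.Elation
open CfsgLib.ClassicalAut (Unitary.Conj)

variable {F : Type*} [Field F] [Finite F] {q : ℕ} (K : Unitary.Conj F q)

include K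

/-- The two lower bounds: the number of points, or of non-singular lines. -/
def Bound {n : ℕ} (M : Subgroup (SU n F q)) : Prop :=
  nIso q n ≤ (q ^ 2 - 1) * M.index ∨ count K n 1 ≤ (q + 1) * M.index

theorem bound_of_line {n : ℕ} (hn : 3 ≤ n) {z : Fin n → F} (hz : z ≠ 0) {M : Subgroup (SU n F q)}
    (hM : M ≤ lineStab z hz) : Bound K M := by
  classical
  have h := line_bound K hn hz hM
  rw [card_norm_set K _ (bar_self K z)] at h
  by_cases h0 : hermForm n F q z z = 0
  · rw [if_pos h0, h0, card_scalar_iso K, mul_comm] at h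
    exact Or.inl h
  · rw [if_neg h0, card_scalar_aniso K h0, mul_comm] at h
    exact Or.inr h

theorem exists_iso_ne {n : ℕ} (hn : 3 ≤ n) {x : Fin n → F} (hx : x ≠ 0) :
    ∃ w : Fin n → F, hermForm n F q w w = 0 ∧ hermForm n F q x w ≠ 0 := by
  by_cases hxx : hermForm n F q x x = 0
  · obtain ⟨f, hf, hxf⟩ := (ClassicalAut.Unitary.space (n := n) K).exists_partner (v := x) hxx hx
    exact ⟨f, hf, ne_of_eq_of_ne hxf one_ne_zero⟩
  · obtain ⟨p, hp, hpx⟩ := exists_aniso_orth K ![x] one_pos (by omega) (fun _ => hn) (by omega) (by omega)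
    have hxp : hermForm n F q x p = 0 := h_eq_zero_symm K (hpx 0)
    obtain ⟨l, hl⟩ := K.exists_norm (-(hermForm n F q x x) / hermForm n F q p p)
      (by rw [map_div₀, map_neg, bar_self K, bar_self K])
    refine ⟨x + l • p, ?_, ?_⟩
    · simp only [h_add_left K, h_add_right K, h_smul_left K, h_smul_right K, hxp, h_eq_zero_symm K hxp]
      rw [eq_div_iff hp] at hl
      linear_combination hl
    · rwa [h_add_right K, h_smul_right K, hxp, mul_zero, add_zero]

/-- A non-zero vector with a given norm and product with a given vector. -/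
theorem exists_pair_vec {j : ℕ} (hj : 3 ≤ j) {x : Fin j → F} (hx : x ≠ 0) (β : F) {γ : F} (hγ : K.bar γ = γ) :
    ∃ y : Fin j → F, y ≠ 0 ∧ hermForm j F q x y = β ∧ hermForm j F q y y = γ := by
  have hq := K.two_le
  by_cases hxx' : hermForm j F q x x ≠ 0
  · -- a component along `x` and a perpendicular vector
    obtain ⟨i, rfl⟩ : ∃ i, j = i + 1 := ⟨j - 1, by omega⟩
    set N := hermForm (i + 1) F q x x with hN
    have hNb : K.bar N = N := bar_self K x
    have hpos : 0 < low q i := by
      have h1 : 2 ≤ q ^ i := le_trans hq (Nat.le_self_pow (by omega) q)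
      have h2 : 2 ≤ q ^ (i - 1) := le_trans hq (Nat.le_self_pow (by omega) q)
      rw [low]
      split_ifs <;> exact Nat.mul_pos (by omega) (by omega)
    have h := low_le_perp K (j := i) (by omega) (x := x) hxx' (δ := γ - β * K.bar β / N)
      (by rw [map_sub, map_div₀, map_mul, K.bar_bar, hNb, hγ, mul_comm (K.bar β)])
    obtain ⟨⟨z, hz0, hxz, hzz⟩⟩ := (Nat.card_pos_iff.1 (hpos.trans_le h)).1
    refine ⟨K.bar (β / N) • x + z, fun e => hz0 ?_, ?_, ?_⟩
    · have e1 := congrArg (fun v => hermForm (i + 1) F q x v) e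
      simp only [h_add_right K, h_smul_right K, K.bar_bar, hxz, h_zero_right K, add_zero, ← hN,
        div_mul_cancel₀ _ hxx'] at e1
      rw [e1, zero_div, map_zero, zero_smul, zero_add] at e
      exact e
    · rw [h_add_right K, h_smul_right K, K.bar_bar, hxz, add_zero, ← hN, div_mul_cancel₀ _ hxx']
    · simp only [h_add_left K, h_add_right K, h_smul_left K, h_smul_right K, K.bar_bar, hxz,
        h_eq_zero_symm K hxz, hzz, ← hN, map_div₀, hNb, mul_zero, add_zero]
      field_simp
      ring
  push Not at hxx'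
  by_cases hβ : β = 0
  swap
  · obtain ⟨y₁, hy₁⟩ := (ClassicalAut.Unitary.space (n := j) K).exists_ne x hx
    replace hy₁ : hermForm j F q y₁ x = 1 := hy₁
    obtain ⟨t, ht⟩ := K.exists_trace
    set w := K.bar β • y₁
    have hxw : hermForm j F q x w = β := by
      rw [h_smul_right K, K.bar_bar, h_swap K y₁ x, hy₁, map_one, mul_one]
    clear_value w
    set Δ := γ - hermForm j F q w w
    have hΔ : K.bar Δ = Δ := by rw [map_sub, hγ, bar_self K]
    have hb : K.bar β ≠ 0 := (map_ne_zero K.bar).2 hβ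
    refine ⟨w + (Δ * t / ((t + K.bar t) * β)) • x, fun e => hβ ?_, ?_, ?_⟩
    · have e1 := congrArg (fun v => hermForm j F q x v) e
      simpa only [h_add_right K, h_smul_right K, hxw, hxx', mul_zero, add_zero, h_zero_right K] using e1
    · rw [h_add_right K, h_smul_right K, hxw, hxx', mul_zero, add_zero]
    · simp only [h_add_left K, h_add_right K, h_smul_left K, h_smul_right K, hxx', hxw, mul_zero, add_zero]
      rw [h_swap K x w, hxw]
      simp only [map_div₀, map_mul, map_add, K.bar_bar, hΔ]
      rw [add_comm (K.bar t) t]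
      field_simp
      ring
  subst hβ
  obtain ⟨p, hp, hpx⟩ := exists_aniso_orth K ![x] one_pos (by omega) (by omega) (by omega) (by omega)
  have hpx : hermForm j F q p x = 0 := hpx 0
  by_cases hγ0 : γ = 0
  · exact ⟨x, hx, hxx', hxx'.trans hγ0.symm⟩
  · obtain ⟨l, hl⟩ := K.exists_norm (γ / hermForm j F q p p) (by rw [map_div₀, hγ, bar_self K])
    rw [eq_div_iff hp] at hl
    refine ⟨l • p, fun e => hγ0 ?_, by rw [h_smul_right K, h_eq_zero_symm K hpx, mul_zero], ?_⟩
    · have h1 : hermForm j F q (l • p) (l • p) = 0 := by rw [e, h_zero_left K]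
      rw [h_smul_left K, h_smul_right K] at h1
      linear_combination h1 - hl
    · rw [h_smul_left K, h_smul_right K]
      linear_combination hl

variable {k : ℕ}

local notation "V" => (Fin (2 + k) → F)
local notation "H" => hermForm (2 + k) F q
local notation "G" => SU (2 + k) F q

theorem emb_isT (P : HPair (F := F) (q := q) (k := k)) {g : SU k F q} {w : Fin k → F} {c : F} (h : IsT K g w c) :
    IsT K (emb K g) (incl w) c := by
  refine ⟨by rw [h_incl K, h.1], h.2.1, fun y => ?_⟩
  have hy : H y (incl w) = hermForm k F q (prj y) w := by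
    conv_lhs => rw [decomp K P y, h_add_left K, h_add_left K, h_smul_left K, h_smul_left K, h_v_incl K P,
      h_u_incl K P, h_incl K]
    ring
  conv_lhs => rw [decomp K P y, app_add, app_add, app_smul, app_smul, app_emb_of_prj K g P.v0,
    app_emb_of_prj K g P.u0, app_emb_incl, h.2.2, map_add, map_smul]
  conv_rhs => rw [hy]
  conv_rhs => arg 1; rw [decomp K P y]
  abel

variable (P : HPair (F := F) (q := q) (k := k)) (M : Subgroup (SU (2 + k) F q))

theorem not_centre_v (hb : M ⊓ rad K P = ⊥) : P.v ∉ centres K M := fun hc => by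
  obtain ⟨θ, hθ0, hθ⟩ := exists_skew K
  obtain ⟨g, hg⟩ := exists_T K P.hv hθ
  have h : g ∈ M ⊓ rad K P := ⟨hc.2 g θ hg, 0, θ, (isT_iff K).1 hg⟩
  rw [hb, Subgroup.mem_bot] at h
  subst h
  have e := hg.2.2 P.u
  rw [app_one, h_uv K P, mul_one] at e
  exact v_ne P ((smul_eq_zero.1 (left_eq_add.1 e)).resolve_left hθ0)

include P in
theorem centre_incl (hE : ∀ g : SU k F q, emb K g ∈ M) {w : Fin k → F} (hw : hermForm k F q w w = 0) :
    incl w ∈ centres K M := by
  refine ⟨by rw [h_incl K, hw], fun g c hg => ?_⟩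
  obtain ⟨g', hg'⟩ := exists_T K hw hg.2.1
  have h := emb_isT K P hg'
  rw [show g = emb K g' from ext_app fun y => by rw [hg.2.2, h.2.2]]
  exact hE g'

/-- Centres orthogonal to the point lie in the complement. -/
theorem centre_perp (hk : 1 ≤ k) (hb : M ⊓ rad K P = ⊥) (hE : ∀ g : SU k F q, emb K g ∈ M) {c : V}
    (hc : c ∈ centres K M) (hcv : H c P.v = 0) : H c P.u = 0 := by
  by_contra hx
  set x := H c P.u with hxdef
  set w := prj c with hw
  have hdec : c = x • P.v + incl w := by
    conv_lhs => rw [decomp K P c, hcv, zero_smul, add_zero]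
  have hww : hermForm k F q w w = 0 := by
    have h := h_expand K P c c
    rw [hc.1, hcv, map_zero, mul_zero, zero_mul, zero_add, zero_add] at h
    exact h.symm
  by_cases hw0 : w = 0
  · rw [hw0, map_zero, add_zero] at hdec
    have h := smul_mem_centres K x⁻¹ hc
    rw [hdec, smul_smul, inv_mul_cancel₀ hx, one_smul] at h
    exact not_centre_v K P M hb h
  obtain ⟨z, hz⟩ : ∃ z, hermForm k F q w z = -x := by
    obtain ⟨y, hy⟩ := (ClassicalAut.Unitary.space (n := k) K).exists_ne w hw0
    refine ⟨K.bar (-x) • y, ?_⟩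
    rw [h_smul_right K, K.bar_bar, h_swap K y w, show hermForm k F q y w = 1 from hy, map_one, mul_one]
  obtain ⟨t, ht⟩ := (ClassicalAut.Unitary.space (n := k) K).tr z
  change hermForm k F q z z + (1 : F) * t + K.bar t = 0 at ht
  rw [one_mul, ← h_incl K (k := k)] at ht
  obtain ⟨r, hr⟩ := exists_sg K (show 3 ≤ 2 + k by omega) P.hv (h_incl_v K P z) ht
  have hrw : app r (incl w) = c := by
    rw [app_eq K hr, h_incl_v K P, h_incl K, hz, hdec]
    module
  obtain ⟨θ, hθ0, hθ⟩ := exists_skew K
  obtain ⟨g', hg'⟩ := exists_T K hww hθ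
  have hgT := emb_isT K P hg'
  have h1 := sg_conj K ((isT_iff K).1 hgT) r
  rw [hrw, app_zero r, ← isT_iff] at h1
  have hl := emb_mem_levi K P g'
  have hin : r * emb K g' * r⁻¹ * (emb K g')⁻¹ ∈ M ⊓ rad K P := by
    refine ⟨M.mul_mem (hc.2 _ θ h1) (M.inv_mem (hE g')), ?_⟩
    rw [show r * emb K g' * r⁻¹ * (emb K g')⁻¹ = r * (emb K g' * r⁻¹ * (emb K g')⁻¹) by group]
    exact (rad K P).mul_mem ⟨_, _, hr⟩ (levi_norm K P hl ((rad K P).inv_mem ⟨_, _, hr⟩))
  rw [hb, Subgroup.mem_bot, mul_inv_eq_one] at hin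
  rw [hin] at h1
  have e := h1.2.2 P.u
  rw [hgT.2.2, h_u_incl K P, mul_zero, zero_smul, add_zero, left_eq_add, smul_eq_zero, mul_eq_zero] at e
  rcases e with (e | e) | e
  · exact hθ0 e
  · rw [hdec, h_add_right K, h_smul_right K, h_uv K P, h_u_incl K P, mul_one, add_zero, map_eq_zero] at e
    exact hx e
  · exact hx (by rw [hxdef, e, h_zero_left K])

/-- The cross product of two secant parts. -/
noncomputable def cross (c c' : V) : F := H c P.u * H c' P.v - H c P.v * H c' P.u

/-- All centres have proportional secant parts. -/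
theorem cross_eq_zero (hk : 3 ≤ k) (hb : M ⊓ rad K P = ⊥) (hE : ∀ g : SU k F q, emb K g ∈ M) {c₁ c₂ : V}
    (h1 : c₁ ∈ centres K M) (h2 : c₂ ∈ centres K M) : cross P c₁ c₂ = 0 := by
  by_contra hne
  obtain ⟨θ, hθ0, hθ⟩ := exists_skew K
  have hy : ∀ {c c' : V}, c ∈ centres K M → cross P c c' ≠ 0 → H c P.v ≠ 0 := fun {c c'} hc h e => h (by
    rw [cross, e, centre_perp K P M (by omega) hb hE hc e, zero_mul, zero_mul, sub_zero])
  have hsym : ∀ c c' : V, cross P c' c = -cross P c c' := fun c c' => by rw [cross, cross]; ring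
  -- the image of one centre under a transvection at another
  have himg : ∀ {c c' : V} {τ : F}, c ∈ centres K M → c' ∈ centres K M → τ + K.bar τ = 0 →
      c' + (τ * H c' c) • c ∈ centres K M := fun {c c' τ} hc hc' hτ => by
    obtain ⟨T, hT⟩ := exists_T K hc.1 hτ
    have := app_mem_centres K (hc.2 T τ hT) hc'
    rwa [hT.2.2] at this
  -- no skew multiple lands on the perpendicular
  have kill : ∀ {c c' : V} {τ : F}, c ∈ centres K M → c' ∈ centres K M → cross P c c' ≠ 0 →
      τ + K.bar τ = 0 → H c' P.v + τ * H c' c * H c P.v ≠ 0 := fun {c c' τ} hc hc' hne hτ e => by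
    have h3 := himg hc hc' hτ
    have e1 : H (c' + (τ * H c' c) • c) P.v = 0 := by rw [h_add_left K, h_smul_left K]; exact e
    have e2 := centre_perp K P M (by omega) hb hE h3 e1
    rw [h_add_left K, h_smul_left K] at e2
    refine hne ?_
    rw [cross]
    linear_combination H c P.u * e - H c P.v * e2
  have both : ∀ {c c' : V}, c ∈ centres K M → c' ∈ centres K M → cross P c c' ≠ 0 →
      prj c ≠ 0 → prj c' ≠ 0 → False := fun {c c'} hc hc' hne hw hw' => by
    have hyc := hy hc hne
    obtain ⟨w, hw0, hwβ, hwγ⟩ := exists_pair_vec K hk hw'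
      (-(H c' P.v) / (θ * H c P.v) - (H c' P.u * K.bar (H c P.v) + H c' P.v * K.bar (H c P.u)))
      (bar_self K (prj c))
    obtain ⟨g, hg⟩ := exists_move_one K hk hw hw0 hwγ.symm
    have hc1 := app_mem_centres K (hE g) hc
    have ev : H (app (emb K g) c) P.v = H c P.v := by
      conv_lhs => rw [← app_emb_of_prj K g P.v0, h_app]
    have eu : H (app (emb K g) c) P.u = H c P.u := by
      conv_lhs => rw [← app_emb_of_prj K g P.u0, h_app]
    have ep : prj (app (emb K g) c) = w := by
      conv_lhs => rw [decomp K P c, app_add, app_add, app_smul, app_smul, app_emb_of_prj K g P.v0,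
        app_emb_of_prj K g P.u0, app_emb_incl, hg]
      simp only [map_add, map_smul, P.v0, P.u0, prj_incl, smul_zero, zero_add]
    refine kill hc1 hc' (by rwa [cross, ev, eu]) hθ ?_
    rw [h_expand K P c' (app (emb K g) c), ev, eu, ep, hwβ, add_sub_cancel]
    field_simp
    ring
  have mixed : ∀ {c c' : V}, c ∈ centres K M → c' ∈ centres K M → cross P c c' ≠ 0 →
      prj c ≠ 0 → prj c' = 0 → False := fun {c c'} hc hc' hne hw hw' => by
    have hy' : H c' P.v ≠ 0 := hy hc' (by rw [hsym]; exact neg_ne_zero.2 hne)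
    have h3 := himg hc' hc hθ
    have hh : H c c' ≠ 0 := by
      intro h0
      have h := h_expand K P c c'
      have h' := h_expand K P c' c'
      rw [h0, hw', h_zero_right K, add_zero] at h
      rw [hc'.1, hw', h_zero_right K, add_zero] at h'
      refine hne ((mul_eq_zero.1 (show cross P c c' * K.bar (H c' P.v) = 0 from ?_)).resolve_right
        ((map_ne_zero K.bar).2 hy'))
      rw [cross]
      linear_combination (-(H c' P.v)) * h + H c P.v * h'
    refine both h3 hc (fun e => hne ?_) ?_ hw
    · rw [cross, h_add_left K, h_add_left K, h_smul_left K, h_smul_left K] at e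
      rw [hsym c' c]
      refine neg_eq_zero.2 ((mul_eq_zero.1 (show θ * H c c' * cross P c' c = 0 from ?_)).resolve_left
        (mul_ne_zero hθ0 hh))
      rw [cross]
      linear_combination e
    · rwa [map_add, map_smul, hw', smul_zero, add_zero]
  by_cases hw₁ : prj c₁ = 0 <;> by_cases hw₂ : prj c₂ = 0
  · -- both in the secant
    have hy1 := hy h1 hne
    have hy2 : H c₂ P.v ≠ 0 := hy h2 (by rw [hsym]; exact neg_ne_zero.2 hne)
    have e1 := h_expand K P c₁ c₁
    have e2 := h_expand K P c₂ c₂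
    have e := h_expand K P c₂ c₁
    rw [h1.1, hw₁, h_zero_right K, add_zero] at e1
    rw [h2.1, hw₂, h_zero_right K, add_zero] at e2
    rw [hw₁, h_zero_right K, add_zero] at e
    have hb1 : K.bar (H c₁ P.v) ≠ 0 := (map_ne_zero K.bar).2 hy1
    have hb2 : K.bar (H c₂ P.v) ≠ 0 := (map_ne_zero K.bar).2 hy2
    set d := H c₂ P.u / H c₂ P.v - H c₁ P.u / H c₁ P.v with hd
    have hd0 : d ≠ 0 := fun h => hne (by
      rw [hd, div_sub_div _ _ hy2 hy1, div_eq_zero_iff, or_iff_left (mul_ne_zero hy2 hy1)] at h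
      rw [cross]; linear_combination -h)
    have hds : K.bar d = -d := by
      rw [hd, map_sub, map_div₀, map_div₀]
      field_simp
      linear_combination -(H c₁ P.v * K.bar (H c₁ P.v)) * e2 + (H c₂ P.v * K.bar (H c₂ P.v)) * e1
    refine kill h1 h2 hne (τ := -(H c₁ P.v * K.bar (H c₁ P.v) * d)⁻¹) ?_ ?_
    · rw [map_neg, map_inv₀, map_mul, map_mul, K.bar_bar, hds, mul_neg, inv_neg,
        mul_comm (K.bar (H c₁ P.v)) (H c₁ P.v)]
      ring
    · have hh : H c₂ c₁ = H c₂ P.v * K.bar (H c₁ P.v) * d := by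
        rw [e, hd]
        field_simp
        linear_combination H c₂ P.v * e1.symm
      rw [hh]
      field_simp
      ring
  · exact mixed h2 h1 (by rw [hsym]; exact neg_ne_zero.2 hne) hw₂ hw₁
  · exact mixed h1 h2 hne hw₁ hw₂
  · exact both h1 h2 hne hw₁ hw₂

theorem card_secant_iso :
    Nat.card {y : V // prj y = 0 ∧ y ≠ 0 ∧ H y y = 0} ≤ nIso q 2 := by
  classical
  have h := card_norm_set K (n := 2) 0 (map_zero _)
  rw [if_pos rfl] at h
  rw [← h]
  have key : ∀ y : V, prj y = 0 → y = Fin.append (fun i => y (Fin.castAdd k i)) 0 := fun y hy => funext fun i => by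
    induction i using Fin.addCases with
    | left i => rw [Fin.append_left]
    | right i => rw [Fin.append_right]; exact congrFun hy i
  refine Nat.card_le_card_of_injective (fun y => ⟨fun i => y.1 (Fin.castAdd k i), fun e => y.2.2.1 ?_, ?_⟩)
    fun a b e => Subtype.ext ?_
  · rw [key _ y.2.1, e]
    funext i
    induction i using Fin.addCases <;> simp
  · have := y.2.2.2
    rw [key _ y.2.1, h_append K, h_zero_left K, add_zero] at this
    exact this
  · have e' : (fun i => a.1 (Fin.castAdd k i)) = fun i => b.1 (Fin.castAdd k i) := congrArg Subtype.val e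
    rw [key _ a.2.1, key _ b.2.1, e']

/-- The end of the complement branch. -/
theorem bound_of_emb (hk : 3 ≤ k) (hb : M ⊓ rad K P = ⊥) (hE : ∀ g : SU k F q, emb K g ∈ M) : Bound K M := by
  have hperp : ∀ x : V, (∀ w, hermForm k F q w w = 0 → H x (incl w) = 0) → prj x = 0 := fun x hx => by
    by_contra h
    obtain ⟨w, hw, hne⟩ := exists_iso_ne K hk h
    refine hne (Eq.trans ?_ (hx w hw))
    conv_rhs => rw [decomp K P x, h_add_left K, h_add_left K, h_smul_left K, h_smul_left K, h_v_incl K P,
      h_u_incl K P, h_incl K]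
    ring
  by_cases hsec : ∀ c ∈ centres K M, H c P.v = 0
  · have hmove : ∀ m ∈ M, prj (app m P.v) = 0 := fun m hm => hperp _ fun w hw => by
      rw [← app_inv' m (incl w), h_app]
      exact h_eq_zero_symm K (hsec _ (app_mem_centres K (M.inv_mem hm) (centre_incl K P M hE hw)))
    have h := compl_orbit_bound K P M (by omega) hb {y | prj y = 0 ∧ y ≠ 0 ∧ H y y = 0} fun m hm c hc =>
      ⟨by rw [map_smul, hmove m hm, smul_zero], smul_ne_zero hc (app_ne_zero m (v_ne P)),
        by rw [h_smul_left K, h_smul_right K, h_app, P.hv, mul_zero, mul_zero]⟩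
    have hq := K.two_le
    refine Or.inl ?_
    have h2 := card_secant_iso (k := k) K
    have h3 : nIso q (2 + k) * q ^ (2 * k + 1) ≤ M.index * nIso q 2 := h.trans (Nat.mul_le_mul_left _ h2)
    have h4 : nIso q 2 ≤ (q ^ 2 - 1) * q ^ (2 * k + 1) := by
      rw [nIso, if_pos even_two, show 2 - 1 = 1 from rfl, pow_one]
      refine Nat.mul_le_mul_left _ ?_
      calc q + 1 ≤ q * q := by nlinarith
        _ = q ^ 2 := (sq q).symm
        _ ≤ _ := Nat.pow_le_pow_right (by omega) (by omega)
    refine Nat.le_of_mul_le_mul_right ?_ (pow_pos (show 0 < q by omega) (2 * k + 1))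
    calc _ ≤ M.index * nIso q 2 := h3
      _ ≤ M.index * ((q ^ 2 - 1) * q ^ (2 * k + 1)) := Nat.mul_le_mul_left _ h4
      _ = _ := by ring
  push Not at hsec
  obtain ⟨c₀, hc₀, hy₀⟩ := hsec
  set x₀ := H c₀ P.u with hx₀
  set y₀ := H c₀ P.v with hy₀def
  set z := -K.bar x₀ • P.v + K.bar y₀ • P.u with hz
  have hz0 : z ≠ 0 := fun e => hy₀ (by
    have := congrArg (fun y => H y P.v) e
    simpa only [hz, h_add_left K, h_smul_left K, P.hv, h_uv K P, h_zero_left K, mul_zero, zero_add, mul_one,
      map_eq_zero] using this)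
  have hcz : ∀ c ∈ centres K M, H c z = 0 := fun c hc => by
    have h := cross_eq_zero K P M hk hb hE hc hc₀
    rw [cross] at h
    rw [hz, h_add_right K, h_smul_right K, h_smul_right K, map_neg, K.bar_bar, K.bar_bar]
    linear_combination h
  refine bound_of_line K (by omega) hz0 fun m hm => ?_
  have hcm : ∀ c ∈ centres K M, H c (app m z) = 0 := fun c hc => by
    rw [← app_inv' m c, h_app]
    exact hcz _ (app_mem_centres K (M.inv_mem hm) hc)
  have hp : prj (app m z) = 0 := hperp _ fun w hw => h_eq_zero_symm K (hcm _ (centre_incl K P M hE hw))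
  refine ⟨H (app m z) P.v / K.bar y₀, ?_⟩
  have h0 := h_eq_zero_symm K (hcm c₀ hc₀)
  rw [h_expand K P, hp, h_zero_left K, add_zero, ← hx₀, ← hy₀def] at h0
  conv_lhs => rw [decomp K P (app m z), hp, map_zero, add_zero]
  have hb0 : K.bar y₀ ≠ 0 := (map_ne_zero K.bar).2 hy₀
  have e1 : H (app m z) P.u = H (app m z) P.v / K.bar y₀ * -K.bar x₀ := by
    field_simp
    linear_combination h0
  rw [hz, smul_add, smul_smul, smul_smul, ← e1, div_mul_cancel₀ _ hb0]

end CfsgLib.MinIndexSU
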