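import Cfsg.Agent.Lib.MinIndexSU.Main
import Cfsg.Agent.Lib.TwoCover.Unitary

/-!
The minimal index for `PSU_n(q)`.
-/

set_option autoImplicit false
set_option linter.unusedSectionVars false

namespace CfsgLib.MinIndexSU

open Cfsg CfsgLib.Classical.Herm
open CfsgLib.ClassicalAut (Unitary.Conj)

variable {F : Type*} [Field F] [Fintype F] {q : ℕ} {n : ℕ}

theorem comap_ne_top {H : Subgroup (PSU n F q)} (hH : H ≠ ⊤) :
    H.comap (QuotientGroup.mk' (Subgroup.center (SU n F q))) ≠ ⊤ := fun e =>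
  hH (Subgroup.comap_injective (QuotientGroup.mk'_surjective _) (e.trans (Subgroup.comap_top _).symm))

theorem index_push (S : Subgroup (SU n F q)) (hS : Subgroup.center (SU n F q) ≤ S) :
    (S.map (QuotientGroup.mk' (Subgroup.center (SU n F q))) : Subgroup (PSU n F q)).index = S.index :=
  Subgroup.index_map_eq _ (QuotientGroup.mk'_surjective _) (by rwa [QuotientGroup.ker_mk'])

theorem psu_points (hF : Fintype.card F = q ^ 2) (hn : 5 ≤ n) (h : 3 ≤ q ∨ Odd n) :
    (∀ H : Subgroup (PSU n F q), H ≠ ⊤ → nIso q n / (q ^ 2 - 1) ≤ H.index) ∧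
      ∃ H : Subgroup (PSU n F q), H.index = nIso q n / (q ^ 2 - 1) := by
  obtain ⟨-, -, -, -, ⟨K⟩⟩ := TwoCover.exists_conj_of_card hF
  refine ⟨fun H hH => ?_, ?_⟩
  · have := point_bound K hn h (comap_ne_top hH)
    rwa [Subgroup.index_comap_of_surjective H (QuotientGroup.mk'_surjective _)] at this
  · obtain ⟨S, hS, e⟩ := exists_point_index K (n := n) (by omega)
    refine ⟨S.map (QuotientGroup.mk' _), ?_⟩
    have hq : 2 ^ 2 ≤ q ^ 2 := Nat.pow_le_pow_left K.two_le 2
    rw [index_push S hS, ← e, Nat.mul_div_cancel _ (by omega)]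

theorem psu_lines (hF : Fintype.card F = 4) (hn : 6 ≤ n) (he : Even n) :
    (∀ H : Subgroup (PSU n F 2), H ≠ ⊤ → 2 ^ (n - 1) * (2 ^ n - 1) / 3 ≤ H.index) ∧
      ∃ H : Subgroup (PSU n F 2), H.index = 2 ^ (n - 1) * (2 ^ n - 1) / 3 := by
  obtain ⟨-, -, -, -, ⟨K⟩⟩ := TwoCover.exists_conj_of_card (q := 2) (hF.trans (by norm_num))
  refine ⟨fun H hH => ?_, ?_⟩
  · have := line_count_bound K hn rfl he (comap_ne_top hH)
    rwa [Subgroup.index_comap_of_surjective H (QuotientGroup.mk'_surjective _)] at this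
  · obtain ⟨S, hS, e⟩ := exists_line_index K (n := n) (by omega)
    refine ⟨S.map (QuotientGroup.mk' _), ?_⟩
    rw [count_one_nat, if_pos he] at e
    rw [index_push S hS, ← e, Nat.mul_div_cancel _ (by omega)]

end CfsgLib.MinIndexSU
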