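import Cfsg.Agent.Lib.MinIndexSU.TwoEmb

/-!
The complement case for `SU_5(2)`.
-/

set_option autoImplicit false
set_option linter.unusedSectionVars false

namespace CfsgLib.MinIndexSU

open Matrix Cfsg CfsgLib.Classical.Herm CfsgLib.Classical.Elation
open CfsgLib.ClassicalAut (Unitary.Conj)

variable {F : Type*} [Field F] [Finite F] {q : ℕ} (K : Unitary.Conj F q)

local notation "V" => (Fin (2 + 3) → F)
local notation "H" => hermForm (2 + 3) F q
local notation "G" => SU (2 + 3) F q

include K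

variable {P : HPair (F := F) (q := q) (k := 3)} {M : Subgroup (SU (2 + 3) F q)}

/-- A scalar of order three clears the radical parameters. -/
theorem exists_conj_T (hq : q = 2) (hM : IsCompl' K P M) :
    ∃ r ∈ rad K P, IsCompl' K P (M.map (MulAut.conj r).toMonoidHom) ∧
      ∀ g : SU 3 F q, ∃ T t, IsSg K T P.v 0 t ∧ T * emb K g ∈ M.map (MulAut.conj r).toMonoidHom := by
  classical
  obtain ⟨ω, hω, hω3⟩ := exists_omega K hq
  have h2 := two_eq_zero K hq
  have hω0 : ω ≠ 0 := fun e => by rw [e] at hω3; simp at hω3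
  have hω1 : ω ≠ 1 := fun e => by
    rw [e] at hω; exact one_ne_zero (α := F) (by linear_combination hω - h2)
  have hN := norm_eq_one_two K hq hω0
  obtain ⟨sc, hsc⟩ : ∃ sc : SU 3 F q, ∀ z, app sc z = ω • z := by
    refine ⟨SUMinDegree.mkSU (ω • (1 : Matrix (Fin 3) (Fin 3) F)) (by
      rw [det_smul, det_one, mul_one, Fintype.card_fin, hω3]) (fun x y => by
      rw [smul_mulVec, smul_mulVec, one_mulVec, one_mulVec, h_smul_left K, h_smul_right K,
        ← mul_assoc, hN, one_mul]), fun z => ?_⟩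
    rw [SUMinDegree.app_mkSU, smul_mulVec, one_mulVec]
  set m0 := emb K sc
  have hm0v : app m0 P.v = P.v := app_emb_of_prj K sc P.v0
  have hm0w : ∀ z, app m0 (incl z) = incl (ω • z) := fun z => by rw [app_emb_incl, hsc]
  have hm0 : m0 ∈ levi P := emb_mem_levi K P sc
  have hconj : ∀ {s : G} {z : Fin 3 → F} {t : F}, IsSg K s P.v (incl z) t →
      IsSg K (m0 * s * m0⁻¹) P.v (incl (ω • z)) t := fun {s z t} h => by
    have h1 := sg_conj K h m0
    rwa [hm0v, hm0w] at h1
  obtain ⟨s0, hs0, hs0M⟩ := hM.exists_lift m0 hm0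
  obtain ⟨x0, τ0, hs0'⟩ := hs0
  obtain ⟨t0, hs0''⟩ := sg_normal K P hs0'
  set x := -(1 - ω)⁻¹ • prj x0 with hx
  obtain ⟨tr, htr⟩ := (ClassicalAut.Unitary.space (n := 3) K).tr x
  change hermForm 3 F q x x + (1 : F) * tr + K.bar tr = 0 at htr
  rw [one_mul, ← h_incl K (k := 3)] at htr
  obtain ⟨r, hr⟩ := exists_sg K (show 3 ≤ 2 + 3 by omega) P.hv (h_incl_v K P x) htr
  have hM' := isCompl_conj K hM (r := r) ⟨_, _, hr⟩
  refine ⟨r, ⟨_, _, hr⟩, hM', ?_⟩
  set M' := M.map (MulAut.conj r).toMonoidHom with hM'def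
  obtain ⟨T0, τ, hT0, hT0M⟩ : ∃ T0 τ, IsSg K T0 P.v 0 τ ∧ T0 * m0 ∈ M' := by
    have hrinv := sg_inv K hr
    rw [← map_neg] at hrinv
    have h1 := sg_mul K (sg_mul K hr hs0'') (hconj hrinv)
    refine ⟨r * s0 * (m0 * r⁻¹ * m0⁻¹), ?_, ?_, s0 * m0, hs0M, ?_⟩
    rotate_left
    · have e : (incl x : V) + incl (prj x0) + incl (ω • -x) = 0 := by
        rw [← map_add, ← map_add, ← map_zero (incl (F := F) (k := 3))]
        congr 1
        have h1μ : (1 : F) - ω ≠ 0 := sub_ne_zero.2 (Ne.symm hω1)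
        rw [hx]
        match_scalars
        field_simp
        ring
      rw [e] at h1
      exact h1
    · show r * (s0 * m0) * r⁻¹ = r * s0 * (m0 * r⁻¹ * m0⁻¹) * m0
      group
  intro g
  obtain ⟨s, hs, hsM⟩ := hM'.exists_lift _ (emb_mem_levi K P g)
  obtain ⟨xs, ts, hs'⟩ := hs
  obtain ⟨ts', hs''⟩ := sg_normal K P hs'
  have hcomm : m0 * emb K g = emb K g * m0 := by
    rw [← map_mul, ← map_mul]
    congr 1
    exact ext_app fun z => by rw [app_mul, app_mul, hsc, hsc, app_smul]
  have h1 := hconj hs''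
  have h2' : m0 * s * m0⁻¹ * emb K g ∈ M' := by
    have h3 := M'.mul_mem (M'.mul_mem hT0M hsM) (M'.inv_mem hT0M)
    rwa [show T0 * m0 * (s * emb K g) * (T0 * m0)⁻¹ = T0 * (m0 * s * m0⁻¹) * (m0 * emb K g * m0⁻¹) * T0⁻¹ by group,
      hcomm, mul_inv_cancel_right, T_comm K hT0 ⟨_, _, h1⟩, mul_assoc (m0 * s * m0⁻¹), T_emb K hT0 g,
      ← mul_assoc, mul_inv_cancel_right] at h3
  have h3 := lift_unique K hM' ⟨_, _, hs''⟩ ⟨_, _, h1⟩ hsM h2'
  have hz : prj xs = 0 := by
    have h4 := (sg_ext K P hs'' h1 h3).1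
    have h5 : (1 - ω) • prj xs = 0 := by rw [sub_smul, one_smul, ← h4, sub_self]
    exact (smul_eq_zero.1 h5).resolve_left (sub_ne_zero.2 (Ne.symm hω1))
  rw [hz, map_zero] at hs''
  exact ⟨s, ts', hs'', hsM⟩

/-- The bound for a complement in `SU_5(2)`. -/
theorem bound_five (hq : q = 2) (hM₀ : IsCompl' K P M) : Bound K M := by
  classical
  cases nonempty_fintype F
  obtain ⟨r, -, hM, hT⟩ := exists_conj_T K hq hM₀
  refine bound_conj K (r := r) ?_
  set M' := M.map (MulAut.conj r).toMonoidHom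
  have hforms : ∀ {w : Fin 3 → F}, w ≠ 0 → ∀ {g : SU 3 F q}, IsT K g w 1 → ∃ a t : F, t + K.bar t = 0 ∧
      ∀ y, app (sectEmb K hM g) y = y + (H y (incl w) + a * H y P.v) • incl w +
        (K.bar a * H y (incl w) + t * H y P.v) • P.v := by
    intro w _ g hg
    obtain ⟨T, t, hTt, hTM⟩ := hT g
    have hT' := (isT_iff K).2 hTt
    refine ⟨0, t, hT'.2.1, fun y => ?_⟩
    rw [show sectEmb K hM g = T * emb K g from sect_eq K hM ⟨_, emb_mem_levi K P g⟩ ⟨_, _, hTt⟩ hTM, app_mul,
      (emb_isT K P hg).2.2, hT'.2.2]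
    simp only [h_add_left K, h_smul_left K, h_incl_v K P, map_zero, mul_zero, zero_mul, add_zero, zero_add, one_mul]
  by_cases hno : ∀ w, hermForm 3 F q w w = 0 → w ≠ 0 → ¬Good K M' P w
  · exact bound_of_not_good K hq le_rfl hM hforms hno
  push Not at hno
  obtain ⟨w₀, hw₀, hw₀0, hgood⟩ := hno
  have hcW : ∀ w, hermForm 3 F q w w = 0 → w ≠ 0 → incl w ∈ centres K M' := fun w hw hw0 => by
    obtain ⟨α, hα⟩ := good_move K le_rfl hM hw₀ hw₀0 hw hw0 hgood
    obtain ⟨g, hg⟩ := exists_T K hw (one_skew K hq)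
    obtain ⟨T, t, hTt, hTM⟩ := hT g
    have h1 := (sectEmb_eq_of_centre K hM hw0 hα hg).2.2
    rw [show sectEmb K hM g = T * emb K g from sect_eq K hM ⟨_, emb_mem_levi K P g⟩ ⟨_, _, hTt⟩ hTM] at h1
    obtain ⟨y, hy⟩ := (ClassicalAut.Unitary.space (n := 3) K).exists_ne w hw0
    have e := h1 (incl y)
    rw [app_mul, (emb_isT K P hg).2.2, ((isT_iff K).2 hTt).2.2] at e
    simp only [h_add_left K, h_add_right K, h_smul_left K, h_smul_right K, h_incl K, h_incl_v K P, mul_zero,
      add_zero, zero_smul, show hermForm 3 F q y w = 1 from hy, one_mul, one_smul, add_right_inj,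
      left_eq_add] at e
    rwa [(smul_eq_zero.1 e).resolve_right (v_ne P), zero_smul, add_zero] at hα
  -- the orbit of the point and the centres
  let OF : Finset V := Finset.univ.filter fun y => ∃ m ∈ M', ∃ c : F, c ≠ 0 ∧ y = c • app m P.v
  let CF : Finset V := Finset.univ.filter fun y => y ≠ 0 ∧ y ∈ centres K M'
  let X : Finset V := Finset.univ.filter fun y => y ≠ 0 ∧ H y y = 0
  let rel : V → V → Prop := fun p c => H c p = 0 ∧ c ∉ Submodule.span F {p}
  have hOX : OF ⊆ X := fun y hy => by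
    simp only [OF, X, Finset.mem_filter, Finset.mem_univ, true_and] at hy ⊢
    obtain ⟨m, -, c, hc, rfl⟩ := hy
    exact ⟨smul_ne_zero hc (app_ne_zero m (v_ne P)),
      by rw [h_smul_left K, h_smul_right K, h_app, P.hv, mul_zero, mul_zero]⟩
  have hCX : CF ⊆ X := fun y hy => by
    simp only [CF, X, Finset.mem_filter, Finset.mem_univ, true_and] at hy ⊢
    exact ⟨hy.1, hy.2.1⟩
  have hdis : Disjoint OF CF := Finset.disjoint_left.2 fun y hy hy' => by
    simp only [OF, CF, Finset.mem_filter, Finset.mem_univ, true_and] at hy hy'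
    obtain ⟨m, hm, c, hc, rfl⟩ := hy
    have h := app_mem_centres K (M'.inv_mem hm) (smul_mem_centres K c⁻¹ hy'.2)
    rw [smul_smul, inv_mul_cancel₀ hc, one_smul, app_inv] at h
    exact not_centre_v K P M' hM.inter h
  have hX : X.card = nIso q (2 + 3) := by
    have h := card_norm_set K (n := 2 + 3) 0 (map_zero _)
    rw [if_pos rfl, Nat.card_eq_fintype_card, Fintype.card_subtype] at h
    exact h
  have hA : ∀ p ∈ X, (X.filter (rel p)).card = 4 * nIso q 3 := fun p hp => by
    simp only [X, Finset.mem_filter, Finset.mem_univ, true_and] at hp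
    rw [← card_perp_eq K hq (show 1 ≤ 3 by omega) hp.1 hp.2, Nat.card_eq_fintype_card, Fintype.card_subtype]
    congr 1
    ext y
    simp only [X, rel, Finset.mem_filter, Finset.mem_univ, true_and]
    tauto
  let Wset : Finset V := (Finset.univ.filter fun w : Fin 3 → F => w ≠ 0 ∧ hermForm 3 F q w w = 0).image incl
  have hW : Wset.card = nIso q 3 := by
    rw [Finset.card_image_of_injective _ incl_injective]
    have h := card_norm_set K (n := 3) 0 (map_zero _)
    rw [if_pos rfl, Nat.card_eq_fintype_card, Fintype.card_subtype] at h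
    exact h
  have hlow : ∀ p ∈ OF, nIso q 3 ≤ (CF.filter (rel p)).card := fun p hp => by
    simp only [OF, Finset.mem_filter, Finset.mem_univ, true_and] at hp
    obtain ⟨m, hm, c, hc, rfl⟩ := hp
    rw [← hW, ← Finset.card_image_of_injective Wset (app_injective m)]
    refine Finset.card_le_card fun y hy => ?_
    simp only [Wset, Finset.mem_image, Finset.mem_filter, Finset.mem_univ, true_and] at hy
    obtain ⟨_, ⟨w, ⟨hw0, hw⟩, rfl⟩, rfl⟩ := hy
    have hne : (incl w : V) ≠ 0 := fun e => hw0 (incl_injective (e.trans (map_zero _).symm))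
    simp only [CF, rel, Finset.mem_filter, Finset.mem_univ, true_and]
    refine ⟨⟨app_ne_zero m hne, app_mem_centres K hm (hcW w hw hw0)⟩,
      by rw [h_smul_right K, h_app, h_incl_v K P, mul_zero], fun h => ?_⟩
    obtain ⟨b, hb⟩ := Submodule.mem_span_singleton.1 h
    rw [smul_smul, ← app_smul] at hb
    have := congrArg prj (app_injective m hb)
    rw [map_smul, P.v0, smul_zero, prj_incl] at this
    exact hw0 this.symm
  have hsymm : ∀ {p c : V}, p ≠ 0 → rel p c → rel c p := fun {p c} hp ⟨h1, h2⟩ => by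
    refine ⟨h_eq_zero_symm K h1, fun h => h2 ?_⟩
    obtain ⟨b, rfl⟩ := Submodule.mem_span_singleton.1 h
    have hb : b ≠ 0 := fun e => hp (by rw [e, zero_smul])
    exact Submodule.mem_span_singleton.2 ⟨b⁻¹, by rw [smul_smul, inv_mul_cancel₀ hb, one_smul]⟩
  have hup : ∀ c ∈ CF, (OF.filter fun p => rel p c).card ≤ 4 * nIso q 3 := fun c hc => by
    rw [← hA c (hCX hc)]
    refine Finset.card_le_card fun p hp => ?_
    simp only [Finset.mem_filter] at hp ⊢
    exact ⟨hOX hp.1, hsymm (Finset.mem_filter.1 (hOX hp.1)).2.1 hp.2⟩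
  have hcount : OF.card * nIso q 3 ≤ ∑ c ∈ CF, (OF.filter fun p => rel p c).card := by
    refine le_trans ?_ (le_of_eq (Finset.sum_card_bipartiteAbove_eq_sum_card_bipartiteBelow (s := OF) (t := CF) rel))
    calc OF.card * nIso q 3 = ∑ _p ∈ OF, nIso q 3 := by rw [Finset.sum_const, smul_eq_mul]
      _ ≤ _ := Finset.sum_le_sum fun p hp => by
          refine (hlow p hp).trans (le_of_eq ?_)
          congr 1
  have e3 : nIso q 3 = 27 := by rw [hq]; decide
  have e5 : nIso q (2 + 3) = 495 := by rw [hq]; decide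
  rw [e3] at hW hcount hup
  rw [e5] at hX
  have hsum : OF.card + CF.card ≤ 495 := by
    rw [← Finset.card_union_of_disjoint hdis, ← hX]
    exact Finset.card_le_card (Finset.union_subset hOX hCX)
  have hO : OF.card ≤ 395 := by
    by_cases hCW : CF ⊆ Wset
    · have h1 := Finset.card_le_card hCW
      have h2 := Finset.sum_le_card_nsmul CF (fun c => (OF.filter fun p => rel p c).card) (4 * 27) hup
      rw [smul_eq_mul] at h2
      omega
    obtain ⟨c, hc, hcW'⟩ := Finset.not_subset.1 hCW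
    have hc' := hc
    simp only [CF, Finset.mem_filter, Finset.mem_univ, true_and] at hc'
    -- a centre of the complement perpendicular to this one
    obtain ⟨wi, hwi0, hwi, hwiw⟩ : ∃ wi : Fin 3 → F, wi ≠ 0 ∧ hermForm 3 F q wi wi = 0 ∧
        hermForm 3 F q (prj c) wi = 0 := by
      by_cases hw0 : prj c = 0
      · exact ⟨w₀, hw₀0, hw₀, by rw [hw0, h_zero_left K]⟩
      · obtain ⟨y, hy0, hxy, hyy⟩ := exists_pair_vec K le_rfl hw0 0 (γ := 0) (map_zero _)
        exact ⟨y, hy0, hyy, hxy⟩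
    have hne : (incl wi : V) ≠ 0 := fun e => hwi0 (incl_injective (e.trans (map_zero _).symm))
    have hwC : (incl wi : V) ∈ CF := by
      simp only [CF, Finset.mem_filter, Finset.mem_univ, true_and]
      exact ⟨hne, hcW wi hwi hwi0⟩
    have hrel : rel c (incl wi) := by
      refine ⟨?_, fun h => ?_⟩
      · rw [h_expand K P, h_incl_u K P, h_incl_v K P, prj_incl, zero_mul, zero_mul, zero_add, zero_add]
        exact h_eq_zero_symm K hwiw
      · obtain ⟨b, hb⟩ := Submodule.mem_span_singleton.1 h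
        have hb0 : b ≠ 0 := fun e => hne (by rw [← hb, e, zero_smul])
        refine hcW' ?_
        simp only [Wset, Finset.mem_image, Finset.mem_filter, Finset.mem_univ, true_and]
        refine ⟨b⁻¹ • wi, ⟨smul_ne_zero (inv_ne_zero hb0) hwi0,
          by rw [h_smul_left K, h_smul_right K, hwi, mul_zero, mul_zero]⟩, ?_⟩
        rw [map_smul, ← hb, smul_smul, inv_mul_cancel₀ hb0, one_smul]
    have hstrict : (OF.filter fun p => rel p c).card + 1 ≤ 4 * 27 := by
      have h := hA c (hCX hc)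
      rw [e3] at h
      rw [← h, ← Finset.card_insert_of_notMem (s := OF.filter fun p => rel p c) (a := incl wi)
        (fun h' => Finset.disjoint_left.1 hdis (Finset.mem_filter.1 h').1 hwC)]
      refine Finset.card_le_card (Finset.insert_subset_iff.2 ⟨?_, fun p hp => ?_⟩)
      · simp only [Finset.mem_filter]
        exact ⟨hCX hwC, hrel⟩
      · simp only [Finset.mem_filter] at hp ⊢
        exact ⟨hOX hp.1, hsymm (Finset.mem_filter.1 (hOX hp.1)).2.1 hp.2⟩
    rw [← Finset.add_sum_erase CF _ hc] at hcount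
    have h2 := Finset.sum_le_card_nsmul (CF.erase c) (fun c => (OF.filter fun p => rel p c).card) (4 * 27)
      fun x hx => hup x (Finset.mem_of_mem_erase hx)
    rw [smul_eq_mul, Finset.card_erase_of_mem hc] at h2
    have hpos : 1 ≤ CF.card := Finset.card_pos.2 ⟨c, hc⟩
    omega
  -- the index
  have hbound := compl_orbit_bound K P M' (by omega) hM.inter {y | y ∈ OF} fun m hm c hc => by
    show c • app m P.v ∈ OF
    simp only [OF, Finset.mem_filter, Finset.mem_univ, true_and]
    exact ⟨m, hm, c, hc, rfl⟩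
  rw [show Nat.card {y : V | y ∈ OF} = OF.card by
    rw [Nat.card_eq_fintype_card, ← Set.toFinset_card]; congr 1; ext y; simp] at hbound
  have e7 : q ^ (2 * 3 + 1) = 128 := by rw [hq]; norm_num
  rw [e5, e7] at hbound
  have h160 : 161 ≤ M'.index := by
    have := hbound.trans (Nat.mul_le_mul_left _ hO)
    omega
  have h216 : Nat.card (SU 3 F q) ∣ Nat.card M' := by
    have hinj : Function.Injective (sectEmb K hM) := (injective_iff_map_eq_one _).2 fun g hg => by
      obtain ⟨s, z, t, hs, he⟩ := sectEmb_form K hM g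
      rw [hg] at he
      have hmem : emb K g = s⁻¹ := eq_inv_of_mul_eq_one_right he.symm
      exact emb_injective K ((rad_inter_levi K P (hmem ▸ (rad K P).inv_mem ⟨_, _, hs⟩) (emb_mem_levi K P g)).trans
        (map_one _).symm)
    rw [Nat.card_congr (MonoidHom.ofInjective hinj).toEquiv]
    exact Subgroup.card_dvd_of_le (by rintro _ ⟨g, rfl⟩; exact sectEmb_mem K hM g)
  have hdiv : Nat.card (SU 3 F q) * M'.index ∣ Nat.card G := by
    rw [← M'.card_mul_index]
    exact Nat.mul_dvd_mul_right h216 _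
  have eq5 : Nat.card G = 13685760 := by
    have h := card_SU K (n := 2 + 3) (by omega)
    rw [card_GU K] at h
    have e : ∀ N : ℕ, (q + 1) * N = q ^ ((2 + 3) * (2 + 3 - 1) / 2) *
        ∏ i ∈ Finset.range (2 + 3), (if Even i then q ^ (i + 1) + 1 else q ^ (i + 1) - 1) → N = 13685760 := fun N h => by
      rw [hq] at h
      norm_num [Finset.prod_range_succ, Nat.even_iff] at h
      omega
    exact e _ h
  have eq3 : Nat.card (SU 3 F q) = 216 := by
    have h := card_SU K (n := 3) (by omega)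
    rw [card_GU K] at h
    have e : ∀ N : ℕ, (q + 1) * N = q ^ (3 * (3 - 1) / 2) *
        ∏ i ∈ Finset.range 3, (if Even i then q ^ (i + 1) + 1 else q ^ (i + 1) - 1) → N = 216 := fun N h => by
      rw [hq] at h
      norm_num [Finset.prod_range_succ, Nat.even_iff] at h
      omega
    exact e _ h
  rw [eq5, eq3] at hdiv
  refine Or.inl ?_
  have e2 : q ^ 2 - 1 = 3 := by rw [hq]; norm_num
  rw [e5, e2]
  by_contra hlt
  push Not at hlt
  have hlt' : M'.index < 165 := by omega
  obtain ⟨j, hj⟩ := hdiv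
  obtain h | h | h | h : M'.index = 161 ∨ M'.index = 162 ∨ M'.index = 163 ∨ M'.index = 164 := by omega
  all_goals (rw [h] at hj; omega)

end CfsgLib.MinIndexSU
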