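import Cfsg.Agent.Lib.MinIndexSU.Key
import Cfsg.Agent.Lib.Classical.UnitaryElation

/-!
The standard hyperbolic pair and the embedded `SU_k(q)` fixing it.
-/

set_option autoImplicit false
set_option linter.unusedSectionVars false

namespace CfsgLib.MinIndexSU

open Matrix Cfsg CfsgLib.Classical.Herm
open CfsgLib.ClassicalAut (Unitary.Conj)

variable {F : Type*} [Field F] [Finite F] {q : ℕ} (K : Unitary.Conj F q) {k : ℕ}

local notation "V" => (Fin (2 + k) → F)
local notation "H" => hermForm (2 + k) F q

include K

theorem h_append (a b : Fin 2 → F) (z w : Fin k → F) :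
    H (Fin.append a z) (Fin.append b w) = hermForm 2 F q a b + hermForm k F q z w := by
  rw [ClassicalAut.Unitary.herm_apply K, ClassicalAut.Unitary.herm_apply K, ClassicalAut.Unitary.herm_apply K,
    Fin.sum_univ_add]
  simp [Fin.append_left, Fin.append_right]

omit K

/-- The hyperplane complement. -/
def incl : (Fin k → F) →ₗ[F] V where
  toFun z := Fin.append 0 z
  map_add' a b := by
    funext i
    induction i using Fin.addCases <;> simp
  map_smul' c a := by
    funext i
    induction i using Fin.addCases <;> simp

/-- The projection onto the complement. -/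
def prj : V →ₗ[F] (Fin k → F) := LinearMap.funLeft F F (Fin.natAdd 2)

theorem prj_incl (z : Fin k → F) : prj (incl z : V) = z := funext fun i => Fin.append_right _ _ i

theorem prj_append (a : Fin 2 → F) (z : Fin k → F) : prj (Fin.append a z) = z :=
  funext fun i => Fin.append_right _ _ i

theorem incl_injective : Function.Injective (incl (F := F) (k := k)) := fun a b h => by
  rw [← prj_incl a, h, prj_incl]

/-- A hyperbolic pair, with orthogonal complement the last coordinates. -/
structure HPair where
  v : V
  u : V
  v0 : prj v = 0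
  u0 : prj u = 0
  hv : hermForm (2 + k) F q v v = 0
  hu : hermForm (2 + k) F q u u = 0
  hvu : hermForm (2 + k) F q v u = 1

include K

theorem exists_hpair : Nonempty (HPair (F := F) (q := q) (k := k)) := by
  obtain ⟨ξ, η, hξ, hη, hne⟩ : ∃ ξ η : F, ξ * K.bar ξ = -1 ∧ η * K.bar η = -1 ∧ 1 + ξ * K.bar η ≠ 0 := by
    obtain ⟨ξ, hξ⟩ := K.exists_norm (-1) (by rw [map_neg, map_one])
    have : Nontrivial {a : F // a * K.bar a = 1} :=
      Finite.one_lt_card_iff_nontrivial.1 (by rw [card_norm_one K]; have := K.two_le; omega)
    obtain ⟨⟨z, hz⟩, hz1⟩ := exists_ne (⟨1, by simp⟩ : {a : F // a * K.bar a = 1})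
    refine ⟨ξ, ξ * z, hξ, by rw [map_mul]; linear_combination z * K.bar z * hξ - hz, fun h => hz1 ?_⟩
    rw [map_mul, ← mul_assoc, hξ] at h
    have hb : K.bar z = 1 := by linear_combination -h
    refine Subtype.ext ?_
    show z = 1
    rw [← K.bar_bar z, hb, map_one]
  set c : F := K.bar (1 + ξ * K.bar η)⁻¹ with hc
  refine ⟨⟨Fin.append ![1, ξ] 0, Fin.append ![c, c * η] 0, prj_append _ _, prj_append _ _, ?_, ?_, ?_⟩⟩ <;>
    rw [h_append K, h_zero_left K, add_zero, ClassicalAut.Unitary.herm_apply K, Fin.sum_univ_two] <;>
    simp only [Matrix.cons_val_zero, Matrix.cons_val_one, map_one, map_mul, hc, K.bar_bar]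
  · rw [hξ]; ring
  · linear_combination (K.bar (1 + ξ * K.bar η)⁻¹ * (1 + ξ * K.bar η)⁻¹) * hη
  · field_simp

theorem h_incl (z w : Fin k → F) : H (incl z) (incl w) = hermForm k F q z w := by
  show H (Fin.append 0 z) (Fin.append 0 w) = _
  rw [h_append K, h_zero_left K, zero_add]

theorem h_incl_of_prj {x : V} (hx : prj x = 0) (z : Fin k → F) : H x (incl z) = 0 := by
  have e : x = Fin.append (fun i => x (Fin.castAdd k i)) 0 := funext fun i => by
    induction i using Fin.addCases with
    | left i => rw [Fin.append_left]
    | right i => rw [Fin.append_right]; exact congrFun hx i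
  rw [e]
  show H _ (Fin.append 0 z) = 0
  rw [h_append K, h_zero_right K, h_zero_left K, add_zero]

variable (P : HPair (F := F) (q := q) (k := k))

theorem h_incl_v (z : Fin k → F) : H (incl z) P.v = 0 := h_eq_zero_symm K (h_incl_of_prj K P.v0 z)

theorem h_incl_u (z : Fin k → F) : H (incl z) P.u = 0 := h_eq_zero_symm K (h_incl_of_prj K P.u0 z)

theorem h_uv : H P.u P.v = 1 := by rw [h_swap K P.v P.u, P.hvu, map_one]

theorem h_v_incl (z : Fin k → F) : H P.v (incl z) = 0 := h_incl_of_prj K P.v0 z

theorem h_u_incl (z : Fin k → F) : H P.u (incl z) = 0 := h_incl_of_prj K P.u0 z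

theorem decomp (y : V) : y = H y P.u • P.v + H y P.v • P.u + incl (prj y) := by
  set d := y - (H y P.u • P.v + H y P.v • P.u + incl (prj y)) with hd
  have hu : H d P.u = 0 := by
    rw [hd, h_sub_left K, h_add_left K, h_add_left K, h_smul_left K, h_smul_left K, P.hvu, P.hu, h_incl_u K P]; ring
  have hv : H d P.v = 0 := by
    rw [hd, h_sub_left K, h_add_left K, h_add_left K, h_smul_left K, h_smul_left K, P.hv, h_uv K P, h_incl_v K P]; ring
  have hp : prj d = 0 := by
    rw [hd, map_sub, map_add, map_add, map_smul, map_smul, P.v0, P.u0, prj_incl]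
    simp
  suffices d = 0 by rwa [hd, sub_eq_zero] at this
  -- the span of the pair has trivial annihilator in the first two coordinates
  have key : ∀ x : V, prj x = 0 → x = Fin.append (fun i => x (Fin.castAdd k i)) 0 := fun x hx => funext fun i => by
    induction i using Fin.addCases with
    | left i => rw [Fin.append_left]
    | right i => rw [Fin.append_right]; exact congrFun hx i
  let T : (Fin 2 → F) →ₗ[F] (Fin 2 → F) :=
    { toFun := fun a => ![H (Fin.append a 0) P.v, H (Fin.append a 0) P.u]
      map_add' := fun a b => by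
        rw [show (Fin.append (a + b) (0 : Fin k → F)) = Fin.append a 0 + Fin.append b 0 from funext fun i => by
          induction i using Fin.addCases <;> simp]
        funext i; fin_cases i <;> simp [h_add_left K]
      map_smul' := fun c a => by
        rw [show (Fin.append (c • a) (0 : Fin k → F)) = c • Fin.append a 0 from funext fun i => by
          induction i using Fin.addCases <;> simp]
        funext i; fin_cases i <;> simp [h_smul_left K] }
  have hT : Function.Surjective T := fun w => by
    refine ⟨w 1 • (fun i => P.v (Fin.castAdd k i)) + w 0 • (fun i => P.u (Fin.castAdd k i)), ?_⟩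
    have e1 := key P.v P.v0
    have e2 := key P.u P.u0
    funext i
    show (![H _ P.v, H _ P.u] : Fin 2 → F) i = w i
    rw [show Fin.append (w 1 • (fun i => P.v (Fin.castAdd k i)) + w 0 • (fun i => P.u (Fin.castAdd k i)))
        (0 : Fin k → F) = w 1 • P.v + w 0 • P.u from funext fun j => by
      induction j using Fin.addCases with
      | left j => simp
      | right j => simp [show P.v (Fin.natAdd 2 j) = 0 from congrFun P.v0 j, show P.u (Fin.natAdd 2 j) = 0 from congrFun P.u0 j]]
    fin_cases i <;> simp [h_add_left K, h_smul_left K, P.hv, P.hu, P.hvu, h_uv K P]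
  have hinj := LinearMap.injective_iff_surjective.2 hT
  have h0 : (fun i => d (Fin.castAdd k i)) = 0 := hinj (by
    rw [map_zero]
    funext i
    show (![H _ P.v, H _ P.u] : Fin 2 → F) i = 0
    rw [← key d hp, hu, hv]
    fin_cases i <;> rfl)
  rw [key d hp, h0]
  funext i
  induction i using Fin.addCases <;> simp

theorem h_expand (x y : V) :
    H x y = H x P.u * K.bar (H y P.v) + H x P.v * K.bar (H y P.u) + hermForm k F q (prj x) (prj y) := by
  conv_lhs => rw [decomp K P x, decomp K P y]
  simp only [h_add_left K, h_add_right K, h_smul_left K, h_smul_right K, P.hv, P.hu, P.hvu, h_uv K P, h_incl K,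
    h_incl_v K P, h_incl_u K P, h_v_incl K P, h_u_incl K P]
  ring

omit K

/-- The block matrix fixing the pair. -/
def embMat (g : Matrix (Fin k) (Fin k) F) : Matrix (Fin (2 + k)) (Fin (2 + k)) F :=
  (Matrix.fromBlocks 1 0 0 g).submatrix finSumFinEquiv.symm finSumFinEquiv.symm

theorem embMat_apply (g : Matrix (Fin k) (Fin k) F) (a : Fin 2 → F) (z : Fin k → F) :
    embMat g *ᵥ Fin.append a z = Fin.append a (g *ᵥ z) := by
  rw [embMat, submatrix_mulVec_equiv, Equiv.symm_symm,
    show (Fin.append a z) ∘ (finSumFinEquiv : Fin 2 ⊕ Fin k ≃ Fin (2 + k)) = Sum.elim a z from funext fun i => by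
      rcases i with i | i <;> simp [finSumFinEquiv_apply_left, finSumFinEquiv_apply_right],
    fromBlocks_mulVec]
  funext i
  induction i using Fin.addCases <;> simp

include K

/-- The embedding. -/
def emb : SU k F q →* SU (2 + k) F q where
  toFun g := ⟨⟨embMat g.1.1, by rw [embMat, det_submatrix_equiv_self, det_fromBlocks_zero₂₁, det_one, one_mul, g.1.2]⟩,
    fun x y => by
      show H (embMat g.1.1 *ᵥ x) (embMat g.1.1 *ᵥ y) = _
      conv_lhs => rw [← Fin.append_castAdd_natAdd (f := x), ← Fin.append_castAdd_natAdd (f := y)]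
      conv_rhs => rw [← Fin.append_castAdd_natAdd (f := x), ← Fin.append_castAdd_natAdd (f := y)]
      rw [embMat_apply, embMat_apply, h_append K, h_append K]
      congr 1
      exact h_app g _ _⟩
  map_one' := Subtype.ext (Subtype.ext (by
    show embMat (1 : Matrix (Fin k) (Fin k) F) = 1
    rw [embMat, fromBlocks_one, submatrix_one_equiv]))
  map_mul' g h := Subtype.ext (Subtype.ext (by
    show embMat (g.1.1 * h.1.1) = embMat g.1.1 * embMat h.1.1
    rw [embMat, embMat, embMat, submatrix_mul_equiv, fromBlocks_multiply]
    simp))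

theorem app_emb (g : SU k F q) (a : Fin 2 → F) (z : Fin k → F) :
    app (emb K g) (Fin.append a z) = Fin.append a (app g z) := embMat_apply _ a z

theorem app_emb_incl (g : SU k F q) (z : Fin k → F) : app (emb K g) (incl z) = incl (app g z) := app_emb K g 0 z

theorem app_emb_of_prj (g : SU k F q) {x : V} (hx : prj x = 0) : app (emb K g) x = x := by
  have e : x = Fin.append (fun i => x (Fin.castAdd k i)) 0 := funext fun i => by
    induction i using Fin.addCases with
    | left i => rw [Fin.append_left]
    | right i => rw [Fin.append_right]; exact congrFun hx i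
  conv_lhs => rw [e]
  rw [app_emb, show app g (0 : Fin k → F) = 0 from mulVec_zero _, ← e]

theorem emb_injective : Function.Injective (emb K (k := k)) := fun g h e => ext_app fun z => by
  have := congrArg (fun x => prj (app x (incl z : V))) e
  simpa only [app_emb_incl, prj_incl] using this

end CfsgLib.MinIndexSU
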