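import Cfsg.Agent.Lib.MinIndexSU.Arith

/-!
A subgroup of `SU_k(q)`, `k ≥ 4`, fixing a non-zero additive subgroup whose commutator values are not
everything has large index.
-/

set_option autoImplicit false
set_option linter.unusedSectionVars false

namespace CfsgLib.MinIndexSU

open Matrix Cfsg CfsgLib.Classical.Herm
open CfsgLib.ClassicalAut (Unitary.Conj)

variable {F : Type*} [Field F] [Finite F] {q : ℕ} (K : Unitary.Conj F q) {k : ℕ}

local notation "H" => hermForm k F q
local notation "V" => (Fin k → F)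
local notation "G" => SU k F q

/-- The skew elements. -/
def skew : AddSubgroup F where
  carrier := {t | t + K.bar t = 0}
  zero_mem' := by
    show (0 : F) + K.bar 0 = 0
    rw [map_zero, add_zero]
  add_mem' {a b} (ha : a + K.bar a = 0) (hb : b + K.bar b = 0) := by
    show a + b + K.bar (a + b) = 0
    rw [map_add]; linear_combination ha + hb
  neg_mem' {a} (ha : a + K.bar a = 0) := by
    show -a + K.bar (-a) = 0
    rw [map_neg]; linear_combination -ha

/-- An index lower bound from an invariant set. -/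
theorem card_orbit_le {Γ X : Type*} [Group Γ] [Finite Γ] [Finite X] (act : Γ → X → X)
    (hmul : ∀ g h x, act (g * h) x = act g (act h x)) (hone : ∀ x, act 1 x = x)
    (J : Subgroup Γ) (T : Set X) (hT : ∀ g ∈ J, ∀ x ∈ T, act g x ∈ T) {x₀ : X} (hx₀ : x₀ ∈ T)
    (O : Set X) (hO : ∀ x ∈ O, ∃ g, act g x₀ = x) : Nat.card O ≤ J.index * Nat.card T := by
  classical
  rw [Subgroup.index, ← Nat.card_prod]
  let g : O → Γ := fun x => (hO x x.2).choose
  have hg : ∀ x : O, act (g x) x₀ = x := fun x => (hO x x.2).choose_spec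
  refine Nat.card_le_card_of_injective
    (fun x => ((g x : Γ ⧸ J), ⟨act (Quotient.out (g x : Γ ⧸ J))⁻¹ x, ?_⟩)) fun x y e => ?_
  · obtain ⟨j, hj⟩ := QuotientGroup.mk_out_eq_mul J (g x)
    rw [hj, _root_.mul_inv_rev]
    conv => arg 2; rw [← hg x, ← hmul, mul_assoc, inv_mul_cancel, mul_one]
    exact hT _ (J.inv_mem j.2) _ hx₀
  · simp only [Prod.mk.injEq, Subtype.mk.injEq] at e
    rw [e.1] at e
    have := congrArg (act (Quotient.out (g y : Γ ⧸ J))) e.2
    rw [← hmul, ← hmul, mul_inv_cancel, hone, hone] at this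
    exact Subtype.ext this

include K

theorem card_isotropic (A : AddSubgroup V) {Z₀ : AddSubgroup F} (hZ : ∃ t ∈ skew K, t ∉ Z₀)
    (hA : ∀ x ∈ A, ∀ y ∈ A, H x y - H y x ∈ Z₀) : Nat.card A ≤ q ^ k := by
  classical
  obtain ⟨t, ht, htZ⟩ := hZ
  obtain ⟨ψ, hψ⟩ := (AddChar.exists_apply_ne_zero (α := F ⧸ Z₀) (a := (t : F ⧸ Z₀))).2
    (by rwa [Ne, QuotientAddGroup.eq_zero_iff])
  let χ : AddChar F ℂ := ψ.compAddMonoidHom (QuotientAddGroup.mk' Z₀)
  have hχ : ∀ z ∈ Z₀, χ z = 1 := fun z hz => by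
    show ψ (z : F ⧸ Z₀) = 1
    rw [(QuotientAddGroup.eq_zero_iff z).2 hz, AddChar.map_zero_eq_one]
  let δ : V → V →+ F := fun x => AddMonoidHom.mk' (fun y => H x y - H y x) fun a b => by
    rw [h_add_left K, h_add_right K]; ring
  let Ψ : A → AddChar (V ⧸ A) ℂ := fun a =>
    { toFun := fun z => Quotient.liftOn' z (fun y => χ (δ (a : V) y)) fun y y' h => by
        rw [QuotientAddGroup.leftRel_apply] at h
        show χ (δ (a : V) y) = χ (δ (a : V) y')
        have h1 : χ (δ (a : V) (-y + y')) = 1 := hχ _ (hA _ a.2 _ h)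
        rw [map_add, map_neg, AddChar.map_add_eq_mul, AddChar.map_neg_eq_inv,
          inv_mul_eq_one₀ (AddChar.val_isUnit χ _).ne_zero] at h1
        exact h1
      map_zero_eq_one' := by
        show χ (δ (a : V) 0) = 1
        rw [map_zero, AddChar.map_zero_eq_one]
      map_add_eq_mul' := fun z z' => Quotient.inductionOn₂' z z' fun y y' => by
        show χ (δ (a : V) (y + y')) = χ (δ (a : V) y) * χ (δ (a : V) y')
        rw [map_add, AddChar.map_add_eq_mul] }
  have hinj : Function.Injective Ψ := by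
    intro a b e
    by_contra hne
    have h0 : (a : V) - b ≠ 0 := fun h => hne (Subtype.ext (sub_eq_zero.1 h))
    obtain ⟨y, hy⟩ : ∃ y, H ((a : V) - (b : V)) y ≠ 0 := by
      by_contra hc
      push Not at hc
      exact h0 (h_nondeg K hc)
    obtain ⟨θ, hθ⟩ : ∃ θ, θ - K.bar θ = t := by
      obtain ⟨θ, hθ⟩ := CfsgLib.ClassicalAut.Unitary.skewSurj (n := k) K t (by
        show (1 : F) * t + K.bar t = 0
        rw [one_mul]; exact ht)
      refine ⟨θ, ?_⟩
      change θ - (1 : F) * K.bar θ = t at hθ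
      rwa [one_mul] at hθ
    have h1 : χ (δ ((a : V) - (b : V)) (K.bar (θ / H ((a : V) - (b : V)) y) • y)) = χ t := by
      congr 1
      show H _ _ - H _ _ = t
      rw [h_smul_right K, K.bar_bar, h_swap K ((a : V) - (b : V)) (K.bar (θ / H ((a : V) - (b : V)) y) • y), h_smul_right K,
        K.bar_bar, div_mul_cancel₀ _ hy, hθ]
    have h2 : ∀ y, χ (δ (a : V) y) = χ (δ (b : V) y) := fun y =>
      congrArg (fun φ : AddChar (V ⧸ A) ℂ => φ (y : V ⧸ A)) e
    refine hψ ?_
    show χ t = 1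
    rw [← h1]
    set z := K.bar (θ / H ((a : V) - (b : V)) y) • y
    have : δ ((a : V) - (b : V)) z = δ (a : V) z - δ (b : V) z := by
      show H _ _ - H _ _ = (H _ _ - H _ _) - (H _ _ - H _ _)
      rw [h_sub_left K, h_sub_right K]; ring
    rw [this, sub_eq_add_neg, AddChar.map_add_eq_mul, AddChar.map_neg_eq_inv, h2,
      mul_inv_cancel₀ (AddChar.val_isUnit χ _).ne_zero]
  cases nonempty_fintype (V ⧸ A)
  have h := Nat.card_le_card_of_injective Ψ hinj
  rw [Nat.card_eq_fintype_card (α := AddChar (V ⧸ A) ℂ), AddChar.card_eq, ← Nat.card_eq_fintype_card] at h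
  have h2 := A.card_eq_card_quotient_mul_card_addSubgroup
  rw [card_F_pow K] at h2
  refine Nat.le_of_not_lt fun hlt => ?_
  have : q ^ k * q ^ k < Nat.card (V ⧸ A) * Nat.card A :=
    lt_of_lt_of_le (Nat.mul_lt_mul'' hlt hlt) (Nat.mul_le_mul_right _ h)
  rw [← h2, two_mul, pow_add] at this
  exact lt_irrefl _ this

theorem bound_pair {A : AddSubgroup V} {J : Subgroup G} (hk : 4 ≤ k) (hJ : ∀ g : G, g ∈ J → ∀ a ∈ A, app g a ∈ A) (hAle : Nat.card A ≤ q ^ k) {x y : V}
    (hx : x ∈ A) (hy : y ∈ A) (hxy : H x y ≠ 0) (hyx : y ∉ Submodule.span F {x}) :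
    5 * Nat.card A ≤ 3 * J.index := by
  classical
  cases nonempty_fintype F
  have hxne : x ≠ 0 := ne_zero_of_h K hxy
  set O : Set (V × V) := {p | p.1 ≠ 0 ∧ H p.1 p.1 = H x x ∧ p.2 ∉ Submodule.span F {p.1} ∧ H p.1 p.2 = H x y ∧
    H p.2 p.2 = H y y}
  set T : Set (V × V) := {p | p.1 ∈ A ∧ p.2 ∈ A ∧ H p.1 p.2 = H x y}
  have hind : ∀ a b : V, a ≠ 0 → b ∉ Submodule.span F {a} → LinearIndependent F ![a, b] := fun a b ha hb => by
    rw [LinearIndependent.pair_iff' ha]
    exact fun c hc => hb (Submodule.mem_span_singleton.2 ⟨c, hc⟩)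
  have h := card_orbit_le (Γ := G) (fun g (p : V × V) => (app g p.1, app g p.2))
    (fun g h p => Prod.ext (app_mul g h p.1) (app_mul g h p.2)) (fun p => Prod.ext (app_one p.1) (app_one p.2))
    J T (fun g hg p hp => ⟨hJ g hg _ hp.1, hJ g hg _ hp.2.1, by rw [h_app]; exact hp.2.2⟩)
    (x₀ := (x, y)) ⟨hx, hy, rfl⟩ O (by
      rintro ⟨a, b⟩ ⟨ha0, haa, hb, hab, hbb⟩
      obtain ⟨g, hg1, hg2⟩ := exists_move_two K hk (hind x y hxne hyx) (hind a b ha0 hb) haa.symm hbb.symm hab.symm hxy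
      exact ⟨g, Prod.ext hg1 hg2⟩)
  -- the size of the orbit
  have hO : low q k * low q (k - 1) ≤ Nat.card O := by
    let e : (Σ a : {a : V // a ≠ 0 ∧ H a a = H x x},
        {b : V // b ∉ Submodule.span F {a.1} ∧ H a.1 b = H x y ∧ H b b = H y y}) → O :=
      fun p => ⟨(p.1.1, p.2.1), p.1.2.1, p.1.2.2, p.2.2⟩
    refine le_trans ?_ (Nat.card_le_card_of_injective e fun p r h => ?_)
    · rw [Nat.card_sigma]
      calc low q k * low q (k - 1) ≤ Nat.card {a : V // a ≠ 0 ∧ H a a = H x x} * low q (k - 1) :=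
            Nat.mul_le_mul_right _ (low_le K k (by omega) (bar_self K x))
        _ = ∑ _a : {a : V // a ≠ 0 ∧ H a a = H x x}, low q (k - 1) := by
            rw [Finset.sum_const, smul_eq_mul, Finset.card_univ, Nat.card_eq_fintype_card]
        _ ≤ _ := Finset.sum_le_sum fun a _ => low_le_pair K hk a.2.1 hxy (bar_self K y)
    · obtain ⟨⟨a, ha⟩, b, hb⟩ := p
      obtain ⟨⟨a', ha'⟩, b', hb'⟩ := r
      simp only [e, Subtype.mk.injEq, Prod.mk.injEq] at h
      obtain ⟨rfl, rfl⟩ := h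
      rfl
  -- the size of the invariant set
  have hTc : 2 * Nat.card T ≤ (Nat.card A - 1) * Nat.card A := by
    let e : T → Σ a : {a : A // a ≠ 0}, {b : A // H (a.1 : V) b = H x y} := fun p =>
      ⟨⟨⟨p.1.1, p.2.1⟩, fun h => hxy (by
        rw [← p.2.2.2, show p.1.1 = 0 from congrArg Subtype.val h, h_zero_left K])⟩, ⟨⟨p.1.2, p.2.2.1⟩, p.2.2.2⟩⟩
    have he : Function.Injective e := fun p r h => by
      refine Subtype.ext (Prod.ext ?_ ?_)
      · exact congrArg (fun s => ((s.1.1 : A) : V)) h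
      · exact congrArg (fun s => ((s.2.1 : A) : V)) h
    have h1 := Nat.card_le_card_of_injective e he
    rw [Nat.card_sigma] at h1
    have hfib : ∀ a : {a : A // a ≠ 0}, 2 * Nat.card {b : A // H (a.1 : V) b = H x y} ≤ Nat.card A := fun a => by
      rcases isEmpty_or_nonempty {b : A // H (a.1 : V) b = H x y} with he | ⟨⟨b₀, hb₀⟩⟩
      · rw [Nat.card_of_isEmpty, mul_zero]; exact Nat.zero_le _
      let f : {b : A // H (a.1 : V) b = H x y} ⊕ {b : A // H (a.1 : V) b = H x y} → A :=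
        Sum.elim (fun b => b.1) fun b => b.1 - b₀
      have hf : Function.Injective f := by
        refine Sum.elim_injective.2 ⟨Subtype.val_injective, fun p r h => Subtype.ext (sub_left_injective h), fun p r h => ?_⟩
        have h2 := congrArg (fun z : A => H (a.1 : V) z) h
        simp only [AddSubgroup.coe_sub, h_sub_right K, p.2, r.2, hb₀, sub_self] at h2
        exact hxy h2
      have h3 := Nat.card_le_card_of_injective f hf
      rwa [Nat.card_sum, ← two_mul] at h3
    refine (Nat.mul_le_mul_left 2 h1).trans ?_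
    rw [Finset.mul_sum]
    refine (Finset.sum_le_sum fun a _ => hfib a).trans ?_
    rw [Finset.sum_const, smul_eq_mul, Finset.card_univ, ← Nat.card_eq_fintype_card]
    refine Nat.mul_le_mul_right _ ?_
    have : Nat.card {a : A // a ≠ 0} + 1 ≤ Nat.card A := by
      rw [← Finite.card_option]
      exact Nat.card_le_card_of_injective (fun o => o.elim 0 Subtype.val) (by
        rintro (_ | a) (_ | b) h
        · rfl
        · exact absurd h.symm b.2
        · exact absurd h a.2
        · exact congrArg _ (Subtype.ext h))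
    omega
  have har := low_pair_arith K.two_le hk
  have hpos : 1 < Nat.card A :=
    Finite.one_lt_card_iff_nontrivial.2 ⟨⟨x, hx⟩, 0, fun e => hxne (congrArg Subtype.val e)⟩
  refine Nat.le_of_mul_le_mul_right ?_ (Nat.mul_pos (show 0 < Nat.card A - 1 by omega) (show 0 < Nat.card A by omega))
  calc 5 * Nat.card A * ((Nat.card A - 1) * Nat.card A) = 5 * (Nat.card A * Nat.card A * (Nat.card A - 1)) := by ring
    _ ≤ 5 * (q ^ (2 * k) * (q ^ k - 1)) := by
        refine Nat.mul_le_mul_left _ (Nat.mul_le_mul ?_ (Nat.sub_le_sub_right hAle 1))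
        rw [two_mul, pow_add]; exact Nat.mul_le_mul hAle hAle
    _ ≤ 6 * (low q k * low q (k - 1)) := har
    _ ≤ 6 * (J.index * Nat.card T) := Nat.mul_le_mul_left _ (hO.trans h)
    _ = 3 * J.index * (2 * Nat.card T) := by ring
    _ ≤ _ := Nat.mul_le_mul_left _ hTc

theorem bound_line {A : AddSubgroup V} {J : Subgroup G} (hk : 4 ≤ k) (hJ : ∀ g : G, g ∈ J → ∀ a ∈ A, app g a ∈ A) {x : V} (hx : x ∈ A) (hx0 : x ≠ 0)
    (hA : ∀ a ∈ A, a ∈ Submodule.span F {x}) : 5 * Nat.card A ≤ 3 * J.index := by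
  classical
  cases nonempty_fintype F
  have h := card_orbit_le (Γ := G) (fun g (v : V) => app g v) app_mul app_one J {a : V | a ∈ A ∧ a ≠ 0}
    (fun g hg a ha => ⟨hJ g hg a ha.1, fun e => ha.2 (app_injective g (e.trans (mulVec_zero _).symm))⟩)
    (x₀ := x) ⟨hx, hx0⟩ {a : V | a ≠ 0 ∧ H a a = H x x}
    (fun a ha => exists_move_one K (by omega) hx0 ha.1 ha.2.symm)
  have h1 := (low_le K k (by omega) (bar_self K x)).trans h
  have hαle : Nat.card A ≤ q ^ 2 := by
    have : ∀ a : A, ∃ c : F, (a : V) = c • x := fun a => by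
      obtain ⟨c, hc⟩ := Submodule.mem_span_singleton.1 (hA _ a.2)
      exact ⟨c, hc.symm⟩
    choose c hc using this
    rw [← K.card]
    exact Nat.card_le_card_of_injective c fun a b e => Subtype.ext (by rw [hc a, hc b, e])
  have hT : Nat.card {a : V | a ∈ A ∧ a ≠ 0} + 1 ≤ Nat.card A := by
    rw [← Finite.card_option]
    refine Nat.card_le_card_of_injective (fun o => o.elim 0 fun a => ⟨a.1, a.2.1⟩) ?_
    rintro (_ | a) (_ | b) h
    · rfl
    · exact absurd (congrArg Subtype.val h).symm b.2.2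
    · exact absurd (congrArg Subtype.val h) a.2.2
    · exact congrArg _ (Subtype.ext (congrArg (fun z : A => (z : V)) h))
  have har := low_line_arith K.two_le hk
  refine Nat.le_of_mul_le_mul_right (c := q ^ 2 - 1) ?_ (Nat.sub_pos_of_lt (Nat.one_lt_pow two_ne_zero K.two_le))
  calc 5 * Nat.card A * (q ^ 2 - 1) ≤ 5 * q ^ 2 * (q ^ 2 - 1) := Nat.mul_le_mul_right _ (Nat.mul_le_mul_left _ hαle)
    _ = 5 * (q ^ 2 * (q ^ 2 - 1)) := by ring
    _ ≤ 3 * low q k := har
    _ ≤ 3 * (J.index * Nat.card {a : V | a ∈ A ∧ a ≠ 0}) := Nat.mul_le_mul_left _ h1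
    _ ≤ 3 * (J.index * (q ^ 2 - 1)) := Nat.mul_le_mul_left _ (Nat.mul_le_mul_left _ (by omega))
    _ = _ := by ring

theorem bound_subspace {A : AddSubgroup V} {J : Subgroup G} (hJ : ∀ g : G, g ∈ J → ∀ a ∈ A, app g a ∈ A) {x y : V}
    (hx : x ∈ A) (hy : y ∈ A) (hx0 : x ≠ 0) (hyx : y ∉ Submodule.span F {x})
    (hA : ∀ a ∈ A, ∀ b ∈ A, H a b = 0) :
    (q + 1) * (q ^ 3 + 1) * Nat.card A ≤ q ^ 4 * J.index := by
  classical
  cases nonempty_fintype F
  set S := Submodule.span F (A : Set V) with hS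
  have hiso : ∀ u ∈ S, ∀ v ∈ S, H u v = 0 := by
    intro u hu v hv
    induction hu using Submodule.span_induction with
    | mem a ha =>
      induction hv using Submodule.span_induction with
      | mem b hb => exact hA a ha b hb
      | zero => exact h_zero_right K a
      | add b c _ _ h1 h2 => rw [h_add_right K, h1, h2, add_zero]
      | smul c b _ h1 => rw [h_smul_right K, h1, mul_zero]
    | zero => exact h_zero_left K v
    | add a b _ _ h1 h2 => rw [h_add_left K, h1, h2, add_zero]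
    | smul c a _ h1 => rw [h_smul_left K, h1, mul_zero]
  set r := Module.finrank F S with hr
  have h2r : 2 ≤ r := by
    have hind : LinearIndependent F ![x, y] := by
      rw [LinearIndependent.pair_iff' hx0]
      exact fun c hc => hyx (Submodule.mem_span_singleton.2 ⟨c, hc⟩)
    have h1 : Submodule.span F (Set.range ![x, y]) ≤ S := by
      rw [Submodule.span_le]
      rintro _ ⟨i, rfl⟩
      fin_cases i
      · exact Submodule.subset_span hx
      · exact Submodule.subset_span hy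
    have := Submodule.finrank_mono h1
    rwa [finrank_span_eq_card hind, Fintype.card_fin] at this
  have hrk : 2 * r ≤ k := by
    have := finrank_le_of_isotropic K S ⊥ (fun a ha => hiso a ha a ha) fun a _ b hb => by
      rw [(Submodule.mem_bot F).1 hb, h_zero_right K]
    rw [sup_bot_eq] at this
    omega
  obtain ⟨j, hj⟩ : ∃ j, k = 2 * r + j := ⟨k - 2 * r, by omega⟩
  have hle : J ≤ (Cfsg.stabilizing (Cfsg.slToMat k F) (S : Set V)).subgroupOf (Cfsg.SU k F q) := by
    intro g hg v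
    refine stab_iff (g := g) (W := S) (fun w hw => ?_) v
    induction hw using Submodule.span_induction with
    | mem a ha => exact Submodule.subset_span (hJ g hg a ha)
    | zero =>
      show app g 0 ∈ S
      rw [show app g (0 : V) = 0 from mulVec_zero _]
      exact zero_mem _
    | add a b _ _ h1 h2 => rw [app_add]; exact add_mem h1 h2
    | smul c a _ h1 => rw [app_smul]; exact S.smul_mem c h1
  have h1 := Nat.mul_le_mul_left (q + 1) (Nat.mul_le_mul_left J.index (Subgroup.card_le_of_le hle))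
  rw [J.index_mul_card, card_SU K (show 1 ≤ k by omega), card_GU K, mul_left_comm (q + 1) J.index,
    SUParabolic.card_stabilizer K (by omega) hrk S rfl hiso] at h1
  rw [show k - 2 * r = j by omega] at h1
  have h2 : SUParabolic.guOrder q (2 * r + j) ≤ J.index * stabOrd q r j := by
    rw [stabOrd, SUParabolic.guOrder, ← hj]
    exact h1
  have hα : Nat.card A ≤ q ^ (2 * r) := by
    have : Nat.card A ≤ Nat.card S :=
      Nat.card_le_card_of_injective (fun a => (⟨a.1, Submodule.subset_span a.2⟩ : S))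
        fun a b e => Subtype.ext (congrArg (fun z : S => (z : V)) e)
    rwa [@Module.natCard_eq_pow_finrank F S _ _ _ _, K.card, ← pow_mul] at this
  have hpos : 0 < stabOrd q r j := by
    refine Nat.pos_of_ne_zero fun h0 => ?_
    rw [h0, mul_zero] at h2
    have : 0 < SUParabolic.guOrder q (2 * r + j) := by
      rw [SUParabolic.guOrder, ← card_GU K]; exact Nat.card_pos
    omega
  refine Nat.le_of_mul_le_mul_right ?_ hpos
  calc (q + 1) * (q ^ 3 + 1) * Nat.card A * stabOrd q r j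
      ≤ (q + 1) * (q ^ 3 + 1) * q ^ (2 * r) * stabOrd q r j :=
        Nat.mul_le_mul_right _ (Nat.mul_le_mul_left _ hα)
    _ ≤ q ^ 4 * SUParabolic.guOrder q (2 * r + j) := stabOrd_le K h2r j
    _ ≤ q ^ 4 * (J.index * stabOrd q r j) := Nat.mul_le_mul_left _ h2
    _ = _ := by ring

/-- The key bound. -/
theorem key (hk : 4 ≤ k) (A : AddSubgroup V) (J : Subgroup G) (hJ : ∀ g : G, g ∈ J → ∀ a ∈ A, app g a ∈ A) (hA0 : A ≠ ⊥)
    {Z₀ : AddSubgroup F} (hZ : ∃ t ∈ skew K, t ∉ Z₀) (hA : ∀ x ∈ A, ∀ y ∈ A, H x y - H y x ∈ Z₀) :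
    Nat.card A * nIso q (k + 2) ≤ q ^ (2 * k + 1) * (q ^ 2 - 1) * J.index := by
  classical
  have hq := K.two_le
  have hAle := card_isotropic K A hZ hA
  obtain ⟨x, hx, hx0⟩ : ∃ x ∈ A, x ≠ 0 := by
    by_contra hc
    push Not at hc
    exact hA0 ((AddSubgroup.eq_bot_iff_forall _).2 hc)
  have fin : 5 * Nat.card A ≤ 3 * J.index →
      Nat.card A * nIso q (k + 2) ≤ q ^ (2 * k + 1) * (q ^ 2 - 1) * J.index := fun h => by
    refine Nat.le_of_mul_le_mul_left ?_ (show 0 < 3 by omega)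
    calc 3 * (Nat.card A * nIso q (k + 2)) = Nat.card A * (3 * nIso q (k + 2)) := by ring
      _ ≤ Nat.card A * (5 * (q ^ (2 * k + 1) * (q ^ 2 - 1))) := Nat.mul_le_mul_left _ (iso_target hq hk)
      _ = 5 * Nat.card A * (q ^ (2 * k + 1) * (q ^ 2 - 1)) := by ring
      _ ≤ 3 * J.index * (q ^ (2 * k + 1) * (q ^ 2 - 1)) := Nat.mul_le_mul_right _ h
      _ = _ := by ring
  by_cases hP : ∃ x ∈ A, ∃ y ∈ A, H x y ≠ 0 ∧ y ∉ Submodule.span F {x}
  · obtain ⟨x, hx, y, hy, hxy, hyx⟩ := hP
    exact fin (bound_pair K hk hJ hAle hx hy hxy hyx)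
  push Not at hP
  by_cases hL : ∀ a ∈ A, a ∈ Submodule.span F {x}
  · exact fin (bound_line K hk hJ hx hx0 hL)
  push Not at hL
  obtain ⟨z, hz, hzx⟩ := hL
  have hzero : ∀ a ∈ A, ∀ b ∈ A, H a b = 0 := by
    intro a ha b hb
    by_contra hne
    have ha0 : a ≠ 0 := ne_zero_of_h K hne
    have hspan : b ∈ Submodule.span F {a} := hP a ha b hb hne
    obtain ⟨w, hw, hwa⟩ : ∃ w ∈ A, w ∉ Submodule.span F {a} := by
      by_contra hc
      push Not at hc
      obtain ⟨c, rfl⟩ := Submodule.mem_span_singleton.1 (hc x hx)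
      obtain ⟨d, rfl⟩ := Submodule.mem_span_singleton.1 (hc z hz)
      have hc0 : c ≠ 0 := fun h => hx0 (by rw [h, zero_smul])
      exact hzx (Submodule.mem_span_singleton.2 ⟨d / c, by rw [smul_smul, div_mul_cancel₀ _ hc0]⟩)
    have h1 : H a w = 0 := by
      by_contra h
      exact hwa (hP a ha w hw h)
    have h2 : w + b ∈ Submodule.span F {a} := hP a ha (w + b) (A.add_mem hw hb) (by rwa [h_add_right K, h1, zero_add])
    exact hwa (by simpa using sub_mem h2 hspan)
  have h := bound_subspace K hJ hx hz hx0 hzx hzero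
  refine Nat.le_of_mul_le_mul_left ?_ (show 0 < (q + 1) * (q ^ 3 + 1) by positivity)
  calc (q + 1) * (q ^ 3 + 1) * (Nat.card A * nIso q (k + 2))
      = (q + 1) * (q ^ 3 + 1) * Nat.card A * nIso q (k + 2) := by ring
    _ ≤ q ^ 4 * J.index * nIso q (k + 2) := Nat.mul_le_mul_right _ h
    _ = J.index * (q ^ 4 * nIso q (k + 2)) := by ring
    _ ≤ J.index * (q ^ (2 * k + 1) * ((q + 1) * (q ^ 3 + 1) * (q ^ 2 - 1))) := by
        refine Nat.mul_le_mul_left _ ?_
        have hE := nIso_le hq (show 2 ≤ k + 2 by omega)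
        have h1 : q ^ (k + 2) * q ^ 4 ≤ q ^ (2 * k + 1) * q := by
          rw [← pow_add, ← pow_succ]; exact Nat.pow_le_pow_right (by omega) (by omega)
        rw [show 2 * (k + 2) - 1 = 2 * k + 1 + 2 by omega, pow_add] at hE
        obtain ⟨a, rfl⟩ : ∃ a, q = a + 2 := ⟨q - 2, by omega⟩
        have h2 : (a + 2) ^ 2 * (a + 2) ^ 4 + (a + 2) ≤ (a + 2 + 1) * ((a + 2) ^ 3 + 1) * ((a + 2) ^ 2 - 1) := by
          have : (a + 2) ^ 2 = a ^ 2 + 4 * a + 4 := by ring
          rw [show (a + 2) ^ 2 - 1 = a ^ 2 + 4 * a + 3 by omega]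
          ring_nf
          nlinarith [Nat.zero_le a, Nat.zero_le (a ^ 2), Nat.zero_le (a ^ 3), Nat.zero_le (a ^ 4), Nat.zero_le (a ^ 5)]
        calc (a + 2) ^ 4 * nIso (a + 2) (k + 2)
            ≤ (a + 2) ^ 4 * ((a + 2) ^ (2 * k + 1) * (a + 2) ^ 2 + (a + 2) ^ (k + 2)) := Nat.mul_le_mul_left _ hE
          _ = (a + 2) ^ (2 * k + 1) * ((a + 2) ^ 2 * (a + 2) ^ 4) + (a + 2) ^ (k + 2) * (a + 2) ^ 4 := by ring
          _ ≤ (a + 2) ^ (2 * k + 1) * ((a + 2) ^ 2 * (a + 2) ^ 4) + (a + 2) ^ (2 * k + 1) * (a + 2) :=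
              Nat.add_le_add_left h1 _
          _ = (a + 2) ^ (2 * k + 1) * ((a + 2) ^ 2 * (a + 2) ^ 4 + (a + 2)) := by ring
          _ ≤ _ := Nat.mul_le_mul_left _ h2
    _ = _ := by ring

end CfsgLib.MinIndexSU
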