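import Cfsg.Agent.Lib.MinIndexSU.TwoEmb
import Cfsg.Agent.Lib.MinIndexSU.Five

/-!
The minimal index of a proper subgroup of `SU_n(q)`, `n ≥ 5`.
-/

set_option autoImplicit false
set_option linter.unusedSectionVars false

namespace CfsgLib.MinIndexSU

open Matrix Cfsg CfsgLib.Classical.Herm CfsgLib.Classical.Elation
open CfsgLib.ClassicalAut (Unitary.Conj)

variable {F : Type*} [Field F] [Finite F] {q : ℕ} (K : Unitary.Conj F q)

include K

theorem index_bound {k : ℕ} (hk : 3 ≤ k) {M : Subgroup (SU (2 + k) F q)} (hM : M ≠ ⊤) : Bound K M := by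
  classical
  obtain ⟨v, hv, hvC⟩ : ∃ v, hermForm (2 + k) F q v v = 0 ∧ v ∉ centres K M := by
    by_contra hc
    push Not at hc
    exact hM (eq_top_of_centres K (by omega) hc)
  obtain ⟨g, c, hT, hgM⟩ : ∃ g c, IsT K g v c ∧ g ∉ M := by
    by_contra hc
    push Not at hc
    exact hvC ⟨hv, hc⟩
  have hv0 : v ≠ 0 := fun e => hgM (by
    have : g = 1 := ext_app fun y => by rw [hT.2.2, e, h_zero_right K, mul_zero, zero_smul, add_zero, app_one]
    rw [this]; exact M.one_mem)
  obtain ⟨P⟩ := exists_hpair K (k := k)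
  obtain ⟨r, hr⟩ := exists_move_one K (show 3 ≤ 2 + k by omega) hv0 (v_ne P) (hv.trans P.hv.symm)
  set M' := M.map (MulAut.conj r).toMonoidHom with hM'
  have hidx : M'.index = M.index := index_conj K r
  have hP : ∃ g c, IsT K g P.v c ∧ g ∉ M' := by
    have h := sg_conj K ((isT_iff K).1 hT) r
    rw [hr, app_zero, ← isT_iff] at h
    refine ⟨_, c, h, ?_⟩
    rintro ⟨g', hg', e⟩
    exact hgM ((MulAut.conj r).injective e ▸ hg')
  suffices Bound K M' by rwa [Bound, hidx] at this
  rcases dichotomy K P M' hk hP with h | ⟨hl, hb⟩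
  · exact Or.inl h
  have hC := isCompl_of_lift K P M' hl hb
  rcases Nat.lt_or_ge q 3 with hq | hq
  · have hq2 : q = 2 := by have := K.two_le; omega
    rcases Nat.lt_or_ge k 4 with hk3 | hk4
    · obtain rfl : k = 3 := by omega
      exact bound_five K hq2 hC
    rcases exists_conj_emb_two K hq2 hk4 hC with h | ⟨s, -, hC', hE⟩
    · exact h
    · exact bound_conj K (bound_of_emb K P _ hk hC'.inter hE)
  · obtain ⟨s, -, hC', hE⟩ := exists_conj_emb K hk hq hC
    exact bound_conj K (bound_of_emb K P _ hk hC'.inter hE)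

theorem index_bound_of_le {n : ℕ} (hn : 5 ≤ n) {M : Subgroup (SU n F q)} (hM : M ≠ ⊤) : Bound K M := by
  obtain ⟨k, rfl⟩ : ∃ k, n = 2 + k := ⟨n - 2, by omega⟩
  exact index_bound K (by omega) hM

/-- The number of vectors of norm one, from the count of isotropic vectors. -/
theorem nIso_le_count (n : ℕ) (hn : 2 ≤ n) (h : 3 ≤ q ∨ Odd n) : nIso q n ≤ (q - 1) * count K n 1 := by
  rw [count_one_nat, nIso]
  obtain ⟨j, rfl⟩ : ∃ j, n = j + 1 := ⟨n - 1, by omega⟩
  rw [Nat.add_sub_cancel]
  have hq := K.two_le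
  have h1 : 1 ≤ q ^ j := Nat.one_le_pow _ _ (by omega)
  split_ifs with he
  · have hq3 : 3 ≤ q := h.resolve_right (Nat.not_odd_iff_even.2 he)
    calc (q ^ (j + 1) - 1) * (q ^ j + 1) ≤ (q ^ (j + 1) - 1) * ((q - 1) * q ^ j) := by
          refine Nat.mul_le_mul_left _ (le_trans ?_ (Nat.mul_le_mul_right _ (show 2 ≤ q - 1 by omega)))
          omega
      _ = _ := by ring
  · calc (q ^ (j + 1) + 1) * (q ^ j - 1) ≤ (q ^ (j + 1) + 1) * ((q - 1) * q ^ j) :=
          Nat.mul_le_mul_left _ ((Nat.sub_le _ _).trans (Nat.le_mul_of_pos_left _ (by omega)))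
      _ = _ := by ring

/-- The bound by the number of points. -/
theorem point_bound {n : ℕ} (hn : 5 ≤ n) (h : 3 ≤ q ∨ Odd n) {M : Subgroup (SU n F q)} (hM : M ≠ ⊤) :
    nIso q n / (q ^ 2 - 1) ≤ M.index := by
  refine Nat.div_le_of_le_mul ?_
  rcases index_bound_of_le K (show 5 ≤ n by omega) hM with h' | h'
  · exact h'
  · refine (nIso_le_count K n (by omega) h).trans ((Nat.mul_le_mul_left _ h').trans (le_of_eq ?_))
    rw [show q ^ 2 - 1 = (q + 1) * (q - 1) from Nat.sq_sub_sq q 1]
    ring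

/-- The bound by the number of non-singular lines, for two elements and even dimension. -/
theorem line_count_bound {n : ℕ} (hn : 6 ≤ n) (hq : q = 2) (he : Even n) {M : Subgroup (SU n F q)} (hM : M ≠ ⊤) :
    2 ^ (n - 1) * (2 ^ n - 1) / 3 ≤ M.index := by
  refine Nat.div_le_of_le_mul ?_
  have e1 : count K n 1 = 2 ^ (n - 1) * (2 ^ n - 1) := by rw [count_one_nat, if_pos he, hq]
  have e3 : q ^ 2 - 1 = 3 := by rw [hq]; norm_num
  have e4 : q + 1 = 3 := by omega
  rcases index_bound_of_le K (show 5 ≤ n by omega) hM with h' | h'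
  · rw [e3] at h'
    refine le_trans ?_ h'
    rw [nIso, if_pos he, hq, mul_comm]
    exact Nat.mul_le_mul_left _ (Nat.le_succ _)
  · rwa [e1, e4] at h'

/-- The index of the stabiliser of a line. -/
theorem lineStab_index {n : ℕ} (hn : 3 ≤ n) {z : Fin n → F} (hz : z ≠ 0) :
    (lineStab (q := q) z hz).index *
      Nat.card {c : F // c ≠ 0 ∧ c * K.bar c * hermForm n F q z z = hermForm n F q z z} =
      Nat.card {y : Fin n → F // y ≠ 0 ∧ hermForm n F q y y = hermForm n F q z z} := by
  classical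
  refine le_antisymm ?_ (line_bound K hn hz le_rfl)
  rw [Subgroup.index_eq_card, ← Nat.card_prod]
  refine Nat.card_le_card_of_injective (fun p => ⟨p.2.1 • app p.1.out z, smul_ne_zero p.2.2.1 (app_ne_zero _ hz), by
    rw [h_smul_left K, h_smul_right K, h_app]
    linear_combination p.2.2.2⟩) fun a b e => ?_
  have e1 : a.2.1 • app a.1.out z = b.2.1 • app b.1.out z := congrArg Subtype.val e
  have e2 : app (a.1.out⁻¹ * b.1.out) z = (a.2.1 / b.2.1) • z := by
    rw [app_mul, show app b.1.out z = (a.2.1 / b.2.1) • app a.1.out z by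
      rw [div_eq_inv_mul, ← smul_smul, e1, smul_smul, inv_mul_cancel₀ b.2.2.1, one_smul], app_smul, app_inv]
  have e3 : a.1 = b.1 := by
    rw [← Quotient.out_eq a.1, ← Quotient.out_eq b.1]
    exact QuotientGroup.eq.2 ⟨_, e2⟩
  rw [e3] at e1
  exact Prod.ext e3 (Subtype.ext (smul_left_injective F (app_ne_zero _ hz) e1))

/-- An isotropic vector perpendicular to `z`, not to `d`. -/
theorem exists_iso_perp {n : ℕ} (hn : 4 ≤ n) {z d : Fin n → F} (hd : hermForm n F q d z = 0)
    (hdz : d ∉ Submodule.span F {z}) :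
    ∃ c, hermForm n F q c c = 0 ∧ hermForm n F q c z = 0 ∧ hermForm n F q d c ≠ 0 := by
  by_cases hdd : hermForm n F q d d = 0
  · obtain ⟨y, hy, hdy⟩ := exists_orth_one K hdz
    have hyz : hermForm n F q z y = 0 := hy z (Submodule.mem_span_singleton_self z)
    obtain ⟨τ, hτ⟩ := (ClassicalAut.Unitary.space (n := n) K).tr y
    change hermForm n F q y y + (1 : F) * τ + K.bar τ = 0 at hτ
    rw [one_mul] at hτ
    refine ⟨y + τ • d, ?_, ?_, ?_⟩
    · simp only [h_add_left K, h_add_right K, h_smul_left K, h_smul_right K, hdd, hdy, h_swap K d y, map_one]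
      linear_combination hτ
    · rw [h_add_left K, h_smul_left K, hd, h_eq_zero_symm K hyz, mul_zero, add_zero]
    · rw [h_add_right K, h_smul_right K, hdd, hdy, mul_zero, add_zero]; exact one_ne_zero
  · obtain ⟨p, hp, hpf⟩ := exists_aniso_orth K ![d, z] two_pos (by omega) (by omega) le_rfl
      (fun _ => ⟨0, 0, by simpa using hdd⟩)
    have hpd : hermForm n F q p d = 0 := hpf 0
    have hpz : hermForm n F q p z = 0 := hpf 1
    obtain ⟨l, hl⟩ := K.exists_norm (-(hermForm n F q d d) / hermForm n F q p p)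
      (by rw [map_div₀, map_neg, bar_self K, bar_self K])
    rw [eq_div_iff hp] at hl
    refine ⟨d + l • p, ?_, ?_, ?_⟩
    · simp only [h_add_left K, h_add_right K, h_smul_left K, h_smul_right K, hpd, h_eq_zero_symm K hpd]
      linear_combination hl
    · rw [h_add_left K, h_smul_left K, hd, hpz, mul_zero, add_zero]
    · rwa [h_add_right K, h_smul_right K, h_eq_zero_symm K hpd, mul_zero, add_zero]

theorem center_le_lineStab {n : ℕ} (hn : 4 ≤ n) {z : Fin n → F} (hz : z ≠ 0) :
    Subgroup.center (SU n F q) ≤ lineStab z hz := by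
  intro g hg
  have hiso : ∀ v, hermForm n F q v v = 0 → v ≠ 0 → ∃ c : F, c ≠ 0 ∧ app g v = c • v := fun v hv hv0 => by
    obtain ⟨θ, hθ0, hθ⟩ := exists_skew K
    obtain ⟨T, hT⟩ := exists_T K hv hθ
    have h := sg_conj K ((isT_iff K).1 hT) g
    rw [← Subgroup.mem_center_iff.1 hg T, mul_inv_cancel_right, app_zero, ← isT_iff] at h
    obtain ⟨y, hy⟩ := (ClassicalAut.Unitary.space (n := n) K).exists_ne v hv0
    have e := (hT.2.2 y).symm.trans (h.2.2 y)
    rw [show hermForm n F q y v = 1 from hy, mul_one, add_right_inj] at e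
    have hne : θ * hermForm n F q y (app g v) ≠ 0 := fun h0 =>
      smul_ne_zero hθ0 hv0 (by rw [e, h0, zero_smul])
    refine ⟨θ / (θ * hermForm n F q y (app g v)), div_ne_zero hθ0 hne, ?_⟩
    rw [div_eq_inv_mul, ← smul_smul, e, smul_smul, inv_mul_cancel₀ hne, one_smul]
  by_cases hzz : hermForm n F q z z = 0
  · obtain ⟨c, -, hc⟩ := hiso z hzz hz
    exact ⟨c, hc⟩
  refine ⟨hermForm n F q (app g z) z / hermForm n F q z z, ?_⟩
  set d := app g z - (hermForm n F q (app g z) z / hermForm n F q z z) • z with hd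
  have hdz : hermForm n F q d z = 0 := by
    rw [hd, h_sub_left K, h_smul_left K, div_mul_cancel₀ _ hzz, sub_self]
  refine sub_eq_zero.1 (show d = 0 from ?_)
  by_contra hd0
  have hsp : d ∉ Submodule.span F {z} := fun h => by
    obtain ⟨a, ha⟩ := Submodule.mem_span_singleton.1 h
    rw [← ha, h_smul_left K] at hdz
    exact hd0 (by rw [← ha, (mul_eq_zero.1 hdz).resolve_right hzz, zero_smul])
  obtain ⟨w, hw, hwz, hdw⟩ := exists_iso_perp K hn hdz hsp
  obtain ⟨c, hc0, hc⟩ := hiso w hw fun e => hdw (by rw [e, h_zero_right K])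
  refine hdw ?_
  have h := h_app g z w
  rw [hc, h_smul_right K, h_eq_zero_symm K hwz] at h
  rw [hd, h_sub_left K, h_smul_left K, h_eq_zero_symm K hwz, mul_zero, sub_zero]
  exact (mul_eq_zero.1 h).resolve_left ((map_ne_zero K.bar).2 hc0)

/-- A subgroup of index the number of points. -/
theorem exists_point_index {n : ℕ} (hn : 4 ≤ n) :
    ∃ S : Subgroup (SU n F q), Subgroup.center (SU n F q) ≤ S ∧ S.index * (q ^ 2 - 1) = nIso q n := by
  classical
  obtain ⟨k, rfl⟩ : ∃ k, n = 2 + k := ⟨n - 2, by omega⟩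
  obtain ⟨P⟩ := exists_hpair K (k := k)
  refine ⟨lineStab P.v (v_ne P), center_le_lineStab K hn (v_ne P), ?_⟩
  have h := lineStab_index K (show 3 ≤ 2 + k by omega) (v_ne P)
  rwa [P.hv, card_scalar_iso K, card_norm_set K 0 (map_zero _), if_pos rfl] at h

/-- A subgroup of index the number of non-singular lines. -/
theorem exists_line_index {n : ℕ} (hn : 4 ≤ n) :
    ∃ S : Subgroup (SU n F q), Subgroup.center (SU n F q) ≤ S ∧ S.index * (q + 1) = count K n 1 := by
  classical
  set z : Fin n → F := Pi.single ⟨0, by omega⟩ 1 with hz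
  have h1 : hermForm n F q z z = 1 := by rw [hz, h_single_single K, if_pos rfl]
  have hz0 : z ≠ 0 := fun e => one_ne_zero (α := F) (by rw [← h1, e, h_zero_left K])
  refine ⟨lineStab z hz0, center_le_lineStab K hn hz0, ?_⟩
  have h := lineStab_index K (show 3 ≤ n by omega) hz0
  rwa [h1, card_scalar_aniso K one_ne_zero, card_norm_set K 1 (map_one _), if_neg one_ne_zero] at h

end CfsgLib.MinIndexSU
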