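import Cfsg.Agent.Lib.SUParabolic.Count
import Cfsg.Agent.Lib.Classical.UnitaryMax

/-!
Orbits of `SU_n(q)` on vectors and pairs of vectors, and lower bounds for their lengths.
-/

set_option autoImplicit false
set_option linter.unusedSectionVars false

namespace CfsgLib.MinIndexSU

open Matrix Cfsg CfsgLib.Classical.Herm
open CfsgLib.ClassicalAut (Unitary.Conj)

variable {F : Type*} [Field F] [Finite F] {q : ℕ} (K : Unitary.Conj F q) {n : ℕ}

local notation "H" => hermForm n F q
local notation "V" => (Fin n → F)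

include K

theorem card_F_pow {j : ℕ} : Nat.card (Fin j → F) = q ^ (2 * j) := by
  rw [Nat.card_fun, K.card, Nat.card_fin, ← pow_mul]

/-- A subspace with more than half of the space, or meeting a non-isotropic configuration, has an
anisotropic vector. -/
theorem finrank_le_of_isotropic (P S : Submodule F V) (hP : ∀ x ∈ P, H x x = 0)
    (hS : ∀ x ∈ P, ∀ y ∈ S, H x y = 0) :
    Module.finrank F P + Module.finrank F (P ⊔ S : Submodule F V) ≤ n := by
  obtain ⟨θ, hθ⟩ := K.exists_trace
  have hPP : ∀ x ∈ P, ∀ y ∈ P, H x y = 0 := by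
    intro x hx y hy
    by_contra hne
    have h := hP ((θ / H x y) • x + y) (P.add_mem (P.smul_mem _ hx) hy)
    simp only [h_add_left K, h_add_right K, h_smul_left K, h_smul_right K, hP x hx, hP y hy, mul_zero, zero_add,
      add_zero] at h
    rw [h_swap K x y, ← map_mul, div_mul_cancel₀ _ hne] at h
    exact hθ h
  let f : P →+ (V ⧸ (P ⊔ S : Submodule F V) →ₗ[F] F) :=
    AddMonoidHom.mk'
      (fun x => (P ⊔ S : Submodule F V).liftQ
        { toFun := fun v => H v (x : V)
          map_add' := fun a b => h_add_left K a b _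
          map_smul' := fun c a => h_smul_left K c a _ }
        (sup_le (fun y hy => hPP y hy x x.2) fun y hy => h_eq_zero_symm K (hS x x.2 y hy)))
      fun x y => Submodule.linearMap_qext _ (LinearMap.ext fun v => h_add_right K v _ _)
  have hf : Function.Injective f := (injective_iff_map_eq_zero f).2 fun x hx => Subtype.ext
    (h_nondeg K fun v => h_eq_zero_symm K (LinearMap.congr_fun hx (Submodule.Quotient.mk v)))
  have : Finite (V ⧸ (P ⊔ S : Submodule F V) →ₗ[F] F) := Module.finite_of_finite F
  have h := Nat.card_le_card_of_injective f hf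
  rw [@Module.natCard_eq_pow_finrank F P _ _ _ _, @Module.natCard_eq_pow_finrank F (V ⧸ (P ⊔ S : Submodule F V) →ₗ[F] F) _ _ _ _,
    Subspace.dual_finrank_eq, Nat.pow_le_pow_iff_right (Finite.one_lt_card)] at h
  have := Submodule.finrank_quotient_add_finrank (P ⊔ S : Submodule F V)
  rw [Module.finrank_fin_fun] at this
  omega

theorem exists_aniso_orth {k : ℕ} (f : Fin k → V) (hk : 0 < k) (hn : 2 * k ≤ n) (hlt : k = 1 → 3 ≤ n)
    (hk2 : k ≤ 2) (hf : k = 2 → ∃ i j, H (f i) (f j) ≠ 0) :
    ∃ z : V, H z z ≠ 0 ∧ ∀ i, H z (f i) = 0 := by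
  classical
  set P := orth K (Submodule.span F (Set.range f)) with hP
  have hPd : n ≤ Module.finrank F P + k := by
    have h : Module.finrank F (⊤ : Submodule F V) ≤ Module.finrank F ((⊤ : Submodule F V) ⊓ P : Submodule F V) + k :=
      finrank_inf_orth_le K ⊤ k f
    rwa [finrank_top, Module.finrank_fin_fun, top_inf_eq] at h
  have hperp : ∀ z ∈ P, ∀ i, H z (f i) = 0 := fun z hz i =>
    h_eq_zero_symm K (hz _ (Submodule.subset_span ⟨i, rfl⟩))
  by_contra hc
  push Not at hc
  have hiso : ∀ z ∈ P, H z z = 0 := fun z hz => by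
    by_contra h
    obtain ⟨i, hi⟩ := hc z h
    exact hi (hperp z hz i)
  have h := finrank_le_of_isotropic K P (Submodule.span F (Set.range f)) hiso fun x hx y hy =>
    h_eq_zero_symm K (hx y hy)
  have h1 : Module.finrank F P ≤ Module.finrank F (P ⊔ Submodule.span F (Set.range f) : Submodule F V) :=
    Submodule.finrank_mono le_sup_left
  rcases (show k = 1 ∨ k = 2 by omega) with rfl | rfl
  · have := hlt rfl; omega
  obtain ⟨i, j, hij⟩ := hf rfl
  have heq : P = P ⊔ Submodule.span F (Set.range f) := Submodule.eq_of_le_of_finrank_le le_sup_left (by omega)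
  have hmem : ∀ i, f i ∈ P := fun i => by
    rw [heq]; exact Submodule.mem_sup_right (Submodule.subset_span ⟨i, rfl⟩)
  exact hij (h_eq_zero_symm K (hperp _ (hmem j) i))

theorem bar_ne_id : K.bar.toRingHom ≠ RingHom.id F := fun h =>
  K.bar_ne (RingEquiv.ext fun x => DFunLike.congr_fun h x)

/-- Witt extension inside the special unitary group. -/
theorem exists_SU_map (X Y : Submodule F V) (φ : X ≃ₗ[F] Y) (hφ : ∀ x x' : X, H (φ x : V) (φ x' : V) = H x x')
    {z : V} (hz : H z z ≠ 0) (hzY : ∀ y ∈ Y, H y z = 0) : ∃ g : SU n F q, ∀ x : X, app g (x : V) = φ x := by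
  obtain ⟨g, hg, hgX⟩ := CfsgLib.Classical.Witt.witt_hermitian K.bar.toRingHom (bar_ne_id K) K.bar_bar
    (CfsgLib.Classical.IsoProd.hermSesq K n)
    (fun u v => CfsgLib.Classical.IsoProd.hermSesq_swap K n v u)
    (fun v h => h_nondeg K fun y => h_eq_zero_symm K (h y)) X Y φ
    (fun x x' => by
      rw [CfsgLib.Classical.IsoProd.hermSesq_apply, CfsgLib.Classical.IsoProd.hermSesq_apply]
      exact hφ x' x)
  obtain ⟨g', hg'⟩ := SUParabolic.exists_GU g.toLinearMap
    (fun u v => by
      have := hg v u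
      rwa [CfsgLib.Classical.IsoProd.hermSesq_apply, CfsgLib.Classical.IsoProd.hermSesq_apply] at this)
    g.injective
  set A : Matrix (Fin n) (Fin n) F := ((g' : GL (Fin n) F) : Matrix (Fin n) (Fin n) F) with hA
  have hd : A.det * K.bar A.det = 1 :=
    (ClassicalAut.Unitary.mem_normOne K).1 (ClassicalAut.Unitary.det1 n K g').2
  have hd0 : A.det ≠ 0 := fun h => one_ne_zero (α := F) (by rw [← hd, h, zero_mul])
  set lam : F := (A.det⁻¹ - 1) / H z z with hlam
  have hl1 : 1 + lam * H z z = A.det⁻¹ := by rw [hlam, div_mul_cancel₀ _ hz]; ring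
  have hl : lam + K.bar lam + lam * K.bar lam * H z z = 0 := by
    have h1 : (1 + lam * H z z) * K.bar (1 + lam * H z z) = 1 := by
      rw [hl1, map_inv₀, ← mul_inv, hd, inv_one]
    rw [map_add, map_one, map_mul, bar_self K] at h1
    refine mul_left_cancel₀ hz ?_
    linear_combination h1
  have hdet : (quasi K z lam * A).det = 1 := by rw [det_mul, det_quasi, hl1, inv_mul_cancel₀ hd0]
  refine ⟨⟨⟨quasi K z lam * A, hdet⟩, fun u v => ?_⟩, fun x => ?_⟩
  · show H ((quasi K z lam * A) *ᵥ u) ((quasi K z lam * A) *ᵥ v) = _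
    rw [← mulVec_mulVec, ← mulVec_mulVec, quasi_isometry K hl]
    exact g'.2 u v
  · show (quasi K z lam * A) *ᵥ (x : V) = _
    rw [← mulVec_mulVec, show A *ᵥ (x : V) = g (x : V) from hg' x, hgX, quasi_apply, hzY _ (φ x).2, mul_zero,
      zero_smul, add_zero]

/-- Transitivity on independent families with the same Gram matrix. -/
theorem exists_SU_move {k : ℕ} (f f' : Fin k → V) (hf : LinearIndependent F f) (hf' : LinearIndependent F f')
    (hh : ∀ i j, H (f i) (f j) = H (f' i) (f' j)) {z : V} (hz : H z z ≠ 0) (hzf : ∀ i, H z (f' i) = 0) :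
    ∃ g : SU n F q, ∀ i, app g (f i) = f' i := by
  let φ := (Module.Basis.span hf).equiv (Module.Basis.span hf') (Equiv.refl _)
  have hb : ∀ i, φ (Module.Basis.span hf i) = Module.Basis.span hf' i := fun i =>
    Module.Basis.equiv_apply _ _ _ _
  have hb' : ∀ i h, ((φ ⟨f i, h⟩ : Submodule.span F (Set.range f')) : V) = f' i := fun i h => by
    rw [show (⟨f i, h⟩ : Submodule.span F (Set.range f)) = Module.Basis.span hf i from
      (Module.Basis.span_apply hf i).symm, hb, Module.Basis.span_apply]
  have hφ : ∀ x x', H (φ x : V) (φ x' : V) = H (x : V) (x' : V) := by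
    intro x x'
    conv_rhs => rw [← (Module.Basis.span hf).sum_repr x, ← (Module.Basis.span hf).sum_repr x']
    conv_lhs => rw [← (Module.Basis.span hf).sum_repr x, ← (Module.Basis.span hf).sum_repr x']
    simp only [map_sum, map_smul, hb, Submodule.coe_sum, Submodule.coe_smul, Module.Basis.span_apply,
      ← CfsgLib.Classical.IsoProd.hermSesq_apply K n, map_sum, LinearMap.coe_sum, Finset.sum_apply,
      LinearMap.map_smulₛₗ, LinearMap.smul_apply]
    simp only [CfsgLib.Classical.IsoProd.hermSesq_apply, hh, hb']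
  obtain ⟨g, hg⟩ := exists_SU_map K _ _ φ hφ hz fun y hy => by
    induction hy using Submodule.span_induction with
    | mem y hy => obtain ⟨i, rfl⟩ := hy; exact h_eq_zero_symm K (hzf i)
    | zero => exact h_zero_left K z
    | add a b _ _ ha hb => rw [h_add_left K, ha, hb, add_zero]
    | smul c a _ ha => rw [h_smul_left K, ha, mul_zero]
  refine ⟨g, fun i => ?_⟩
  have := hg (Module.Basis.span hf i)
  rwa [hb, Module.Basis.span_apply, Module.Basis.span_apply] at this

theorem exists_move_one (hn : 3 ≤ n) {x x' : V} (hx : x ≠ 0) (hx' : x' ≠ 0) (h : H x x = H x' x') :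
    ∃ g : SU n F q, app g x = x' := by
  obtain ⟨z, hz, hzx⟩ := exists_aniso_orth K ![x'] one_pos (by omega) (fun _ => hn) (by omega) (by omega)
  obtain ⟨g, hg⟩ := exists_SU_move K ![x] ![x'] (LinearIndependent.of_subsingleton 0 hx)
    (LinearIndependent.of_subsingleton 0 hx')
    (fun i j => by fin_cases i; fin_cases j; exact h) hz hzx
  exact ⟨g, hg 0⟩

theorem exists_move_two (hn : 4 ≤ n) {x y x' y' : V} (hi : LinearIndependent F ![x, y])
    (hi' : LinearIndependent F ![x', y']) (hx : H x x = H x' x') (hy : H y y = H y' y') (hxy : H x y = H x' y')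
    (hne : H x y ≠ 0) : ∃ g : SU n F q, app g x = x' ∧ app g y = y' := by
  obtain ⟨z, hz, hzf⟩ := exists_aniso_orth K ![x', y'] two_pos (by omega) (by omega) le_rfl
    (fun _ => ⟨0, 1, by simpa [← hxy] using hne⟩)
  obtain ⟨g, hg⟩ := exists_SU_move K ![x, y] ![x', y'] hi hi' (fun i j => by
    fin_cases i <;> fin_cases j <;> first | exact hx | exact hy | exact hxy |
      (show H y x = H y' x'; rw [h_swap K x y, hxy, ← h_swap K x' y'])) hz hzf
  exact ⟨g, hg 0, hg 1⟩

end CfsgLib.MinIndexSU
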