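import Cfsg.Agent.Lib.MinIndexSU.Frame

/-!
A subgroup of `SU_n(q)` and an isotropic point whose transvection group it does not contain: either
the index is at least the number of points, or the subgroup meets the point stabiliser in a complement
of the unipotent radical.
-/

set_option autoImplicit false
set_option linter.unusedSectionVars false

namespace CfsgLib.MinIndexSU

open Matrix Cfsg CfsgLib.Classical.Herm CfsgLib.Classical.Elation
open CfsgLib.ClassicalAut (Unitary.Conj)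

variable {F : Type*} [Field F] [Finite F] {q : ℕ} (K : Unitary.Conj F q) {k : ℕ}

local notation "V" => (Fin (2 + k) → F)
local notation "H" => hermForm (2 + k) F q
local notation "G" => SU (2 + k) F q

theorem card_le_index_mul {Γ : Type*} [Group Γ] [Finite Γ] (M L : Subgroup Γ) :
    Nat.card L ≤ M.index * Nat.card ↥(M ⊓ L) := by
  have h := (M.subgroupOf L).card_mul_index
  rw [show (M.subgroupOf L).index = M.relIndex L from rfl] at h
  have hle : M.relIndex L ≤ M.index := by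
    rw [← Subgroup.relIndex_top_right]
    exact Subgroup.relIndex_le_of_le_right le_top (by rw [Subgroup.relIndex_top_right]; exact Subgroup.index_ne_zero_of_finite)
  rw [show Nat.card (M.subgroupOf L) = Nat.card ↥(M ⊓ L) from Nat.card_congr
    ((MulEquiv.subgroupCongr (Subgroup.inf_subgroupOf_right M L)).symm.trans
      (Subgroup.subgroupOfEquivOfLe inf_le_right)).toEquiv] at h
  rw [← h, mul_comm]
  exact Nat.mul_le_mul_right _ hle

theorem relIndex_mul_card {Γ : Type*} [Group Γ] (M L : Subgroup Γ) :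
    M.relIndex L * Nat.card ↥(M ⊓ L) = Nat.card L := by
  rw [← show Nat.card (M.subgroupOf L) = Nat.card ↥(M ⊓ L) from Nat.card_congr
    ((MulEquiv.subgroupCongr (Subgroup.inf_subgroupOf_right M L)).symm.trans
      (Subgroup.subgroupOfEquivOfLe inf_le_right)).toEquiv, mul_comm]
  exact (M.subgroupOf L).card_mul_index

variable (P : HPair (F := F) (q := q) (k := k))

omit [Finite F] in
theorem v_ne : P.v ≠ 0 := fun h => by
  have := P.hvu
  rw [h] at this
  simp [hermForm] at this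

/-- The radical. -/
def rad : Subgroup G where
  carrier := {g | ∃ x t, IsSg K g P.v x t}
  one_mem' := ⟨0, 0, sg_one K P.hv⟩
  mul_mem' := fun {a b} ⟨x, t, h⟩ ⟨x', t', h'⟩ => ⟨_, _, sg_mul K h h'⟩
  inv_mem' := fun {a} ⟨x, t, h⟩ => ⟨_, _, sg_inv K h⟩

/-- The stabiliser of the point. -/
def pointStab : Subgroup G where
  carrier := {g | ∃ c : F, app g P.v = c • P.v}
  one_mem' := ⟨1, by rw [app_one, one_smul]⟩
  mul_mem' := fun {a b} ⟨c, h⟩ ⟨c', h'⟩ => ⟨c' * c, by rw [app_mul, h', app_smul, h, smul_smul]⟩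
  inv_mem' := fun {a} ⟨c, h⟩ => ⟨c⁻¹, by
    rcases eq_or_ne c 0 with rfl | hc
    · exfalso
      refine v_ne P (app_injective a ?_)
      rw [h, zero_smul]
      exact (mulVec_zero _).symm
    · conv_rhs => rw [← app_inv a P.v, h, app_smul, smul_smul, inv_mul_cancel₀ hc, one_smul]⟩

/-- The stabiliser of the two points. -/
def levi : Subgroup G where
  carrier := {g | (∃ c : F, app g P.v = c • P.v) ∧ ∃ d : F, app g P.u = d • P.u}
  one_mem' := ⟨⟨1, by rw [app_one, one_smul]⟩, 1, by rw [app_one, one_smul]⟩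
  mul_mem' := fun {a b} ha hb => ⟨(pointStab P).mul_mem ha.1 hb.1, by
    obtain ⟨c, h⟩ := ha.2
    obtain ⟨c', h'⟩ := hb.2
    exact ⟨c' * c, by rw [app_mul, h', app_smul, h, smul_smul]⟩⟩
  inv_mem' := fun {a} ha => ⟨(pointStab P).inv_mem ha.1, by
    obtain ⟨c, h⟩ := ha.2
    refine ⟨c⁻¹, ?_⟩
    rcases eq_or_ne c 0 with rfl | hc
    · have h0 : P.u = 0 := app_injective a (by rw [h, zero_smul]; exact (mulVec_zero _).symm)
      rw [h0]
      exact (mulVec_zero _).trans (smul_zero _).symm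
    · conv_rhs => rw [← app_inv a P.u, h, app_smul, smul_smul, inv_mul_cancel₀ hc, one_smul]⟩

include K

theorem rad_le : rad K P ≤ pointStab P := fun _ ⟨_, _, h⟩ => ⟨1, by rw [app_self K h, one_smul]⟩

theorem levi_le : levi P ≤ pointStab P := fun _ h => h.1

/-- Normalised parameters. -/
theorem sg_normal {g : G} {x : V} {t : F} (h : IsSg K g P.v x t) :
    ∃ t', IsSg K g P.v (incl (prj x)) t' := by
  have hx : x = H x P.u • P.v + incl (prj x) := by
    conv_lhs => rw [decomp K P x]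
    rw [h.2.1, zero_smul, add_zero]
  refine ⟨t - -(H x P.u) + K.bar (-(H x P.u)), ?_⟩
  have := sg_add_self K (-(H x P.u)) h
  rwa [show x + -(H x P.u) • P.v = incl (prj x) by
    conv_lhs => rw [hx]
    rw [h_add_left K, h_smul_left K, P.hvu, mul_one, h_incl_u K P, add_zero]
    module] at this

theorem app_u {g : G} {z : Fin k → F} {t : F} (h : IsSg K g P.v (incl z) t) :
    app g P.u = P.u + incl z + t • P.v := by
  rw [app_eq K h, h_uv K P, h_u_incl K P, mul_one]
  module

theorem sg_ext {g g' : G} {z z' : Fin k → F} {t t' : F} (h : IsSg K g P.v (incl z) t)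
    (h' : IsSg K g' P.v (incl z') t') (e : g = g') : z = z' ∧ t = t' := by
  have e1 := app_u K P h
  rw [e, app_u K P h'] at e1
  have e2 := congrArg prj e1
  simp only [map_add, map_smul, prj_incl, P.u0, P.v0, smul_zero, add_zero, zero_add] at e2
  have e3 := congrArg (fun y => H y P.u) e1
  simp only [h_add_left K, h_smul_left K, P.hu, h_incl_u K P, P.hvu, mul_one, zero_add] at e3
  exact ⟨e2.symm, e3.symm⟩

theorem rad_inter_levi {g : G} (hg : g ∈ rad K P) (hl : g ∈ levi P) : g = 1 := by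
  obtain ⟨x, t, h⟩ := hg
  obtain ⟨t', h'⟩ := sg_normal K P h
  obtain ⟨d, hd⟩ := hl.2
  rw [app_u K P h'] at hd
  have e2 := congrArg prj hd
  simp only [map_add, map_smul, prj_incl, P.u0, P.v0, smul_zero, add_zero, zero_add] at e2
  have e3 := congrArg (fun y => H y P.u) hd
  simp only [h_add_left K, h_smul_left K, P.hu, h_incl_u K P, P.hvu, mul_one, zero_add, mul_zero] at e3
  rw [e2, map_zero, e3] at h'
  exact sg_unique K h' (sg_one K P.hv)

theorem exists_decomp (hk : 1 ≤ k) {g : G} (hg : g ∈ pointStab P) : ∃ s ∈ rad K P, ∃ m ∈ levi P, g = s * m := by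
  obtain ⟨c, hc⟩ := hg
  set y := app g P.u with hy
  have hyy : H y y = 0 := by rw [hy, h_app, P.hu]
  have hvy : c * K.bar (H y P.v) = 1 := by
    have h1 : H (app g P.v) y = 1 := by rw [hy, h_app, P.hvu]
    rw [hc, h_smul_left K, h_swap K y P.v] at h1
    exact h1
  set α := H y P.v with hα
  set β := H y P.u with hβ
  have hα0 : α ≠ 0 := fun h0 => by rw [h0, map_zero, mul_zero] at hvy; exact zero_ne_one hvy
  have hdec : y = β • P.v + α • P.u + incl (prj y) := decomp K P y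
  set z := α⁻¹ • prj y with hz
  have hxv : H (incl z) P.v = 0 := h_incl_v K P z
  have hval : H (incl z) (incl z) + β / α + K.bar (β / α) = 0 := by
    have h1 := h_expand K P y y
    rw [hyy, ← hα, ← hβ] at h1
    have hb : K.bar α ≠ 0 := (map_ne_zero K.bar).2 hα0
    rw [h_incl K, hz, h_smul_left K, h_smul_right K, map_div₀, map_inv₀]
    field_simp
    linear_combination -h1
  obtain ⟨s, hs⟩ := exists_sg K (show 3 ≤ 2 + k by omega) P.hv hxv hval
  refine ⟨s, ⟨_, _, hs⟩, s⁻¹ * g, ⟨(pointStab P).mul_mem ((pointStab P).inv_mem (rad_le K P ⟨_, _, hs⟩)) ⟨c, hc⟩,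
    α, ?_⟩, (mul_inv_cancel_left s g).symm⟩
  rw [app_mul, ← hy]
  refine app_injective s ?_
  rw [app_inv', app_smul, app_u K P hs]
  conv_lhs => rw [hdec]
  rw [hz, map_smul, smul_add, smul_add, smul_smul, smul_smul, mul_inv_cancel₀ hα0, one_smul,
    mul_div_cancel₀ _ hα0]
  abel

theorem levi_norm {m : G} (hm : m ∈ levi P) {s : G} (hs : s ∈ rad K P) : m * s * m⁻¹ ∈ rad K P := by
  obtain ⟨x, t, h⟩ := hs
  obtain ⟨c, hc⟩ := hm.1
  have h1 := sg_conj K h m
  rw [hc] at h1
  refine ⟨_, _, sg_smul K c h1 P.hv ?_⟩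
  have h2 : H (app m x) (app m P.v) = 0 := by rw [h_app, h.2.1]
  rw [hc, h_smul_right K] at h2
  refine (mul_eq_zero.1 h2).resolve_left fun h0 => ?_
  refine v_ne P (app_injective m ?_)
  rw [hc, (map_eq_zero K.bar).1 h0, zero_smul]
  exact (mulVec_zero _).symm

variable (M : Subgroup (SU (2 + k) F q))

/-- The parameters inside the subgroup. -/
def parA : AddSubgroup (Fin k → F) :=
  (pars K M P.hv).comap (incl (F := F) (k := k)).toAddMonoidHom

/-- The transvection parameters inside the subgroup. -/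
def parZ : AddSubgroup F where
  carrier := {t | ∃ g ∈ M, IsT K g P.v t}
  zero_mem' := ⟨1, M.one_mem, (isT_iff K).2 (sg_one K P.hv)⟩
  add_mem' := fun {a b} ⟨g, hg, h⟩ ⟨g', hg', h'⟩ => ⟨g * g', M.mul_mem hg hg', (isT_iff K).2 (by
    have := sg_mul K ((isT_iff K).1 h) ((isT_iff K).1 h')
    rwa [h_zero_left K, sub_zero, zero_add] at this)⟩
  neg_mem' := fun {a} ⟨g, hg, h⟩ => ⟨g⁻¹, M.inv_mem hg, (isT_iff K).2 (by
    have := sg_inv K ((isT_iff K).1 h)
    rwa [neg_zero, eq_neg_of_add_eq_zero_right h.2.1] at this)⟩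

theorem parA_iso : ∀ x ∈ parA K P M, ∀ y ∈ parA K P M,
    hermForm k F q x y - hermForm k F q y x ∈ parZ K P M := by
  intro x hx y hy
  obtain ⟨g, hg, h⟩ := isT_comm K (M := M) (he := P.hv) hx hy
  refine ⟨g, hg, ?_⟩
  rwa [show (incl (F := F) (k := k)).toAddMonoidHom x = incl x from rfl,
    show (incl (F := F) (k := k)).toAddMonoidHom y = incl y from rfl, h_incl K, h_incl K] at h

theorem card_rad (hk : 1 ≤ k) : q ^ (2 * k) * Nat.card (skew K) ≤ Nat.card (rad K P) := by
  classical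
  have hex : ∀ p : (Fin k → F) × skew K, ∃ g : G, IsSg K g P.v (incl p.1)
      (((ClassicalAut.Unitary.space (n := k) K).tr p.1).choose + (p.2 : F)) := fun p => by
    refine exists_sg K (show 3 ≤ 2 + k by omega) P.hv (h_incl_v K P _) ?_
    have h := ((ClassicalAut.Unitary.space (n := k) K).tr p.1).choose_spec
    change hermForm k F q p.1 p.1 + (1 : F) * _ + K.bar _ = 0 at h
    have h2 : (p.2 : F) + K.bar (p.2 : F) = 0 := p.2.2
    rw [one_mul] at h
    rw [h_incl K, map_add]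
    linear_combination h + h2
  choose e he using hex
  have := Nat.card_le_card_of_injective (fun p => (⟨e p, _, _, he p⟩ : rad K P)) fun p r h => by
    obtain ⟨h1, h2⟩ := sg_ext K P (he p) (he r) (congrArg Subtype.val h)
    rw [h1] at h2
    exact Prod.ext h1 (Subtype.ext (add_left_cancel h2))
  rwa [Nat.card_prod, card_F_pow K] at this

theorem card_inter_rad : Nat.card ↥(M ⊓ rad K P) ≤ Nat.card (parA K P M) * Nat.card (parZ K P M) := by
  classical
  have hx : ∀ g : ↥(M ⊓ rad K P), ∃ z t, IsSg K (g : G) P.v (incl z) t := fun g => by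
    obtain ⟨x, t, h⟩ := g.2.2
    exact ⟨_, sg_normal K P h⟩
  choose z t hzt using hx
  have hz : ∀ g, z g ∈ parA K P M := fun g => ⟨g, g.2.1, _, hzt g⟩
  have hrep : ∀ a : parA K P M, ∃ g : ↥(M ⊓ rad K P), ∃ s, IsSg K (g : G) P.v (incl (a : Fin k → F)) s := fun a => by
    obtain ⟨g, hg, s, h⟩ := a.2
    exact ⟨⟨g, hg, _, _, h⟩, s, h⟩
  choose rep s hrs using hrep
  have hZ : ∀ g, t g + K.bar (s ⟨z g, hz g⟩) + hermForm k F q (z g) (z g) ∈ parZ K P M := fun g => by
    refine ⟨(g : G) * (rep ⟨z g, hz g⟩ : G)⁻¹, M.mul_mem g.2.1 (M.inv_mem (rep _).2.1), ?_⟩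
    have h := sg_mul K (hzt g) (sg_inv K (hrs ⟨z g, hz g⟩))
    rw [add_neg_cancel, ← isT_iff] at h
    convert h using 2
    rw [← neg_one_smul F (incl (z g) : V), h_smul_left K, h_incl K]
    ring
  refine (Nat.card_le_card_of_injective (fun g => ((⟨z g, hz g⟩ : parA K P M), (⟨_, hZ g⟩ : parZ K P M)))
    fun g g' h => ?_).trans_eq (Nat.card_prod _ _)
  simp only [Prod.mk.injEq, Subtype.mk.injEq] at h
  obtain ⟨h1, h2⟩ := h
  simp only [h1] at h2
  exact Subtype.ext (sg_unique K (hzt g) (by rw [h1, add_right_cancel (add_right_cancel h2)]; exact hzt g'))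

/-- The projection of the point stabiliser of the subgroup. -/
def lift : Subgroup G where
  carrier := {m | m ∈ levi P ∧ ∃ s ∈ rad K P, s * m ∈ M}
  one_mem' := ⟨(levi P).one_mem, 1, (rad K P).one_mem, by rw [one_mul]; exact M.one_mem⟩
  mul_mem' := fun {a b} ⟨ha, s, hs, hsa⟩ ⟨hb, s', hs', hsb⟩ => ⟨(levi P).mul_mem ha hb, s * (a * s' * a⁻¹),
    (rad K P).mul_mem hs (levi_norm K P ha hs'), by
      rw [show s * (a * s' * a⁻¹) * (a * b) = (s * a) * (s' * b) by group]
      exact M.mul_mem hsa hsb⟩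
  inv_mem' := fun {a} ⟨ha, s, hs, hsa⟩ => ⟨(levi P).inv_mem ha, a⁻¹ * s⁻¹ * a⁻¹⁻¹,
    levi_norm K P ((levi P).inv_mem ha) ((rad K P).inv_mem hs), by
      rw [show a⁻¹ * s⁻¹ * a⁻¹⁻¹ * a⁻¹ = (s * a)⁻¹ by group]
      exact M.inv_mem hsa⟩

theorem card_inter_stab (hk : 1 ≤ k) :
    Nat.card ↥(M ⊓ pointStab P) ≤ Nat.card ↥(M ⊓ rad K P) * Nat.card (lift K P M) := by
  classical
  have hd : ∀ g : ↥(M ⊓ pointStab P), ∃ s ∈ rad K P, ∃ m ∈ levi P, (g : G) = s * m := fun g =>
    exists_decomp K P hk g.2.2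
  choose s hs m hm hgm using hd
  have hml : ∀ g, m g ∈ lift K P M := fun g => ⟨hm g, s g, hs g, hgm g ▸ g.2.1⟩
  have hrep : ∀ l : lift K P M, ∃ r ∈ rad K P, r * (l : G) ∈ M := fun l => l.2.2
  choose r hr hrl using hrep
  have hin : ∀ g, s g * (r ⟨m g, hml g⟩)⁻¹ ∈ M ⊓ rad K P := fun g => by
    refine ⟨?_, (rad K P).mul_mem (hs g) ((rad K P).inv_mem (hr _))⟩
    have := M.mul_mem g.2.1 (M.inv_mem (hrl ⟨m g, hml g⟩))
    rw [show (g : G) * (r ⟨m g, hml g⟩ * m g)⁻¹ = s g * (r ⟨m g, hml g⟩)⁻¹ by rw [hgm g]; group] at this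
    exact this
  refine (Nat.card_le_card_of_injective (fun g => ((⟨_, hin g⟩ : ↥(M ⊓ rad K P)), (⟨m g, hml g⟩ : lift K P M)))
    fun g g' h => ?_).trans_eq (Nat.card_prod _ _)
  simp only [Prod.mk.injEq, Subtype.mk.injEq] at h
  obtain ⟨h1, h2⟩ := h
  simp only [h2] at h1
  refine Subtype.ext ?_
  rw [hgm g, hgm g', mul_right_cancel h1, h2]

theorem card_stab_ge : Nat.card (rad K P) * Nat.card (levi P) ≤ Nat.card (pointStab P) := by
  rw [← Nat.card_prod]
  refine Nat.card_le_card_of_injective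
    (fun p => (⟨p.1.1 * p.2.1, (pointStab P).mul_mem (rad_le K P p.1.2) p.2.2.1⟩ : pointStab P)) fun p r h => ?_
  have h1 : (p.1 : G) * p.2 = r.1 * r.2 := congrArg Subtype.val h
  have h2 : (r.1 : G)⁻¹ * p.1 = r.2 * (p.2 : G)⁻¹ := by
    rw [inv_mul_eq_iff_eq_mul, ← mul_assoc, eq_mul_inv_iff_mul_eq, h1]
  have h3 := rad_inter_levi K P ((rad K P).mul_mem ((rad K P).inv_mem r.1.2) p.1.2)
    (h2 ▸ (levi P).mul_mem r.2.2 ((levi P).inv_mem p.2.2))
  have h4 : (p.1 : G) = r.1 := (inv_mul_eq_one.1 h3).symm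
  exact Prod.ext (Subtype.ext h4) (Subtype.ext (by rw [h4] at h1; exact mul_left_cancel h1))

theorem master (hk : 1 ≤ k) :
    q ^ (2 * k) * Nat.card (skew K) * Nat.card (levi P) ≤
      M.index * (Nat.card (parA K P M) * Nat.card (parZ K P M) * Nat.card (lift K P M)) := by
  calc _ ≤ Nat.card (rad K P) * Nat.card (levi P) := Nat.mul_le_mul_right _ (card_rad K P hk)
    _ ≤ Nat.card (pointStab P) := card_stab_ge K P
    _ ≤ M.index * Nat.card ↥(M ⊓ pointStab P) := card_le_index_mul M _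
    _ ≤ _ := Nat.mul_le_mul_left _ ((card_inter_stab K P M hk).trans
        (Nat.mul_le_mul_right _ (card_inter_rad K P M)))

theorem emb_mem_levi (g : SU k F q) : emb K g ∈ levi P :=
  ⟨⟨1, by rw [app_emb_of_prj K g P.v0, one_smul]⟩, 1, by rw [app_emb_of_prj K g P.u0, one_smul]⟩

theorem parA_stable : ∀ g : SU k F q, g ∈ (lift K P M).comap (emb K) → ∀ a ∈ parA K P M, app g a ∈ parA K P M := by
  intro g hg a ha
  obtain ⟨-, r, ⟨x, t, hr⟩, hrg⟩ := hg
  obtain ⟨h₀, hh₀, t₀, h⟩ := ha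
  have hfix : app (r * emb K g) P.v = P.v := by
    rw [app_mul, app_emb_of_prj K g P.v0, app_self K hr]
  have h1 := sg_conj K h (r * emb K g)
  rw [hfix] at h1
  obtain ⟨t', h2⟩ := sg_normal K P h1
  refine ⟨_, M.mul_mem (M.mul_mem hrg hh₀) (M.inv_mem hrg), t', ?_⟩
  rwa [app_mul, show (incl (F := F) (k := k)).toAddMonoidHom a = incl a from rfl, app_emb_incl, app_eq K hr,
    h_incl_v K P, mul_zero, zero_smul, zero_smul, add_zero, add_zero, map_sub, map_smul, prj_incl, P.v0,
    smul_zero, sub_zero] at h2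

end CfsgLib.MinIndexSU
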