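import Cfsg.Agent.Lib.MinIndexSU.End
import Cfsg.Agent.Lib.SUMinDegree.Vectors

/-!
Complements of the radical: conjugation inside the radical, and the case of at least three field
elements fixed by the conjugation.
-/

set_option autoImplicit false
set_option linter.unusedSectionVars false

namespace CfsgLib.MinIndexSU

open Matrix Cfsg CfsgLib.Classical.Herm CfsgLib.Classical.Elation
open CfsgLib.ClassicalAut (Unitary.Conj)

variable {F : Type*} [Field F] [Finite F] {q : ℕ} (K : Unitary.Conj F q) {k : ℕ}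

local notation "V" => (Fin (2 + k) → F)
local notation "H" => hermForm (2 + k) F q
local notation "G" => SU (2 + k) F q

include K

variable (P : HPair (F := F) (q := q) (k := k)) (M : Subgroup (SU (2 + k) F q))

/-- The subgroup meets the point stabiliser in a complement of the radical. -/
structure IsCompl' : Prop where
  exists_lift : ∀ m ∈ levi P, ∃ s ∈ rad K P, s * m ∈ M
  inter : M ⊓ rad K P = ⊥

theorem isCompl_of_lift (h : lift K P M = levi P) (hb : M ⊓ rad K P = ⊥) : IsCompl' K P M :=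
  ⟨fun m hm => (h.ge hm : m ∈ lift K P M).2, hb⟩

variable {P M}

theorem lift_unique (hM : IsCompl' K P M) {s s' m : G} (hs : s ∈ rad K P) (hs' : s' ∈ rad K P)
    (h : s * m ∈ M) (h' : s' * m ∈ M) : s = s' := by
  have h1 : s * s'⁻¹ ∈ M ⊓ rad K P := by
    refine ⟨?_, (rad K P).mul_mem hs ((rad K P).inv_mem hs')⟩
    have := M.mul_mem h (M.inv_mem h')
    rwa [show s * m * (s' * m)⁻¹ = s * s'⁻¹ by group] at this
  rw [hM.inter, Subgroup.mem_bot, mul_inv_eq_one] at h1
  exact h1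

theorem index_conj (r : G) : (M.map (MulAut.conj r).toMonoidHom).index = M.index :=
  Subgroup.index_map_of_bijective (MulAut.conj r).bijective M

theorem isCompl_conj (hM : IsCompl' K P M) {r : G} (hr : r ∈ rad K P) :
    IsCompl' K P (M.map (MulAut.conj r).toMonoidHom) := by
  refine ⟨fun m hm => ?_, (Subgroup.eq_bot_iff_forall _).2 ?_⟩
  · obtain ⟨s, hs, hsm⟩ := hM.exists_lift m hm
    refine ⟨r * s * (m * r⁻¹ * m⁻¹), (rad K P).mul_mem ((rad K P).mul_mem hr hs)
      (levi_norm K P hm ((rad K P).inv_mem hr)), s * m, hsm, ?_⟩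
    show r * (s * m) * r⁻¹ = r * s * (m * r⁻¹ * m⁻¹) * m
    group
  · rintro _ ⟨⟨g, hg, rfl⟩, hgr⟩
    have hgr' : r * g * r⁻¹ ∈ rad K P := hgr
    have h : g ∈ M ⊓ rad K P := ⟨hg, by
      have := (rad K P).mul_mem ((rad K P).mul_mem ((rad K P).inv_mem hr) hgr') hr
      rwa [show r⁻¹ * (r * g * r⁻¹) * r = g by group] at this⟩
    rw [hM.inter, Subgroup.mem_bot] at h
    rw [h, map_one]

theorem bound_conj {r : G} (h : Bound K (M.map (MulAut.conj r).toMonoidHom)) : Bound K M := by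
  rwa [Bound, index_conj K r] at h

/-- Transvections at the point commute with the radical. -/
theorem T_comm {T s : G} {t : F} (hT : IsSg K T P.v 0 t) (hs : s ∈ rad K P) : T * s = s * T := by
  obtain ⟨x, τ, h⟩ := hs
  have h1 := sg_mul K hT h
  have h2 := sg_mul K h hT
  rw [h_zero_right K, sub_zero, zero_add] at h1
  rw [h_zero_left K, sub_zero, add_zero, add_comm τ t] at h2
  exact sg_unique K h1 h2

/-- Transvections at the point commute with the embedded group. -/
theorem T_emb {T : G} {t : F} (hT : IsSg K T P.v 0 t) (g : SU k F q) : T * emb K g = emb K g * T := by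
  have h := sg_conj K hT (emb K g)
  rw [app_emb_of_prj K g P.v0, app_zero] at h
  exact (mul_inv_eq_iff_eq_mul.1 (sg_unique K h hT)).symm

/-- Transvection lifts of the embedded group are trivial. -/
theorem emb_mem_of_lift (hk : 3 ≤ k) (h32 : ¬(k = 3 ∧ q = 2)) (hM : IsCompl' K P M)
    (h : ∀ g : SU k F q, ∃ T t, IsSg K T P.v 0 t ∧ T * emb K g ∈ M) (g : SU k F q) : emb K g ∈ M := by
  choose T t hT hTM using h
  have hmul : ∀ a b, T (a * b) = T a * T b := fun a b => by
    refine lift_unique K hM ⟨_, _, hT (a * b)⟩ ((rad K P).mul_mem ⟨_, _, hT a⟩ ⟨_, _, hT b⟩) (hTM _) ?_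
    have := M.mul_mem (hTM a) (hTM b)
    rwa [show T a * emb K a * (T b * emb K b) = T a * T b * (emb K a * emb K b) by
      rw [mul_assoc (T a) (emb K a), ← mul_assoc (emb K a) (T b), ← T_emb K (hT b) a]; group,
      ← map_mul (emb K)] at this
  let φ : SU k F q →* Multiplicative F := MonoidHom.mk' (fun a => Multiplicative.ofAdd (t a)) fun a b => by
    have h1 := sg_mul K (hT a) (hT b)
    rw [← hmul, h_zero_left K, sub_zero, zero_add, ← map_zero (incl (F := F) (k := k))] at h1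
    have h2 := hT (a * b)
    rw [← map_zero (incl (F := F) (k := k))] at h2
    rw [← ofAdd_add, (sg_ext K P h2 h1 rfl).2]
  obtain ⟨p, hp⟩ := CharP.exists F
  have : Fact p.Prime := ⟨CharP.char_is_prime F p⟩
  have h0 : t g = 0 := by
    have h1 : g ∈ commutator (SU k F q) := by
      rw [commutator_eq_top K p hk h32]; exact Subgroup.mem_top g
    exact Multiplicative.ofAdd.injective ((Abelianization.commutator_subset_ker φ h1).trans ofAdd_zero.symm)
  have h1 : T g = 1 := sg_unique K (by have := hT g; rwa [h0] at this) (sg_one K P.hv)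
  have := hTM g
  rwa [h1, one_mul] at this

/-- With a scalar moving the radical, the embedded group lies in a conjugate. -/
theorem exists_conj_emb (hk : 3 ≤ k) (hq : 3 ≤ q) (hM : IsCompl' K P M) :
    ∃ r ∈ rad K P, IsCompl' K P (M.map (MulAut.conj r).toMonoidHom) ∧
      ∀ g : SU k F q, emb K g ∈ M.map (MulAut.conj r).toMonoidHom := by
  classical
  obtain ⟨μ, hμ, hμ0, hμ1⟩ : ∃ μ : F, K.bar μ = μ ∧ μ ≠ 0 ∧ μ ≠ 1 := by
    have : Nontrivial {c : F // K.bar c = c ∧ c ≠ 0} :=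
      Finite.one_lt_card_iff_nontrivial.1 (by rw [card_fixed K]; omega)
    obtain ⟨⟨μ, h1, h2⟩, hne⟩ := exists_ne (⟨1, map_one _, one_ne_zero⟩ : {c : F // K.bar c = c ∧ c ≠ 0})
    exact ⟨μ, h1, h2, fun e => hne (Subtype.ext e)⟩
  have hef : H P.v P.u ≠ 0 := by rw [P.hvu]; exact one_ne_zero
  obtain ⟨m0, hm0v, hm0u, hm0w⟩ : ∃ m0 : G, app m0 P.v = μ • P.v ∧ app m0 P.u = μ⁻¹ • P.u ∧
      ∀ z, app m0 (incl z) = incl z := by
    refine ⟨SUMinDegree.mkSU (SUMinDegree.planeMat K P.v P.u μ μ⁻¹)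
      (by rw [SUMinDegree.planeMat_det K P.hv P.hu hef, mul_inv_cancel₀ hμ0])
      (SUMinDegree.planeMat_isometry K P.hv P.hu hef (by rw [map_inv₀, hμ, mul_inv_cancel₀ hμ0])),
      ?_, ?_, fun z => ?_⟩ <;> rw [SUMinDegree.app_mkSU, SUMinDegree.planeMat_apply]
    · rw [P.hv, P.hvu]; module
    · rw [P.hu, h_uv K P]; module
    · rw [h_incl_u K P, h_incl_v K P]; module
  have hm0 : m0 ∈ levi P := ⟨⟨μ, hm0v⟩, μ⁻¹, hm0u⟩
  have hconj : ∀ {s : G} {z : Fin k → F} {t : F}, IsSg K s P.v (incl z) t →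
      IsSg K (m0 * s * m0⁻¹) P.v (incl (μ • z)) (μ * μ * t) := fun {s z t} h => by
    have h1 := sg_conj K h m0
    rw [hm0v, hm0w] at h1
    have h2 := sg_smul K μ h1 P.hv (h_incl_v K P z)
    rwa [hμ, ← map_smul] at h2
  obtain ⟨s0, hs0, hs0M⟩ := hM.exists_lift m0 hm0
  obtain ⟨x0, τ0, hs0'⟩ := hs0
  obtain ⟨t0, hs0''⟩ := sg_normal K P hs0'
  set x := -(1 - μ)⁻¹ • prj x0 with hx
  obtain ⟨tr, htr⟩ := (ClassicalAut.Unitary.space (n := k) K).tr x
  change hermForm k F q x x + (1 : F) * tr + K.bar tr = 0 at htr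
  rw [one_mul, ← h_incl K (k := k)] at htr
  obtain ⟨r, hr⟩ := exists_sg K (show 3 ≤ 2 + k by omega) P.hv (h_incl_v K P x) htr
  have hM' := isCompl_conj K hM (r := r) ⟨_, _, hr⟩
  refine ⟨r, ⟨_, _, hr⟩, hM', ?_⟩
  set M' := M.map (MulAut.conj r).toMonoidHom with hM'def
  -- the normalised lift of the scalar
  obtain ⟨T0, τ, hT0, hT0M⟩ : ∃ T0 τ, IsSg K T0 P.v 0 τ ∧ T0 * m0 ∈ M' := by
    have hrinv := sg_inv K hr
    rw [← map_neg] at hrinv
    have h1 := sg_mul K (sg_mul K hr hs0'') (hconj hrinv)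
    refine ⟨r * s0 * (m0 * r⁻¹ * m0⁻¹), ?_, ?_, s0 * m0, hs0M, ?_⟩
    rotate_left
    · have e : (incl x : V) + incl (prj x0) + incl (μ • -x) = 0 := by
        rw [← map_add, ← map_add, ← map_zero (incl (F := F) (k := k))]
        congr 1
        have h1μ : (1 : F) - μ ≠ 0 := sub_ne_zero.2 (Ne.symm hμ1)
        rw [hx]
        match_scalars
        field_simp
        ring
      rw [e] at h1
      exact h1
    · show r * (s0 * m0) * r⁻¹ = r * s0 * (m0 * r⁻¹ * m0⁻¹) * m0
      group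
  refine emb_mem_of_lift K hk (by omega) hM' fun g => ?_
  obtain ⟨s, hs, hsM⟩ := hM'.exists_lift _ (emb_mem_levi K P g)
  obtain ⟨xs, ts, hs'⟩ := hs
  obtain ⟨ts', hs''⟩ := sg_normal K P hs'
  have hcomm : m0 * emb K g = emb K g * m0 := ext_app fun y => by
    rw [app_mul, app_mul, decomp K P y]
    simp only [app_add, app_smul, hm0v, hm0u, hm0w, app_emb_incl, app_emb_of_prj K g P.v0,
      app_emb_of_prj K g P.u0]
  have h1 := hconj hs''
  have h2 : m0 * s * m0⁻¹ * emb K g ∈ M' := by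
    have h3 := M'.mul_mem (M'.mul_mem hT0M hsM) (M'.inv_mem hT0M)
    rwa [show T0 * m0 * (s * emb K g) * (T0 * m0)⁻¹ = T0 * (m0 * s * m0⁻¹) * (m0 * emb K g * m0⁻¹) * T0⁻¹ by group,
      hcomm, mul_inv_cancel_right, T_comm K hT0 ⟨_, _, h1⟩, mul_assoc (m0 * s * m0⁻¹), T_emb K hT0 g,
      ← mul_assoc, mul_inv_cancel_right] at h3
  have h3 := lift_unique K hM' ⟨_, _, hs''⟩ ⟨_, _, h1⟩ hsM h2
  have hz : prj xs = 0 := by
    have h4 := (sg_ext K P hs'' h1 h3).1
    have h5 : (1 - μ) • prj xs = 0 := by rw [sub_smul, one_smul, ← h4, sub_self]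
    exact (smul_eq_zero.1 h5).resolve_left (sub_ne_zero.2 (Ne.symm hμ1))
  rw [hz, map_zero] at hs''
  exact ⟨s, ts', hs'', hsM⟩

end CfsgLib.MinIndexSU
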