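import Cfsg.Agent.Lib.MinIndexSU.Scale

/-!
The lift of the Levi subgroup into a complement, as a homomorphism.
-/

set_option autoImplicit false
set_option linter.unusedSectionVars false

namespace CfsgLib.MinIndexSU

open Matrix Cfsg CfsgLib.Classical.Herm CfsgLib.Classical.Elation
open CfsgLib.ClassicalAut (Unitary.Conj)

variable {F : Type*} [Field F] [Finite F] {q : ℕ} (K : Unitary.Conj F q) {k : ℕ}

local notation "V" => (Fin (2 + k) → F)
local notation "H" => hermForm (2 + k) F q
local notation "G" => SU (2 + k) F q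

include K

variable {P : HPair (F := F) (q := q) (k := k)} {M : Subgroup (SU (2 + k) F q)}

/-- The section. -/
noncomputable def sect (hM : IsCompl' K P M) : levi P →* G where
  toFun m := (hM.exists_lift m.1 m.2).choose * m
  map_one' := by
    have h := (hM.exists_lift (1 : levi P).1 (1 : levi P).2).choose_spec
    rw [lift_unique K hM h.1 (rad K P).one_mem h.2 (by rw [one_mul]; exact M.one_mem), one_mul]
    rfl
  map_mul' a b := by
    obtain ⟨ha, haM⟩ := (hM.exists_lift a.1 a.2).choose_spec
    obtain ⟨hb, hbM⟩ := (hM.exists_lift b.1 b.2).choose_spec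
    obtain ⟨hab, habM⟩ := (hM.exists_lift (a * b).1 (a * b).2).choose_spec
    rw [lift_unique K hM hab ((rad K P).mul_mem ha (levi_norm K P a.2 hb)) habM
      (by
        have := M.mul_mem haM hbM
        rwa [show (hM.exists_lift a.1 a.2).choose * (a : G) * ((hM.exists_lift b.1 b.2).choose * b) =
          (hM.exists_lift a.1 a.2).choose * ((a : G) * (hM.exists_lift b.1 b.2).choose * (a : G)⁻¹) * ((a : G) * b) by
            group] at this)]
    show _ * ((a : G) * b) = _
    group

theorem sect_mem (hM : IsCompl' K P M) (m : levi P) : sect K hM m ∈ M := (hM.exists_lift m.1 m.2).choose_spec.2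

theorem sect_eq (hM : IsCompl' K P M) (m : levi P) {s : G} (hs : s ∈ rad K P) (h : s * m ∈ M) :
    sect K hM m = s * m := by
  show _ * (m : G) = _
  rw [lift_unique K hM (hM.exists_lift m.1 m.2).choose_spec.1 hs (hM.exists_lift m.1 m.2).choose_spec.2 h]

theorem sect_form (hM : IsCompl' K P M) (m : levi P) :
    ∃ s z t, IsSg K s P.v (incl z) t ∧ sect K hM m = s * m := by
  obtain ⟨⟨x, t, h⟩, -⟩ := (hM.exists_lift m.1 m.2).choose_spec
  obtain ⟨t', h'⟩ := sg_normal K P h
  exact ⟨_, prj x, t', h', rfl⟩

/-- The embedded group, lifted. -/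
noncomputable def sectEmb (hM : IsCompl' K P M) : SU k F q →* G :=
  (sect K hM).comp ((emb K).codRestrict (levi P) (emb_mem_levi K P))

theorem sectEmb_form (hM : IsCompl' K P M) (g : SU k F q) :
    ∃ s z t, IsSg K s P.v (incl z) t ∧ sectEmb K hM g = s * emb K g :=
  sect_form K hM _

theorem sectEmb_mem (hM : IsCompl' K P M) (g : SU k F q) : sectEmb K hM g ∈ M := sect_mem K hM _

/-- A centre over a point of the complement: its transvection is the lift. -/
theorem sectEmb_eq_of_centre (hM : IsCompl' K P M) {w : Fin k → F} (hw : w ≠ 0) {α : F}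
    (hc : incl w + α • P.v ∈ centres K M) {g : SU k F q} {c : F} (hg : IsT K g w c) :
    IsT K (sectEmb K hM g) (incl w + α • P.v) c := by
  obtain ⟨z, hz⟩ : ∃ z, hermForm k F q w z = -α := by
    obtain ⟨y, hy⟩ := (ClassicalAut.Unitary.space (n := k) K).exists_ne w hw
    refine ⟨K.bar (-α) • y, ?_⟩
    rw [h_smul_right K, K.bar_bar, h_swap K y w, show hermForm k F q y w = 1 from hy, map_one, mul_one]
  obtain ⟨t, ht⟩ := (ClassicalAut.Unitary.space (n := k) K).tr z
  change hermForm k F q z z + (1 : F) * t + K.bar t = 0 at ht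
  rw [one_mul, ← h_incl K (k := k)] at ht
  have hn : 3 ≤ 2 + k := by
    rcases Nat.eq_zero_or_pos k with rfl | h
    · exact absurd (funext fun i => i.elim0) hw
    · omega
  obtain ⟨r, hr⟩ := exists_sg K hn P.hv (h_incl_v K P z) ht
  have hrw : app r (incl w) = incl w + α • P.v := by
    rw [app_eq K hr, h_incl_v K P, h_incl K, hz]
    module
  have h1 := sg_conj K ((isT_iff K).1 (emb_isT K P hg)) r
  rw [hrw, app_zero r, ← isT_iff] at h1
  have hl := emb_mem_levi K P g
  have e : r * emb K g * r⁻¹ = r * (emb K g * r⁻¹ * (emb K g)⁻¹) * emb K g := by group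
  rw [show sectEmb K hM g = r * (emb K g * r⁻¹ * (emb K g)⁻¹) * emb K g from
    sect_eq K hM ⟨_, hl⟩ ((rad K P).mul_mem ⟨_, _, hr⟩ (levi_norm K P hl ((rad K P).inv_mem ⟨_, _, hr⟩)))
      (by rw [← e]; exact hc.2 _ c h1), ← e]
  exact h1

end CfsgLib.MinIndexSU
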