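import Cfsg.Agent.Lib.MinIndexSU.Orbit

/-!
Lower bounds for the numbers of non-zero vectors of given norm, and of given norm and product with a
fixed vector.
-/

set_option autoImplicit false
set_option linter.unusedSectionVars false

namespace CfsgLib.MinIndexSU

open Matrix Cfsg CfsgLib.Classical.Herm
open CfsgLib.ClassicalAut (Unitary.Conj)

variable {F : Type*} [Field F] [Finite F] {q : ℕ} (K : Unitary.Conj F q) {n : ℕ}

local notation "H" => hermForm n F q
local notation "V" => (Fin n → F)

/-- A lower bound for the non-zero vectors of a given norm. -/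
def low (q j : ℕ) : ℕ :=
  if Even j then q ^ (j - 1) * (q ^ j - 1) else (q ^ j + 1) * (q ^ (j - 1) - 1)

include K

theorem card_norm_vec (j : ℕ) (c : F) :
    Nat.card {v : Fin j → F // hermForm j F q v v = c} = count K j c :=
  Nat.card_congr (Equiv.subtypeEquivRight fun v => by rw [ClassicalAut.Unitary.herm_apply K])

theorem card_ne_zero [DecidableEq F] (j : ℕ) (c : F) :
    count K j c ≤ Nat.card {v : Fin j → F // v ≠ 0 ∧ hermForm j F q v v = c} + (if c = 0 then 1 else 0) := by
  classical
  rw [← card_norm_vec]
  split_ifs with hc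
  · subst hc
    let f : {v : Fin j → F // hermForm j F q v v = 0} → Option {v : Fin j → F // v ≠ 0 ∧ hermForm j F q v v = 0} :=
      fun v => if h : v.1 = 0 then none else some ⟨v.1, h, v.2⟩
    have hf : Function.Injective f := by
      intro a b e
      simp only [f] at e
      split_ifs at e with h1 h2
      · exact Subtype.ext (h1.trans h2.symm)
      · exact Subtype.ext (congrArg (fun z => z.1) (Option.some.inj e))
    have := Nat.card_le_card_of_injective f hf
    rwa [Finite.card_option] at this
  · exact Nat.card_le_card_of_injective (fun v => ⟨v.1, fun h => hc (by rw [← v.2, h, h_zero_left K]), v.2⟩)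
      fun a b e => Subtype.ext (congrArg (fun z => z.1) e)

theorem low_le (j : ℕ) (hj : 2 ≤ j) {c : F} (hc : K.bar c = c) :
    low q j ≤ Nat.card {v : Fin j → F // v ≠ 0 ∧ hermForm j F q v v = c} := by
  classical
  have h := card_ne_zero K j c
  have hq := K.two_le
  have h1 : 1 ≤ q ^ (j - 1) := Nat.one_le_pow _ _ (by omega)
  have h2 : q ^ (j - 1) ≤ q ^ j := Nat.pow_le_pow_right (by omega) (by omega)
  classical
  by_cases hc0 : c = 0
  · subst hc0
    rw [if_pos rfl, count_zero_nat] at h
    refine le_trans ?_ (Nat.le_of_add_le_add_right h)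
    rw [low]
    split_ifs
    · rw [mul_comm (q ^ (j - 1))]
      exact Nat.mul_le_mul_left _ (Nat.le_succ _)
    · exact le_rfl
  · rw [if_neg hc0, add_zero, count_smul K j hc hc0, count_one_nat] at h
    refine le_trans ?_ h
    rw [low]
    split_ifs
    · exact le_rfl
    · rw [mul_comm (q ^ j + 1)]
      exact Nat.mul_le_mul_right _ (Nat.sub_le _ _)

theorem card_fixed_eq : Nat.card {c : F // K.bar c = c} = q := by
  classical
  cases nonempty_fintype F
  have e : {c : F // K.bar c = c} ≃ Option {c : F // K.bar c = c ∧ c ≠ 0} :=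
    { toFun := fun c => if h : c.1 = 0 then none else some ⟨c.1, c.2, h⟩
      invFun := fun o => o.elim ⟨0, map_zero _⟩ fun c => ⟨c.1, c.2.1⟩
      left_inv := fun c => by
        by_cases h : c.1 = 0
        · simp only [dif_pos h, Option.elim_none]; exact Subtype.ext h.symm
        · simp only [dif_neg h, Option.elim_some]
      right_inv := fun o => by
        rcases o with _ | ⟨c, hc, hc0⟩ <;> simp_all }
  rw [Nat.card_congr e, Finite.card_option, card_fixed K]
  have := K.two_le
  omega

theorem card_inner (x : V) (hx : x ≠ 0) (β : F) :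
    q ^ (2 * (n - 1)) ≤ Nat.card {y : V // H x y = β} := by
  classical
  obtain ⟨y₁, hy₁⟩ : ∃ y₁, H x y₁ = 1 := by
    obtain ⟨v, hv⟩ := (ClassicalAut.Unitary.space (n := n) K).exists_ne x hx
    exact ⟨v, by rw [h_swap K v x, show H v x = 1 from hv, map_one]⟩
  let f : V → {y : V // H x y = β} × F := fun y =>
    (⟨y + K.bar (β - H x y) • y₁, by rw [h_add_right K, h_smul_right K, K.bar_bar, hy₁, mul_one, add_sub_cancel]⟩,
      H x y)
  have hf : Function.Injective f := fun a b e => by
    simp only [f, Prod.mk.injEq, Subtype.mk.injEq] at e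
    rw [e.2] at e
    exact add_right_cancel e.1
  have h := Nat.card_le_card_of_injective f hf
  rw [Nat.card_prod, card_F_pow K, K.card] at h
  rcases Nat.eq_zero_or_pos n with rfl | hn
  · exact absurd (funext fun i => i.elim0) hx
  rw [show 2 * n = 2 * (n - 1) + 2 by omega, pow_add] at h
  exact Nat.le_of_mul_le_mul_right h (pow_pos (by have := K.two_le; omega) 2)

theorem low_le_pow (j : ℕ) : low q (j + 1) ≤ q ^ (2 * j + 1) := by
  have hq := K.two_le
  rw [low, Nat.add_sub_cancel]
  split_ifs
  · calc q ^ j * (q ^ (j + 1) - 1) ≤ q ^ j * q ^ (j + 1) := Nat.mul_le_mul_left _ (Nat.sub_le _ _)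
      _ = _ := by rw [← pow_add]; congr 1; omega
  · have h1 : q ^ j ≤ q ^ (j + 1) := Nat.pow_le_pow_right (by omega) (by omega)
    obtain ⟨a, ha⟩ : ∃ a, q ^ j = a + 1 := ⟨q ^ j - 1, by have := Nat.one_le_pow j q (by omega); omega⟩
    have h3 : (q ^ (j + 1) + 1) * a ≤ q ^ (j + 1) * (a + 1) := by
      rw [add_mul, one_mul, mul_add, mul_one]
      omega
    rw [← ha, ← pow_add] at h3
    rw [ha, Nat.add_sub_cancel, show 2 * j + 1 = j + 1 + j by omega]
    exact h3

/-- Vectors with given norm and product with a fixed one, not multiples of it. -/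
theorem low_le_pair {j : ℕ} (hj : 4 ≤ j) {x : Fin j → F} (hx : x ≠ 0) {β γ : F} (hβ : β ≠ 0) (hγ : K.bar γ = γ) :
    low q (j - 1) ≤ Nat.card {y : Fin j → F //
      y ∉ Submodule.span F {x} ∧ hermForm j F q x y = β ∧ hermForm j F q y y = γ} := by
  classical
  cases nonempty_fintype F
  obtain ⟨i, rfl⟩ : ∃ i, j = i + 1 := ⟨j - 1, by omega⟩
  rw [Nat.add_sub_cancel]
  by_cases hxx : hermForm (i + 1) F q x x = 0
  · -- translations along `x` shift the norm
    obtain ⟨l, rfl⟩ : ∃ l, i = l + 1 := ⟨i - 1, by omega⟩
    refine (low_le_pow K l).trans ?_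
    have hnot : ∀ y, hermForm (l + 1 + 1) F q x y = β → y ∉ Submodule.span F {x} := fun y h hy => by
      obtain ⟨a, rfl⟩ := Submodule.mem_span_singleton.1 hy
      rw [h_smul_right K, hxx, mul_zero] at h
      exact hβ h.symm
    obtain ⟨t, ht⟩ := K.exists_trace
    let f : {y : Fin (l + 1 + 1) → F // hermForm (l + 1 + 1) F q x y = β} →
        {y : Fin (l + 1 + 1) → F // y ∉ Submodule.span F {x} ∧ hermForm (l + 1 + 1) F q x y = β ∧
          hermForm (l + 1 + 1) F q y y = γ} × {c : F // K.bar c = c} := fun y =>
      let Δ := γ - hermForm (l + 1 + 1) F q y.1 y.1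
      let lam := Δ * t / ((t + K.bar t) * β)
      have h1 : hermForm (l + 1 + 1) F q x (y.1 + lam • x) = β := by
        rw [h_add_right K, h_smul_right K, hxx, mul_zero, add_zero, y.2]
      (⟨y.1 + lam • x, hnot _ h1, h1, by
          have hΔ : K.bar Δ = Δ := by rw [map_sub, hγ, bar_self K]
          have hb : K.bar β ≠ 0 := (map_ne_zero K.bar).2 hβ
          simp only [h_add_left K, h_add_right K, h_smul_left K, h_smul_right K, hxx, y.2, mul_zero, add_zero]
          rw [h_swap K x y.1, y.2, show lam = Δ * t / ((t + K.bar t) * β) from rfl]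
          simp only [map_div₀, map_mul, map_add, K.bar_bar, hΔ]
          rw [add_comm (K.bar t) t]
          field_simp
          ring⟩,
        ⟨Δ, by rw [map_sub, hγ, bar_self K]⟩)
    have hf : Function.Injective f := fun a b e => by
      simp only [f, Prod.mk.injEq, Subtype.mk.injEq] at e
      rw [e.2] at e
      exact Subtype.ext (add_right_cancel e.1)
    have h := Nat.card_le_card_of_injective f hf
    rw [Nat.card_prod, card_fixed_eq K] at h
    have h2 := (card_inner K x hx β).trans h
    rw [show 2 * (l + 1 + 1 - 1) = 2 * l + 1 + 1 by omega, pow_succ] at h2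
    exact Nat.le_of_mul_le_mul_right h2 (by have := K.two_le; omega)
  · -- move to a coordinate vector
    obtain ⟨t, ht⟩ := K.exists_norm _ (bar_self K x)
    have ht0 : t ≠ 0 := fun h => hxx (by rw [← ht, h, zero_mul])
    have hu : hermForm (i + 1) F q (t • Pi.single (0 : Fin (i + 1)) 1) (t • Pi.single (0 : Fin (i + 1)) 1) =
        hermForm (i + 1) F q x x := by
      rw [h_smul_left K, h_smul_right K, h_single K, Pi.single_eq_same, mul_one, ht]
    obtain ⟨g, hg⟩ := exists_move_one K (show 3 ≤ i + 1 by omega) hx (smul_ne_zero ht0 (by simp)) hu.symm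
    set a : F := K.bar (β / t) with ha
    refine (low_le K i (by omega) (c := γ - a * K.bar a) (by rw [map_sub, hγ, map_mul, K.bar_bar, mul_comm])).trans
      (Nat.card_le_card_of_injective (fun z => ⟨app g⁻¹ (Fin.cons a z.1 : Fin (i + 1) → F), ?_, ?_, ?_⟩) ?_)
    · intro hmem
      obtain ⟨c, hc⟩ := Submodule.mem_span_singleton.1 hmem
      have h1 := congrArg (app g) hc
      rw [app_smul, app_inv', hg] at h1
      refine z.2.1 (funext fun l => ?_)
      have := congrFun h1 l.succ
      simpa using this.symm
    · rw [← h_app g, app_inv', hg, h_smul_left K, h_single_left K, Fin.cons_zero, ha, K.bar_bar,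
        mul_div_cancel₀ _ ht0]
    · rw [h_app, ClassicalAut.Unitary.herm_apply K, Fin.sum_univ_succ]
      simp only [Fin.cons_zero, Fin.cons_succ]
      rw [← ClassicalAut.Unitary.herm_apply K, z.2.2]
      ring
    · intro p r e
      have h1 := congrArg (fun z => app g z.1) e
      simp only [app_inv'] at h1
      exact Subtype.ext (Fin.cons_right_injective (α := fun _ => F) a h1)

end CfsgLib.MinIndexSU
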