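import Cfsg.Agent.Lib.MinIndexSU.Section
import Cfsg.Agent.Lib.MinIndexSU.Cone

/-!
Complements over four elements: the lift of a transvection is a transvection, or the orbit of the
point is small; in the first case the centres are given by a linear function.
-/

set_option autoImplicit false
set_option linter.unusedSectionVars false

namespace CfsgLib.MinIndexSU

open Matrix Cfsg CfsgLib.Classical.Herm CfsgLib.Classical.Elation
open CfsgLib.ClassicalAut (Unitary.Conj)

variable {F : Type*} [Field F] [Finite F] {q : ℕ} (K : Unitary.Conj F q) {k : ℕ}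

local notation "V" => (Fin (2 + k) → F)
local notation "H" => hermForm (2 + k) F q
local notation "G" => SU (2 + k) F q

include K

theorem skew_two (hq : q = 2) {t : F} (ht : t + K.bar t = 0) (h0 : t ≠ 0) : t = 1 := by
  have h2 := two_eq_zero K hq
  have hn := norm_eq_one_two K hq h0
  rw [show K.bar t = t by linear_combination ht - t * h2] at hn
  exact sub_eq_zero.1 (mul_self_eq_zero.1 (show (t - 1) * (t - 1) = 0 by linear_combination hn - (t - 1) * h2))

theorem one_skew (hq : q = 2) : (1 : F) + K.bar 1 = 0 := by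
  rw [map_one]; linear_combination two_eq_zero K hq

theorem T_sq (hq : q = 2) {n : ℕ} {g : SU n F q} {w : Fin n → F} {c : F} (h : IsT K g w c) : g * g = 1 :=
  ext_app fun y => by
    have h2 := two_eq_zero K hq
    rw [app_mul, h.2.2 (app g y), h.2.2 y, h_add_left K, h_smul_left K, h.1, mul_zero, add_zero, app_one]
    match_scalars
    · ring
    · linear_combination (c * hermForm n F q y w) * h2

variable {P : HPair (F := F) (q := q) (k := k)} {M : Subgroup (SU (2 + k) F q)}

theorem exists_form (hq : q = 2) (hk : 4 ≤ k) (hM : IsCompl' K P M) {w : Fin k → F} (hw : w ≠ 0)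
    {g : SU k F q} (hg : IsT K g w 1) :
    ∃ a t : F, t + K.bar t = 0 ∧ ∀ y, app (sectEmb K hM g) y = y + (H y (incl w) + a * H y P.v) • incl w +
      (K.bar a * H y (incl w) + t * H y P.v) • P.v := by
  have h2 := two_eq_zero K hq
  obtain ⟨s, z, t, hs, hsg⟩ := sectEmb_form K hM g
  have hconj : ∀ {r : G} {x : Fin k → F} {τ : F} (h : SU k F q), IsSg K r P.v (incl x) τ →
      IsSg K (emb K h * r * (emb K h)⁻¹) P.v (incl (app h x)) τ := fun {r x τ} h hr => by
    have := sg_conj K hr (emb K h)
    rwa [app_emb_of_prj K h P.v0, app_emb_incl] at this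
  -- the lift is an involution
  have hzw : hermForm k F q z w = 0 := by
    have h1 : s * (emb K g * s * (emb K g)⁻¹) = 1 := by
      have h3 : sectEmb K hM g * sectEmb K hM g = 1 := by rw [← map_mul, T_sq K hq hg, map_one]
      have h4 : emb K g * emb K g = 1 := by rw [← map_mul, T_sq K hq hg, map_one]
      rw [hsg, show s * emb K g * (s * emb K g) = s * (emb K g * s * (emb K g)⁻¹) * (emb K g * emb K g) by group,
        h4, mul_one] at h3
      exact h3
    have h5 := sg_mul K hs (hconj g hs)
    rw [h1, ← map_add] at h5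
    have h6 := sg_one K (n := 2 + k) P.hv
    rw [← map_zero (incl (F := F) (k := k))] at h6
    have h7 := (sg_ext K P h5 h6 rfl).1
    rw [hg.2.2, one_mul] at h7
    have h8 : hermForm k F q z w • w = 0 := by
      rw [← h7]
      match_scalars
      · ring
      · linear_combination (-1 : F) * h2
    exact (smul_eq_zero.1 h8).resolve_right hw
  obtain ⟨a, rfl⟩ : ∃ a : F, a • w = z := by
    by_contra hne
    push Not at hne
    have hz : z ∉ Submodule.span F {w} := fun h => by
      obtain ⟨a, ha⟩ := Submodule.mem_span_singleton.1 h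
      exact hne a ha
    -- an isotropic vector perpendicular to `w`, not to `z`
    obtain ⟨c, hc, hcw, hzc⟩ : ∃ c, hermForm k F q c c = 0 ∧ hermForm k F q c w = 0 ∧ hermForm k F q z c ≠ 0 := by
      by_cases hzz : hermForm k F q z z = 0
      · obtain ⟨y, hy, hzy⟩ := exists_orth_one K hz
        have hyw : hermForm k F q w y = 0 := hy w (Submodule.mem_span_singleton_self w)
        obtain ⟨τ, hτ⟩ := (ClassicalAut.Unitary.space (n := k) K).tr y
        change hermForm k F q y y + (1 : F) * τ + K.bar τ = 0 at hτ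
        refine ⟨y + τ • z, ?_, ?_, ?_⟩
        · rw [one_mul] at hτ
          simp only [h_add_left K, h_add_right K, h_smul_left K, h_smul_right K, hzz, hzy, h_swap K z y, map_one]
          linear_combination hτ
        · rw [h_add_left K, h_smul_left K, hzw, h_eq_zero_symm K hyw, mul_zero, add_zero]
        · rw [h_add_right K, h_smul_right K, hzz, hzy, mul_zero, add_zero]; exact one_ne_zero
      · obtain ⟨p, hp, hpf⟩ := exists_aniso_orth K ![z, w] two_pos (by omega) (by omega) le_rfl (fun _ => ⟨0, 0, by simpa using hzz⟩)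
        have hpz : hermForm k F q p z = 0 := hpf 0
        have hpw : hermForm k F q p w = 0 := hpf 1
        have hp0 : p ≠ 0 := fun e => hp (by rw [e, h_zero_left K])
        obtain ⟨l, hl⟩ := K.exists_norm (-(hermForm k F q z z) / hermForm k F q p p)
          (by rw [map_div₀, map_neg, bar_self K, bar_self K])
        rw [eq_div_iff hp] at hl
        refine ⟨z + l • p, ?_, ?_, ?_⟩
        · simp only [h_add_left K, h_add_right K, h_smul_left K, h_smul_right K, hpz, h_eq_zero_symm K hpz]
          linear_combination hl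
        · rw [h_add_left K, h_smul_left K, hzw, hpw, mul_zero, add_zero]
        · rwa [h_add_right K, h_smul_right K, h_eq_zero_symm K hpz, mul_zero, add_zero]
    obtain ⟨h, hh⟩ := exists_T K hc (one_skew K hq)
    have hcomm : h * g = g * h := ext_app fun y => by
      rw [app_mul, app_mul, hh.2.2, hg.2.2, hg.2.2 (app h y), hh.2.2]
      simp only [h_add_left K, h_smul_left K, hcw, h_eq_zero_symm K hcw, mul_zero, add_zero]
      module
    obtain ⟨sh, zh, th, hsh, hshe⟩ := sectEmb_form K hM h
    have h1 : sh * (emb K h * s * (emb K h)⁻¹) = s * (emb K g * sh * (emb K g)⁻¹) := by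
      have h3 : sectEmb K hM h * sectEmb K hM g = sectEmb K hM g * sectEmb K hM h := by
        rw [← map_mul, ← map_mul, hcomm]
      have h4 : emb K h * emb K g = emb K g * emb K h := by rw [← map_mul, ← map_mul, hcomm]
      rw [hsg, hshe,
        show sh * emb K h * (s * emb K g) = sh * (emb K h * s * (emb K h)⁻¹) * (emb K h * emb K g) by group,
        show s * emb K g * (sh * emb K h) = s * (emb K g * sh * (emb K g)⁻¹) * (emb K g * emb K h) by group,
        h4] at h3
      exact mul_right_cancel h3
    have h5 := sg_mul K hsh (hconj h hs)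
    have h6 := sg_mul K hs (hconj g hsh)
    rw [← map_add] at h5 h6
    have h7 := (sg_ext K P h5 h6 h1).1
    rw [hh.2.2, hg.2.2, one_mul, one_mul] at h7
    have h8 : hermForm k F q z c • c = hermForm k F q zh w • w := by
      rw [show hermForm k F q z c • c = zh + (z + hermForm k F q z c • c) - (zh + z) by abel, h7]
      abel
    refine hzc ?_
    have h9 := congrArg (fun x => hermForm k F q z x) h8
    simp only [h_smul_right K, hzw, mul_zero] at h9
    exact ((mul_eq_zero.1 h9).elim (fun e => (map_eq_zero K.bar).1 e) id)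
  refine ⟨a, t, by
    have h := hs.2.2.1
    rwa [h_incl K, h_smul_left K, h_smul_right K, hg.1, mul_zero, mul_zero, zero_add] at h, fun y => ?_⟩
  rw [hsg, app_mul, (emb_isT K P hg).2.2, app_eq K hs, map_smul]
  simp only [h_add_left K, h_smul_left K, h_smul_right K, h_incl_v K P, h_incl K, hg.1, mul_zero, add_zero]
  match_scalars
  · ring
  · ring
  · linear_combination -(K.bar a * H y (incl w)) * h2

/-- Some centre lies over the point of the complement. -/
def Good (M : Subgroup G) (P : HPair (F := F) (q := q) (k := k)) (w : Fin k → F) : Prop :=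
  ∃ α : F, incl w + α • P.v ∈ centres K M

theorem good_move (hk : 3 ≤ k) (hM : IsCompl' K P M) {w w' : Fin k → F} (hw : hermForm k F q w w = 0) (hw0 : w ≠ 0)
    (hw' : hermForm k F q w' w' = 0) (hw0' : w' ≠ 0) (h : Good K M P w) : Good K M P w' := by
  obtain ⟨α, hα⟩ := h
  obtain ⟨g, hg⟩ := exists_move_one K hk hw0 hw0' (hw.trans hw'.symm)
  obtain ⟨s, z, t, hs, hsg⟩ := sectEmb_form K hM g
  have h1 := app_mem_centres K (sectEmb_mem K hM g) hα
  rw [hsg, app_mul, app_add, app_smul, app_emb_incl, hg, app_emb_of_prj K g P.v0, app_add, app_smul,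
    app_self K hs, app_eq K hs, h_incl_v K P, mul_zero, zero_smul, zero_smul, add_zero, add_zero] at h1
  refine ⟨α - H (incl w') (incl z), ?_⟩
  convert h1 using 1
  module

theorem card_perp_eq (hq : q = 2) (hk : 1 ≤ k) {p : V} (hp : p ≠ 0) (hpp : H p p = 0) :
    Nat.card {y : V // y ≠ 0 ∧ H y y = 0 ∧ H y p = 0 ∧ y ∉ Submodule.span F {p}} = 4 * nIso q k := by
  classical
  obtain ⟨P⟩ := exists_hpair K (k := k)
  obtain ⟨g, hg⟩ := exists_move_one K (show 3 ≤ 2 + k by omega) hp (v_ne P) (hpp.trans P.hv.symm)
  have hspan : ∀ y, y ∈ Submodule.span F {p} ↔ app g y ∈ Submodule.span F {P.v} := fun y => by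
    simp only [Submodule.mem_span_singleton]
    constructor
    · rintro ⟨a, rfl⟩; exact ⟨a, by rw [app_smul, hg]⟩
    · rintro ⟨a, ha⟩; exact ⟨a, app_injective g (by rw [app_smul, hg, ha])⟩
  have e1 : {y : V // y ≠ 0 ∧ H y y = 0 ∧ H y p = 0 ∧ y ∉ Submodule.span F {p}} ≃
      {y : V // y ≠ 0 ∧ H y y = 0 ∧ H y P.v = 0 ∧ y ∉ Submodule.span F {P.v}} :=
    { toFun := fun y => ⟨app g y.1, app_ne_zero g y.2.1, by rw [h_app]; exact y.2.2.1,
        by rw [← hg, h_app]; exact y.2.2.2.1, fun h => y.2.2.2.2 ((hspan _).2 h)⟩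
      invFun := fun y => ⟨app g⁻¹ y.1, app_ne_zero g⁻¹ y.2.1, by rw [h_app]; exact y.2.2.1, by
          rw [← h_app g, app_inv', hg]; exact y.2.2.2.1,
        fun h => y.2.2.2.2 (by have := (hspan _).1 h; rwa [app_inv'] at this)⟩
      left_inv := fun y => Subtype.ext (app_inv g _)
      right_inv := fun y => Subtype.ext (app_inv' g _) }
  have hcoord : ∀ y, H y P.v = 0 → y = H y P.u • P.v + incl (prj y) := fun y h => by
    conv_lhs => rw [decomp K P y, h, zero_smul, add_zero]
  have e2 : {y : V // y ≠ 0 ∧ H y y = 0 ∧ H y P.v = 0 ∧ y ∉ Submodule.span F {P.v}} ≃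
      F × {w : Fin k → F // w ≠ 0 ∧ hermForm k F q w w = 0} :=
    { toFun := fun y => (H y.1 P.u, ⟨prj y.1, fun h => y.2.2.2.2 (Submodule.mem_span_singleton.2
          ⟨H y.1 P.u, by conv_rhs => rw [hcoord _ y.2.2.2.1, h, map_zero, add_zero]⟩), by
          have h := h_expand K P y.1 y.1
          rw [y.2.2.1, y.2.2.2.1, map_zero, mul_zero, zero_mul, zero_add, zero_add] at h
          exact h.symm⟩)
      invFun := fun x => ⟨x.1 • P.v + incl x.2.1, fun h => x.2.2.1 (by
          have := congrArg prj h
          rwa [map_add, map_smul, P.v0, smul_zero, zero_add, prj_incl, map_zero] at this), by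
          simp only [h_add_left K, h_add_right K, h_smul_left K, h_smul_right K, P.hv, h_incl K, x.2.2.2,
            h_v_incl K P, h_incl_v K P, mul_zero, add_zero], by
          rw [h_add_left K, h_smul_left K, P.hv, h_incl_v K P, mul_zero, add_zero], fun h => x.2.2.1 (by
          obtain ⟨a, ha⟩ := Submodule.mem_span_singleton.1 h
          have := congrArg prj ha
          rw [map_add, map_smul, map_smul, P.v0, smul_zero, smul_zero, zero_add, prj_incl] at this
          exact this.symm)⟩
      left_inv := fun y => Subtype.ext (hcoord _ y.2.2.2.1).symm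
      right_inv := fun x => Prod.ext (by
        show H (x.1 • P.v + incl x.2.1) P.u = _
        rw [h_add_left K, h_smul_left K, P.hvu, h_incl_u K P, mul_one, add_zero]) (Subtype.ext (by
        show prj (x.1 • P.v + incl x.2.1) = _
        rw [map_add, map_smul, P.v0, smul_zero, zero_add, prj_incl])) }
  rw [Nat.card_congr (e1.trans e2), Nat.card_prod, K.card, card_norm_set K 0 (map_zero _), if_pos rfl, hq]
  norm_num

/-- Without centres over the complement, the orbit of the point is small. -/
theorem bound_of_not_good (hq : q = 2) (hk : 3 ≤ k) (hM : IsCompl' K P M)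
    (hforms : ∀ {w : Fin k → F}, w ≠ 0 → ∀ {g : SU k F q}, IsT K g w 1 → ∃ a t : F, t + K.bar t = 0 ∧
      ∀ y, app (sectEmb K hM g) y = y + (H y (incl w) + a * H y P.v) • incl w +
        (K.bar a * H y (incl w) + t * H y P.v) • P.v)
    (hno : ∀ w, hermForm k F q w w = 0 → w ≠ 0 → ¬Good K M P w) : Bound K M := by
  classical
  cases nonempty_fintype F
  have h2 := two_eq_zero K hq
  -- multiples of images of the point
  let O : Set V := {y | ∃ m ∈ M, ∃ c : F, c ≠ 0 ∧ y = c • app m P.v}
  have hOX : ∀ y ∈ O, y ≠ 0 ∧ H y y = 0 := by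
    rintro _ ⟨m, -, c, hc, rfl⟩
    exact ⟨smul_ne_zero hc (app_ne_zero m (v_ne P)), by rw [h_smul_left K, h_smul_right K, h_app, P.hv, mul_zero, mul_zero]⟩
  have hOfree : ∀ y ∈ O, ∀ g ∈ M, ∀ x τ, IsSg K g y x τ → g = 1 := by
    rintro _ ⟨m, hm, c, hc, rfl⟩ g hg x τ h
    have h1 := sg_conj K h m⁻¹
    rw [app_smul, app_inv, inv_inv] at h1
    have hx : H (app m⁻¹ x) P.v = 0 := by
      have := h1.2.1
      rw [h_smul_right K] at this
      exact (mul_eq_zero.1 this).resolve_left ((map_ne_zero K.bar).2 hc)
    have h2' := sg_smul K c h1 P.hv hx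
    have hmem : m⁻¹ * g * m ∈ M ⊓ rad K P := ⟨M.mul_mem (M.mul_mem (M.inv_mem hm) hg) hm, _, _, h2'⟩
    rw [hM.inter, Subgroup.mem_bot] at hmem
    rwa [mul_assoc, inv_mul_eq_one, right_eq_mul] at hmem
  -- one candidate over each point of the complement
  have hone : ∀ w, hermForm k F q w w = 0 → w ≠ 0 → ∃ a : F, ∀ α : F, incl w + α • P.v ∈ O → α = a := by
    intro w hw hw0
    obtain ⟨g, hg⟩ := exists_T K hw (one_skew K hq)
    obtain ⟨a, t, ht, hform⟩ := hforms hw0 hg
    have hdet : t + a * K.bar a ≠ 0 := fun h => hno w hw hw0 ⟨K.bar a, by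
      refine ⟨by simp [h_add_left K, h_add_right K, h_smul_left K, h_smul_right K, P.hv, h_incl K, hw, h_v_incl K P,
        h_incl_v K P], fun T c hT => ?_⟩
      by_cases hc : c = 0
      · subst hc
        have : T = 1 := ext_app fun y => by rw [hT.2.2, zero_mul, zero_smul, add_zero, app_one]
        rw [this]; exact M.one_mem
      have hc1 := skew_two K hq hT.2.1 hc
      subst hc1
      rw [show T = sectEmb K hM g from ext_app fun y => by
        rw [hT.2.2, hform, h_add_right K, h_smul_right K, K.bar_bar]
        match_scalars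
        · ring
        · ring
        · linear_combination (H y P.v) * (a * K.bar a * h2 - h)]
      exact sectEmb_mem K hM g⟩
    refine ⟨K.bar a, fun α hα => ?_⟩
    by_contra hne
    set d := α + K.bar a with hd
    have hd0 : d ≠ 0 := fun h => hne (by linear_combination h - K.bar a * h2)
    have hNd := norm_eq_one_two K hq hd0
    have hDet : t + a * K.bar a = 1 := by
      refine skew_two K hq ?_ hdet
      rw [map_add, map_mul, K.bar_bar]
      linear_combination ht + (a * K.bar a) * h2
    set c := incl w + α • P.v with hc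
    have hsg : IsSg K (sectEmb K hM g) c (d • P.v) 1 := by
      refine ⟨(hOX c hα).2, ?_, ?_, fun y => ?_⟩
      · rw [h_smul_left K, hc, h_add_right K, h_smul_right K, h_v_incl K P, P.hv, mul_zero, add_zero, mul_zero]
      · rw [h_smul_left K, h_smul_right K, P.hv, mul_zero, mul_zero, zero_add]; exact one_skew K hq
      · rw [hform, hc, h_add_right K, h_smul_right K, h_smul_right K]
        have hb : K.bar d = K.bar α + a := by rw [hd, map_add, K.bar_bar]
        rw [hb, hd] at hNd
        rw [hb, hd]
        match_scalars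
        · ring
        · linear_combination (H y P.v * a) * h2
        · linear_combination (H y P.v) * (hDet + hNd) - (K.bar a * H y P.v * K.bar α + K.bar a * H y P.v * a + H y (incl w) * α - H y P.v + H y P.v * K.bar α * α) * h2
    have h1 := hOfree c hα _ (sectEmb_mem K hM g) _ _ hsg
    obtain ⟨y, hy⟩ := (ClassicalAut.Unitary.space (n := k) K).exists_ne w hw0
    have h3 := hform (incl y)
    rw [h1, app_one, h_incl K, show hermForm k F q y w = 1 from hy, h_incl_v K P] at h3
    have h4 := congrArg prj h3
    simp [prj_incl, P.v0, hw0] at h4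
  choose! cand hcand using hone
  -- few orbit points perpendicular to the point
  have hfew : ∀ m ∈ M, ∀ c : F, c ≠ 0 →
      Nat.card {y : V // y ∈ O ∧ H y (c • app m P.v) = 0 ∧ y ∉ Submodule.span F {c • app m P.v}} ≤ nIso q k := by
    intro m hm c hc
    have hN := card_norm_set K (n := k) 0 (map_zero _)
    rw [if_pos rfl] at hN
    rw [← hN]
    let y' : {y : V // y ∈ O ∧ H y (c • app m P.v) = 0 ∧ y ∉ Submodule.span F {c • app m P.v}} → V :=
      fun y => app m⁻¹ y.1
    have hy' : ∀ y, y' y ∈ O ∧ H (y' y) P.v = 0 ∧ y' y ∉ Submodule.span F {P.v} := fun y => by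
      refine ⟨?_, ?_, fun h => y.2.2.2 ?_⟩
      · obtain ⟨m', hm', c', hc', e⟩ := y.2.1
        exact ⟨m⁻¹ * m', M.mul_mem (M.inv_mem hm) hm', c', hc', by simp only [y']; rw [e, app_smul, app_mul]⟩
      · have h := y.2.2.1
        rw [h_smul_right K] at h
        rw [← h_app m, app_inv']
        exact (mul_eq_zero.1 h).resolve_left ((map_ne_zero K.bar).2 hc)
      · obtain ⟨b, hb⟩ := Submodule.mem_span_singleton.1 h
        refine Submodule.mem_span_singleton.2 ⟨b / c, ?_⟩
        have := congrArg (app m) hb
        simp only [y', app_smul, app_inv'] at this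
        rw [smul_smul, div_mul_cancel₀ _ hc, this]
    have hdec : ∀ y, y' y = incl (prj (y' y)) + H (y' y) P.u • P.v := fun y => by
      conv_lhs => rw [decomp K P (y' y), (hy' y).2.1, zero_smul, add_zero, add_comm]
    have hw : ∀ y, prj (y' y) ≠ 0 ∧ hermForm k F q (prj (y' y)) (prj (y' y)) = 0 := fun y => by
      refine ⟨fun h => (hy' y).2.2 (Submodule.mem_span_singleton.2 ⟨H (y' y) P.u, ?_⟩), ?_⟩
      · conv_rhs => rw [hdec y, h, map_zero, zero_add]
      · have h := h_expand K P (y' y) (y' y)
        rw [(hOX _ (hy' y).1).2, (hy' y).2.1, map_zero, mul_zero, zero_mul, zero_add, zero_add] at h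
        exact h.symm
    refine Nat.card_le_card_of_injective (fun y => ⟨prj (y' y), hw y⟩) fun a b e => Subtype.ext ?_
    have e' : prj (y' a) = prj (y' b) := congrArg Subtype.val e
    have ha := hcand _ (hw a).2 (hw a).1 (H (y' a) P.u) (by rw [← hdec a]; exact (hy' a).1)
    have hb := hcand _ (hw b).2 (hw b).1 (H (y' b) P.u) (by rw [← hdec b]; exact (hy' b).1)
    have : y' a = y' b := by rw [hdec a, hdec b, ha, hb, e']
    exact app_injective m⁻¹ this
  -- double counting
  let X : Finset V := Finset.univ.filter fun y => y ≠ 0 ∧ H y y = 0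
  let OF : Finset V := Finset.univ.filter fun y => y ∈ O
  let r : V → V → Prop := fun p y => H y p = 0 ∧ y ∉ Submodule.span F {p}
  have hsub : OF ⊆ X := fun y hy => by
    simp only [OF, Finset.mem_filter, Finset.mem_univ, true_and] at hy
    simp only [X, Finset.mem_filter, Finset.mem_univ, true_and]
    exact hOX y hy
  have hA : ∀ p ∈ X, (X.filter (r p)).card = 4 * nIso q k := fun p hp => by
    simp only [X, Finset.mem_filter, Finset.mem_univ, true_and] at hp
    rw [← card_perp_eq K hq (show 1 ≤ k by omega) hp.1 hp.2, Nat.card_eq_fintype_card, Fintype.card_subtype]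
    congr 1
    ext y
    simp only [X, r, Finset.mem_filter, Finset.mem_univ, true_and]
    tauto
  have hB : ∀ p ∈ OF, (OF.filter (r p)).card ≤ nIso q k := fun p hp => by
    simp only [OF, Finset.mem_filter, Finset.mem_univ, true_and] at hp
    obtain ⟨m, hm, c, hc, rfl⟩ := hp
    refine le_trans (le_of_eq ?_) (hfew m hm c hc)
    rw [Nat.card_eq_fintype_card, Fintype.card_subtype]
    congr 1
    ext y
    simp only [OF, r, Finset.mem_filter, Finset.mem_univ, true_and]
  have hlow : ∀ p ∈ OF, 3 * nIso q k ≤ ((X \ OF).bipartiteAbove r p).card := fun p hp => by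
    have h1 := hA p (hsub hp)
    have h2 := hB p hp
    have e : X.filter (r p) = OF.filter (r p) ∪ (X \ OF).filter (r p) := by
      rw [← Finset.filter_union, Finset.union_sdiff_of_subset hsub]
    rw [e] at h1
    have := Finset.card_union_le (OF.filter (r p)) ((X \ OF).filter (r p))
    convert (show 3 * nIso q k ≤ ((X \ OF).filter (r p)).card by omega) using 2
    ext y
    simp
  have hup : ∀ y ∈ X \ OF, (OF.bipartiteBelow r y).card ≤ 4 * nIso q k := fun y hy => by
    rw [← hA y (Finset.mem_sdiff.1 hy).1]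
    refine Finset.card_le_card fun p hp => ?_
    simp only [Finset.mem_bipartiteBelow, r] at hp
    simp only [Finset.mem_filter, r]
    refine ⟨hsub hp.1, h_eq_zero_symm K hp.2.1, fun h => ?_⟩
    obtain ⟨b, rfl⟩ := Submodule.mem_span_singleton.1 h
    have hb : b ≠ 0 := fun e => by
      have := hsub hp.1
      simp [X, e] at this
    exact hp.2.2 (Submodule.mem_span_singleton.2 ⟨b⁻¹, by rw [smul_smul, inv_mul_cancel₀ hb, one_smul]⟩)
  have hcount := Finset.card_mul_le_card_mul r hlow hup
  rw [Finset.card_sdiff_of_subset hsub] at hcount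
  have hX : X.card = nIso q (2 + k) := by
    have h := card_norm_set K (n := 2 + k) 0 (map_zero _)
    rw [if_pos rfl, Nat.card_eq_fintype_card, Fintype.card_subtype] at h
    exact h
  have hle := Finset.card_le_card hsub
  have hbound := compl_orbit_bound K P M (by omega) hM.inter O fun m hm c hc => ⟨m, hm, c, hc, rfl⟩
  rw [show Nat.card O = OF.card by
    rw [Nat.card_eq_fintype_card, ← Set.toFinset_card]
    congr 1
    ext y
    simp [OF]] at hbound
  have hN := nIso_le (q := q) K.two_le (show 2 ≤ 2 + k by omega)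
  have hn0 : 0 < nIso q k := by
    rw [nIso, hq]
    have h1 : 2 ≤ 2 ^ k := Nat.le_self_pow (by omega) 2
    have h3 : 2 ≤ 2 ^ (k - 1) := Nat.le_self_pow (by omega) 2
    split_ifs <;> exact Nat.mul_pos (by omega) (by omega)
  have h7 : 7 * OF.card ≤ 4 * X.card := by
    have h8 : OF.card * 3 ≤ (X.card - OF.card) * 4 :=
      Nat.le_of_mul_le_mul_right (by rw [mul_assoc, mul_assoc]; exact hcount) hn0
    omega
  refine Or.inl ?_
  have hXpos : 0 < nIso q (2 + k) := hn0.trans_le (nIso_mono K.two_le (by omega))
  have h9 : 7 * q ^ (2 * k + 1) ≤ 4 * M.index := by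
    refine Nat.le_of_mul_le_mul_left ?_ hXpos
    calc nIso q (2 + k) * (7 * q ^ (2 * k + 1)) = 7 * (nIso q (2 + k) * q ^ (2 * k + 1)) := by ring
      _ ≤ 7 * (M.index * OF.card) := Nat.mul_le_mul_left _ hbound
      _ = M.index * (7 * OF.card) := by ring
      _ ≤ M.index * (4 * nIso q (2 + k)) := Nat.mul_le_mul_left _ (hX ▸ h7)
      _ = _ := by ring
  have e1 : q ^ (2 * k + 1) = 2 ^ (2 * k + 1) := by rw [hq]
  have e2 : q ^ 2 - 1 = 3 := by rw [hq]; norm_num
  have e3 : nIso q (2 + k) = nIso 2 (2 + k) := by rw [hq]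
  rw [e1] at h9
  rw [e2, e3]
  rw [hq] at hN
  rw [show 2 * (2 + k) - 1 = 2 * k + 1 + 2 by omega, pow_add] at hN
  have hpk : 2 ^ (2 + k) ≤ 2 ^ (2 * k + 1) := Nat.pow_le_pow_right (by omega) (by omega)
  norm_num at hN
  omega

end CfsgLib.MinIndexSU
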