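import Cfsg.Agent.Lib.MinIndexSU.Two

/-!
Over four elements, a complement contains the embedded group up to conjugation, or has large index.
-/

set_option autoImplicit false
set_option linter.unusedSectionVars false

namespace CfsgLib.MinIndexSU

open Matrix Cfsg CfsgLib.Classical.Herm CfsgLib.Classical.Elation
open CfsgLib.ClassicalAut (Unitary.Conj)

variable {F : Type*} [Field F] [Finite F] {q : ℕ} (K : Unitary.Conj F q) {k : ℕ}

local notation "V" => (Fin (2 + k) → F)
local notation "H" => hermForm (2 + k) F q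
local notation "G" => SU (2 + k) F q

include K

theorem app_T_five {n : ℕ} {g : Fin 5 → SU n F q} {w : Fin 5 → Fin n → F}
    (h : ∀ i, IsT K (g i) (w i) 1) (hperp : ∀ i j, hermForm n F q (w i) (w j) = 0) (y : Fin n → F) :
    app (g 0 * g 1 * g 2 * g 3 * g 4) y = y + hermForm n F q y (w 0) • w 0 + hermForm n F q y (w 1) • w 1 +
      hermForm n F q y (w 2) • w 2 + hermForm n F q y (w 3) • w 3 + hermForm n F q y (w 4) • w 4 := by
  simp only [app_mul, (h _).2.2, app_add, app_smul, h_add_left K, h_smul_left K, hperp, mul_zero, add_zero,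
    zero_smul, one_mul]
  abel

variable {P : HPair (F := F) (q := q) (k := k)} {M : Subgroup (SU (2 + k) F q)}

theorem centre_conj {n : ℕ} {M : Subgroup (SU n F q)} {c : Fin n → F} (r : SU n F q) (hc : c ∈ centres K M) :
    app r c ∈ centres K (M.map (MulAut.conj r).toMonoidHom) := by
  refine ⟨by rw [h_app]; exact hc.1, fun g t hg => ?_⟩
  have h := sg_conj K ((isT_iff K).1 hg) r⁻¹
  rw [app_inv, app_zero, inv_inv, ← isT_iff] at h
  refine ⟨r⁻¹ * g * r, hc.2 _ t h, ?_⟩
  show r * (r⁻¹ * g * r) * r⁻¹ = g
  group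

theorem emb_mem_of_centres (hk : 4 ≤ k) {M : Subgroup G} (P : HPair (F := F) (q := q) (k := k))
    (h : ∀ w, hermForm k F q w w = 0 → incl w ∈ centres K M) (g : SU k F q) : emb K g ∈ M := by
  have h1 : M.comap (emb K) = ⊤ := eq_top_of_centres K hk fun w hw =>
    ⟨hw, fun g c hg => (h w hw).2 _ c (emb_isT K P hg)⟩
  exact Subgroup.mem_comap.1 (h1 ▸ Subgroup.mem_top g)

theorem centre_unique (hM : IsCompl' K P M) (hq : q = 2) {w : Fin k → F} (hw : hermForm k F q w w = 0)
    {α α' : F} (h : incl w + α • P.v ∈ centres K M) (h' : incl w + α' • P.v ∈ centres K M) : α = α' := by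
  by_cases hw0 : w = 0
  · have key : ∀ β : F, incl w + β • P.v ∈ centres K M → β = 0 := fun β hβ => by
      by_contra hne
      have := smul_mem_centres K β⁻¹ hβ
      rw [hw0, map_zero, zero_add, smul_smul, inv_mul_cancel₀ hne, one_smul] at this
      exact not_centre_v K P M hM.inter this
    rw [key α h, key α' h']
  obtain ⟨g, hg⟩ := exists_T K hw (one_skew K hq)
  have h1 := (sectEmb_eq_of_centre K hM hw0 h hg).2.2
  have h2 := (sectEmb_eq_of_centre K hM hw0 h' hg).2.2
  obtain ⟨y, hy⟩ := (ClassicalAut.Unitary.space (n := k) K).exists_ne w hw0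
  have e := (h1 (incl y)).symm.trans (h2 (incl y))
  simp only [h_add_right K, h_smul_right K, h_incl K, h_incl_v K P, mul_zero, add_zero, one_mul,
    show hermForm k F q y w = 1 from hy, one_smul, add_right_inj] at e
  exact smul_left_injective F (v_ne P) e

theorem line_algebra (hq : q = 2) {ω : F} (hω : ω * ω + ω + 1 = 0) (hω3 : ω ^ 3 = 1) {A B b₁ b₂ b₃ : F}
    (e : A + b₁ + b₂ + b₃ = 0) (f : B + b₁ + ω * ω * b₂ + ω * b₃ = 0)
    (hN : A * K.bar A + B * K.bar B + b₁ * K.bar b₁ + b₂ * K.bar b₂ + b₃ * K.bar b₃ = 0) : b₁ = A + B := by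
  have h2 := two_eq_zero K hq
  have hb : K.bar ω = ω * ω := by rw [K.bar_apply, hq, sq]
  obtain ⟨d, hd⟩ : ∃ d, b₁ = d + A + B := ⟨b₁ - A - B, by ring⟩
  subst hd
  have h₂ : b₂ = ω * ω * d + A + ω * B := by
    linear_combination f - ω * e - (b₂ + d) * hω + ((1 + ω) * b₂ + ω * d - A - B + ω * A) * h2
  have h₃ : b₃ = ω * d + A + ω * ω * B := by
    linear_combination e - h₂ - (2 * A) * h2 - (d + B) * hω
  subst h₂; subst h₃
  simp only [map_add, map_mul, hb] at hN
  have h0 : d * K.bar d = 0 := by
    linear_combination hN - (ω ^ 3 * d * K.bar d + 2 * A * K.bar A + (1 + ω ^ 3) * B * K.bar B) * h2 -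
      (d * K.bar A + A * K.bar d + A * K.bar B + B * K.bar A + d * K.bar B + B * K.bar d) * hω -
      (ω * (d * K.bar B + B * K.bar d)) * hω3 -
      (ω ^ 3 * d * K.bar d + ω ^ 2 * d * K.bar B + ω * K.bar d * A + ω ^ 2 * K.bar d * B + ω * A * K.bar B +
        ω ^ 3 * B * K.bar B) * hω3
  rcases mul_eq_zero.1 h0 with h | h
  · rw [h, zero_add]
  · rw [(map_eq_zero K.bar).1 h, zero_add]

/-- The four element case. -/
theorem exists_conj_emb_two (hq : q = 2) (hk : 4 ≤ k) (hM : IsCompl' K P M) :
    Bound K M ∨ ∃ r ∈ rad K P, IsCompl' K P (M.map (MulAut.conj r).toMonoidHom) ∧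
      ∀ g : SU k F q, emb K g ∈ M.map (MulAut.conj r).toMonoidHom := by
  classical
  by_cases hno : ∀ w, hermForm k F q w w = 0 → w ≠ 0 → ¬Good K M P w
  · exact Or.inl (bound_of_not_good K hq (by omega) hM (fun hw => exists_form K hq hk hM hw) hno)
  push Not at hno
  obtain ⟨w₀, hw₀, hw₀0, hgood⟩ := hno
  refine Or.inr ?_
  have h2 := two_eq_zero K hq
  have hall : ∀ w, hermForm k F q w w = 0 → Good K M P w := fun w hw => by
    by_cases h0 : w = 0
    · refine ⟨0, ?_⟩
      rw [h0, map_zero, zero_add]
      obtain ⟨α, hα⟩ := hgood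
      have := smul_mem_centres K (0 : F) hα
      rwa [zero_smul, ← zero_smul F P.v] at this
    · exact good_move K (by omega) hM hw₀ hw₀0 hw h0 hgood
  choose! α hα using hall
  have hs : ∀ (μ : F) w, hermForm k F q w w = 0 → α (μ • w) = μ * α w := fun μ w hw => by
    have hw' : hermForm k F q (μ • w) (μ • w) = 0 := by rw [h_smul_left K, h_smul_right K, hw, mul_zero, mul_zero]
    refine centre_unique K hM hq hw' (hα _ hw') ?_
    have := smul_mem_centres K μ (hα w hw)
    rwa [smul_add, ← map_smul, smul_smul] at this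
  have hcc : ∀ w w' (a a' : F), H (incl w + a • P.v) (incl w' + a' • P.v) = hermForm k F q w w' :=
    fun w w' a a' => by
      simp only [h_add_left K, h_add_right K, h_smul_left K, h_smul_right K, h_incl K, h_incl_v K P, h_v_incl K P,
        P.hv, mul_zero, add_zero]
  have hadd : ∀ w w', hermForm k F q w w = 0 → hermForm k F q w' w' = 0 → hermForm k F q (w + w') (w + w') = 0 →
      α (w + w') = α w + α w' := by
    intro w w' hw hw' hs'
    have hsk : hermForm k F q w' w + K.bar (hermForm k F q w' w) = 0 := by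
      rw [← h_swap K w' w]
      simp only [h_add_left K, h_add_right K, hw, hw', add_zero, zero_add] at hs'
      linear_combination hs'
    by_cases hh : hermForm k F q w' w = 0
    swap
    · obtain ⟨T, hT⟩ := exists_T K (hα w hw).1 (one_skew K hq)
      have h := app_mem_centres K ((hα w hw).2 T 1 hT) (hα w' hw')
      rw [hT.2.2, one_mul, hcc, skew_two K hq hsk hh, one_smul] at h
      refine centre_unique K hM hq hs' (hα _ hs') ?_
      convert h using 1
      rw [map_add]
      module
    by_cases hdep : ∃ μ : F, μ • w = w'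
    · obtain ⟨μ, rfl⟩ := hdep
      rw [show w + μ • w = (1 + μ) • w by rw [add_smul, one_smul], hs _ w hw, hs _ w hw]
      ring
    by_cases hw0 : w = 0
    · subst hw0
      rw [zero_add, show α (0 : Fin k → F) = 0 by simpa using hs 0 0 hw, zero_add]
    push Not at hdep
    obtain ⟨ω, hω, hω3⟩ := exists_omega K hq
    have hhs : hermForm k F q w w' = 0 := h_eq_zero_symm K hh
    let W : Fin 5 → Fin k → F := ![w, w', w + w', w + ω • w', w + (ω * ω) • w']
    have hW : ∀ i j, hermForm k F q (W i) (W j) = 0 := by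
      intro i j
      fin_cases i <;> fin_cases j <;>
        simp [W, h_add_left K, h_add_right K, h_smul_left K, h_smul_right K, hw, hw', hh, hhs]
    have hT : ∀ i, ∃ g, IsT K g (W i) 1 := fun i => exists_T K (hW i i) (one_skew K hq)
    choose g hg using hT
    have hb : K.bar ω = ω * ω := by rw [K.bar_apply, hq, sq]
    have h1 : g 0 * g 1 * g 2 * g 3 * g 4 = 1 := ext_app fun y => by
      rw [app_T_five K hg hW, app_one]
      simp only [W, Matrix.cons_val_zero, Matrix.cons_val_one, Matrix.cons_val, h_add_right K, h_smul_right K, map_mul, hb]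
      match_scalars
      · ring
      · linear_combination (2 * hermForm k F q y w) * h2 + (hermForm k F q y w') * hω +
          (hermForm k F q y w' * ω) * hω3
      · linear_combination (hermForm k F q y w') * h2 + (hermForm k F q y w) * hω +
          (2 * hermForm k F q y w' + hermForm k F q y w' * ω ^ 3) * hω3 + (hermForm k F q y w') * h2
    let C : Fin 5 → V := fun i => incl (W i) + α (W i) • P.v
    have hne : ∀ i, W i ≠ 0 := by
      intro i
      have key : ∀ a : F, w + a • w' ≠ 0 := fun a e => by
        by_cases ha : a = 0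
        · rw [ha, zero_smul, add_zero] at e; exact hw0 e
        · refine hdep (-a⁻¹) ?_
          rw [show w = -(a • w') from eq_neg_of_add_eq_zero_left e, smul_neg, smul_smul, neg_mul,
            inv_mul_cancel₀ ha, neg_smul, one_smul, neg_neg]
      fin_cases i
      · simpa [W] using hw0
      · intro e
        exact hdep 0 (by rw [zero_smul]; simpa [W] using e.symm)
      · simpa [W] using key 1
      · simpa [W] using key ω
      · simpa [W] using key (ω * ω)
    have h3 : ∀ y, app (sectEmb K hM (g 0) * sectEmb K hM (g 1) * sectEmb K hM (g 2) * sectEmb K hM (g 3) *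
        sectEmb K hM (g 4)) y = y := fun y => by rw [← map_mul, ← map_mul, ← map_mul, ← map_mul, h1, map_one, app_one]
    have h4 := h3 P.u
    rw [app_T_five K (g := fun i => sectEmb K hM (g i)) (w := C)
      (fun i => sectEmb_eq_of_centre K hM (hne i) (hα _ (hW i i)) (hg i))
      (fun i j => (hcc _ _ _ _).trans (hW i j))] at h4
    have hu : ∀ i, H P.u (C i) = K.bar (α (W i)) := fun i => by
      simp only [C, h_add_right K, h_smul_right K, h_u_incl K P, h_uv K P, zero_add, mul_one]
    simp only [hu] at h4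
    have h5 := congrArg prj h4
    have h6 := congrArg (fun x => H x P.u) h4
    simp only [C, map_add, map_smul, prj_incl, P.u0, P.v0, smul_zero, add_zero, zero_add] at h5
    simp only [C, h_add_left K, h_smul_left K, P.hu, P.hvu, h_incl_u K P, mul_one, zero_add] at h6
    simp only [W, Matrix.cons_val_zero, Matrix.cons_val_one, Matrix.cons_val] at h5 h6
    set A := α w
    set B := α w'
    set b₁ := α (w + w')
    set b₂ := α (w + ω • w')
    set b₃ := α (w + (ω * ω) • w')
    have hind : LinearIndependent F ![w, w'] := (LinearIndependent.pair_iff' hw0).2 hdep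
    have h7 := LinearIndependent.pair_iff.1 hind (K.bar A + K.bar b₁ + K.bar b₂ + K.bar b₃)
      (K.bar B + K.bar b₁ + ω * K.bar b₂ + ω * ω * K.bar b₃) (by
        rw [← h5]; module)
    have e := congrArg K.bar h7.1
    have f := congrArg K.bar h7.2
    simp only [map_add, map_mul, map_zero, K.bar_bar, hb] at e f
    refine line_algebra K hq hω hω3 (A := A) (B := B) (b₁ := b₁) (b₂ := b₂) (b₃ := b₃) e ?_ ?_
    · linear_combination f - (ω * b₃) * hω3
    · linear_combination h6
  obtain ⟨x₀, hx₀⟩ := exists_repr_cone K hq (by omega) α hs hadd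
  obtain ⟨t, ht⟩ := (ClassicalAut.Unitary.space (n := k) K).tr x₀
  change hermForm k F q x₀ x₀ + (1 : F) * t + K.bar t = 0 at ht
  rw [one_mul, ← h_incl K (k := k)] at ht
  obtain ⟨r, hr⟩ := exists_sg K (show 3 ≤ 2 + k by omega) P.hv (h_incl_v K P x₀) ht
  refine ⟨r, ⟨_, _, hr⟩, isCompl_conj K hM ⟨_, _, hr⟩, emb_mem_of_centres K hk P fun w hw => ?_⟩
  have h := centre_conj K r (hα w hw)
  rwa [app_add, app_smul, app_self K hr, app_eq K hr, h_incl_v K P, h_incl K, ← hx₀ w hw, mul_zero, zero_smul,
    zero_smul, add_zero, add_zero, sub_add_cancel] at h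

end CfsgLib.MinIndexSU
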